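import Mathlib

/-! Surjections from restricted power series rings onto adically complete algebras (helper2). -/

set_option autoImplicit false

namespace Helper1.AdicSurjV

universe u v

open AdicCompletion in
theorem h2_adic_mvPolynomial_surj (A : Type u) [CommRing A] (I : Ideal A) (hI : I.FG)
    (B : Type v) [CommRing B] [Algebra A B] [IsAdicComplete (I.map (algebraMap A B)) B]
    (r : ℕ) (b : Fin r → B)
    (hb : Function.Surjective ((Ideal.Quotient.mk (I.map (algebraMap A B))).comp
      ((MvPolynomial.aeval b : MvPolynomial (Fin r) A →ₐ[A] B) : MvPolynomial (Fin r) A →+* B))) :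
    ∃ φ : AdicCompletion (I.map (MvPolynomial.C : A →+* MvPolynomial (Fin r) A))
        (MvPolynomial (Fin r) A) →ₐ[A] B, Function.Surjective φ := by
  set P := MvPolynomial (Fin r) A with hP
  set J : Ideal P := I.map (MvPolynomial.C : A →+* P) with hJ
  set K : Ideal B := I.map (algebraMap A B) with hK
  let ψ : P →ₐ[A] B := MvPolynomial.aeval b
  have hJfg : J.FG := hI.map _
  have hJK : J.map (ψ : P →+* B) = K := by
    rw [hJ, Ideal.map_map]
    congr 1
    ext a
    exact MvPolynomial.aeval_C b a
  have hle : ∀ n : ℕ, J ^ n ≤ (K ^ n).comap ψ := by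
    intro n
    rw [← Ideal.map_le_iff_le_comap]
    change Ideal.map (ψ : P →+* B) (J ^ n) ≤ K ^ n
    rw [Ideal.map_pow, hJK]
  let f : ∀ n : ℕ, AdicCompletion J P →ₐ[A] B ⧸ K ^ n := fun n =>
    (Ideal.quotientMapₐ (K ^ n) ψ (hle n)).comp ((AdicCompletion.evalₐ J n).restrictScalars A)
  have hfof : ∀ (n : ℕ) (x : P), f n (AdicCompletion.of J P x) = Ideal.Quotient.mk (K ^ n) (ψ x) := by
    intro n x
    simp only [f, AlgHom.comp_apply, AlgHom.restrictScalars_apply, AdicCompletion.evalₐ_of]
    rfl
  have hf : ∀ {m n : ℕ} (hle : m ≤ n),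
      (Ideal.Quotient.factorₐ A (Ideal.pow_le_pow_right hle)).comp (f n) = f m := by
    intro m n hmn
    apply AlgHom.ext
    intro x
    obtain ⟨a, rfl⟩ := AdicCompletion.mk_surjective J P x
    simp only [f, AlgHom.comp_apply, AlgHom.restrictScalars_apply, AdicCompletion.evalₐ_mk]
    change Ideal.Quotient.factor (Ideal.pow_le_pow_right hmn)
      (Ideal.Quotient.mk (K ^ n) (ψ (a n))) = Ideal.Quotient.mk (K ^ m) (ψ (a m))
    rw [Ideal.Quotient.factor_mk, Ideal.Quotient.eq, ← map_sub]
    apply hle m
    have := a.2 hmn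
    rw [SModEq.sub_mem, smul_eq_mul, Ideal.mul_top] at this
    rw [← neg_sub]
    exact neg_mem this
  let φ : AdicCompletion J P →ₐ[A] B := IsAdicComplete.liftAlgHom K f hf
  have hφmk : ∀ (n : ℕ) (x : AdicCompletion J P),
      Ideal.Quotient.mk (K ^ n) (φ x) = f n x := fun n x =>
    IsAdicComplete.mk_liftAlgHom K f hf n x
  have hφof : ∀ x : P, φ (AdicCompletion.of J P x) = ψ x := by
    intro x
    have h0 : φ (AdicCompletion.of J P x) - ψ x = 0 := by
      apply IsHausdorff.haus' (I := K)
      intro n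
      rw [SModEq.zero, smul_eq_mul, Ideal.mul_top, ← Ideal.Quotient.eq, hφmk, hfof]
    exact sub_eq_zero.mp h0
  refine ⟨φ, ?_⟩
  have hmap : (J.map (algebraMap P (AdicCompletion J P))).map (φ : AdicCompletion J P →+* B)
      = K := by
    rw [Ideal.map_map, ← hJK]
    congr 1
    exact RingHom.ext fun x => hφof x
  have hprec : IsPrecomplete (J.map (algebraMap P (AdicCompletion J P))) (AdicCompletion J P) :=
    ((IsAdicComplete.map_algebraMap_iff (R := P) (S := AdicCompletion J P)
      (M := AdicCompletion J P) (I := J)).mpr (AdicCompletion.isAdicComplete hJfg)).toIsPrecomplete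
  have hhaus : IsHausdorff ((J.map (algebraMap P (AdicCompletion J P))).map
      (φ : AdicCompletion J P →+* B)) B := by
    rw [hmap]; infer_instance
  apply surjective_of_mk_map_comp_surjective (I := J.map (algebraMap P (AdicCompletion J P)))
    (f := (φ : AdicCompletion J P →+* B))
  rw [hmap]
  intro y
  obtain ⟨F, hF⟩ := hb y
  refine ⟨AdicCompletion.of J P F, ?_⟩
  rw [← hF]
  simp only [RingHom.comp_apply]
  congr 1
  exact hφof F

end Helper1.AdicSurjV
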