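import Mathlib.AlgebraicGeometry.Morphisms.FlatDescent
import Mathlib.AlgebraicGeometry.Morphisms.QuasiSeparated
import Mathlib.AlgebraicGeometry.PullbackCarrier

/-! Helper lemmas (helper1): quasi-compactness descends along surjective quasi-compact morphisms. -/

set_option autoImplicit false

namespace Helper1

open CategoryTheory CategoryTheory.Limits AlgebraicGeometry MorphismProperty

universe u

/-- Quasi-compact descends along surjective quasi-compact morphisms. -/
theorem quasiCompact_of_isPullback {A X Y Z : Scheme.{u}} {fst : A ⟶ X} {snd : A ⟶ Y}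
    {f : X ⟶ Z} {g : Y ⟶ Z} (h : IsPullback fst snd f g) [Surjective f] [QuasiCompact f]
    [QuasiCompact fst] : QuasiCompact g := by
  constructor
  intro U hU hUc
  have hsnd : Surjective snd := MorphismProperty.of_isPullback (P := @Surjective) h ‹_›
  have h1 : IsCompact (f ⁻¹' U) := QuasiCompact.isCompact_preimage U hU hUc
  have h2 : IsCompact (fst ⁻¹' (f ⁻¹' U)) :=
    QuasiCompact.isCompact_preimage _ (hU.preimage f.continuous) h1
  have h3 : (g ⁻¹' U : Set Y) = snd '' (fst ⁻¹' (f ⁻¹' U)) := by
    have : (fst ⁻¹' (f ⁻¹' U) : Set A) = snd ⁻¹' (g ⁻¹' U) := by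
      ext a
      simp only [Set.mem_preimage]
      rw [← Scheme.Hom.comp_apply, ← Scheme.Hom.comp_apply, h.w]
    rw [this, Set.image_preimage_eq _ snd.surjective]
  rw [h3]
  exact h2.image snd.continuous

theorem descendsAlong_quasiCompact :
    MorphismProperty.DescendsAlong @QuasiCompact
      (@Surjective ⊓ @Flat ⊓ @QuasiCompact : MorphismProperty Scheme.{u}) where
  of_isPullback {A X Y Z fst snd f g} h hf hfst := by
    have : Surjective f := hf.1.1
    have : QuasiCompact f := hf.2
    have : QuasiCompact fst := hfst
    exact quasiCompact_of_isPullback h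

end Helper1

namespace Helper1

open CategoryTheory CategoryTheory.Limits AlgebraicGeometry MorphismProperty

universe u

theorem descendsAlong_quasiSeparated :
    MorphismProperty.DescendsAlong @QuasiSeparated
      (@Surjective ⊓ @Flat ⊓ @QuasiCompact : MorphismProperty Scheme.{u}) := by
  rw [quasiSeparated_eq_diagonal_is_quasiCompact]
  have := descendsAlong_quasiCompact.{u}
  infer_instance

end Helper1
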