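import Mathlib.AlgebraicGeometry.Morphisms.FlatDescent
import Mathlib.AlgebraicGeometry.Morphisms.Flat
import Mathlib.AlgebraicGeometry.Morphisms.Affine
import Groth.Agent.Lib.helper1.DescentQC

/-! Helper lemmas (helper1): affine morphisms descend along fpqc morphisms. -/

set_option autoImplicit false

namespace Helper1

open CategoryTheory CategoryTheory.Limits AlgebraicGeometry MorphismProperty Opposite

universe u

/-- Core lemma: if `T → B` is a flat surjective morphism of affine schemes, `Y → B` is a morphism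
from a qcqs scheme such that `Y ×_B T` is affine, then `Y` is affine. -/
theorem isAffine_of_isPullback_of_flat_surjective {P Y T B : Scheme.{u}}
    {snd : P ⟶ Y} {fst : P ⟶ T} {g : Y ⟶ B} {f : T ⟶ B} (H : IsPullback snd fst g f)
    [IsAffine T] [IsAffine B] [IsAffine P] [Flat f] [Surjective f]
    [CompactSpace Y] [QuasiSeparatedSpace Y] : IsAffine Y := by
  -- flat base change for global sections
  have hiso : IsIso (pushoutSection H (US := ⊤) (UT := ⊤) (UX := ⊤) (UY := ⊤)
      (by simp) (by simp) (by simp)) :=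
    isIso_pushoutSection_of_isQuasiSeparated_of_flat_right H _ _ _
      (isAffineOpen_top B) (isAffineOpen_top T) isCompact_univ isQuasiSeparated_univ
  rw [isIso_pushoutSection_iff] at hiso
  have h2 := hiso.op.map Scheme.Spec
  have e1 : Scheme.Hom.appLE g ⊤ ⊤ (by simp) = g.appTop := by simp [Scheme.Hom.appLE, Scheme.Hom.appTop]
  have e2 : Scheme.Hom.appLE f ⊤ ⊤ (by simp) = f.appTop := by simp [Scheme.Hom.appLE, Scheme.Hom.appTop]
  have e3 : Scheme.Hom.appLE snd ⊤ ⊤ (by simp) = snd.appTop := by simp [Scheme.Hom.appLE, Scheme.Hom.appTop]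
  have e4 : Scheme.Hom.appLE fst ⊤ ⊤ (by simp) = fst.appTop := by simp [Scheme.Hom.appLE, Scheme.Hom.appTop]
  rw [e1, e2, e3, e4] at h2
  change IsPullback (Spec.map fst.appTop) (Spec.map snd.appTop) (Spec.map f.appTop)
    (Spec.map g.appTop) at h2
  -- the square f, toSpecΓ is a pullback
  have hbot : IsPullback f T.toSpecΓ B.toSpecΓ (Spec.map f.appTop) :=
    IsPullback.of_vert_isIso ⟨Scheme.toSpecΓ_naturality f⟩
  have houter := H.paste_vert hbot
  rw [Scheme.toSpecΓ_naturality fst, Scheme.toSpecΓ_naturality g] at houter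
  have htop : IsPullback snd P.toSpecΓ Y.toSpecΓ (Spec.map snd.appTop) :=
    IsPullback.of_bot houter (Scheme.toSpecΓ_naturality snd) h2.flip
  -- the morphism `Spec.map snd.appTop` is fpqc
  have hQ : (@Surjective ⊓ @Flat ⊓ @QuasiCompact : MorphismProperty Scheme.{u}) (Spec.map f.appTop) := by
    have : (@Surjective ⊓ @Flat ⊓ @QuasiCompact : MorphismProperty Scheme.{u}) f :=
      ⟨⟨inferInstance, inferInstance⟩, inferInstance⟩
    have h3 := (MorphismProperty.cancel_right_of_respectsIso
      (@Surjective ⊓ @Flat ⊓ @QuasiCompact : MorphismProperty Scheme.{u}) f B.toSpecΓ).mpr this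
    rw [Scheme.toSpecΓ_naturality f] at h3
    exact (MorphismProperty.cancel_left_of_respectsIso
      (@Surjective ⊓ @Flat ⊓ @QuasiCompact : MorphismProperty Scheme.{u}) T.toSpecΓ _).mp h3
  have hQ' : (@Surjective ⊓ @Flat ⊓ @QuasiCompact : MorphismProperty Scheme.{u})
      (Spec.map snd.appTop) := MorphismProperty.of_isPullback h2 hQ
  have : (MorphismProperty.isomorphisms Scheme.{u}) Y.toSpecΓ :=
    MorphismProperty.of_isPullback_of_descendsAlong
      (P := MorphismProperty.isomorphisms Scheme.{u})
      (Q := (@Surjective ⊓ @Flat ⊓ @QuasiCompact : MorphismProperty Scheme.{u}))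
      htop.flip hQ' (inferInstanceAs (IsIso P.toSpecΓ))
  exact ⟨this⟩

theorem descendsAlong_isAffineHom :
    MorphismProperty.DescendsAlong @IsAffineHom
      (@Surjective ⊓ @Flat ⊓ @QuasiCompact : MorphismProperty Scheme.{u}) := by
  refine IsZariskiLocalAtTarget.descendsAlong_inf_quasiCompact _ _ ?_ ?_
  · rw [inf_comm]
    exact inf_le_inf le_rfl (IsLocalIso.le_of_isZariskiLocalAtSource _)
  intro R S Y φ g hφ hfst
  have hs : Surjective (Spec.map φ) := hφ.1
  have hf : Flat (Spec.map φ) := hφ.2
  have hfst' : IsAffineHom (pullback.fst (Spec.map φ) g) := hfst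
  have : IsAffine (pullback (Spec.map φ) g) := isAffine_of_isAffineHom (pullback.fst _ _)
  have hpb := IsPullback.of_hasPullback (Spec.map φ) g
  have hqc : QuasiCompact g := quasiCompact_of_isPullback hpb
  have hqs : QuasiSeparated g :=
    have := descendsAlong_quasiSeparated.{u}
    MorphismProperty.of_isPullback_of_descendsAlong (P := @QuasiSeparated)
      (Q := (@Surjective ⊓ @Flat ⊓ @QuasiCompact : MorphismProperty Scheme.{u}))
      hpb ⟨⟨hs, hf⟩, inferInstance⟩ (inferInstanceAs (QuasiSeparated (pullback.fst (Spec.map φ) g)))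
  have : CompactSpace Y := QuasiCompact.compactSpace_of_compactSpace g
  have : QuasiSeparatedSpace Y := quasiSeparatedSpace_of_quasiSeparated g
  have : IsAffine Y := isAffine_of_isPullback_of_flat_surjective hpb.flip
  show IsAffineHom g
  infer_instance

end Helper1
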