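import Groth.Agent.Lib.helper1.AffineDescent
import Mathlib.AlgebraicGeometry.Morphisms.Finite
import Mathlib.AlgebraicGeometry.Morphisms.Integral
import Mathlib.AlgebraicGeometry.Morphisms.Proper
import Mathlib.AlgebraicGeometry.Morphisms.LocalFlatDescent
import Mathlib.RingTheory.Finiteness.Descent

/-! Helper lemmas (helper1): closed immersions, finite, separated, proper morphisms descend along
fpqc morphisms. -/

set_option autoImplicit false

namespace Helper1

open CategoryTheory CategoryTheory.Limits AlgebraicGeometry MorphismProperty Opposite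

universe u

lemma localIso_surj_le : (@IsLocalIso ⊓ @Surjective : MorphismProperty Scheme.{u}) ≤
    (@Surjective ⊓ @Flat : MorphismProperty Scheme.{u}) := by
  rw [inf_comm]
  exact inf_le_inf le_rfl (IsLocalIso.le_of_isZariskiLocalAtSource _)

lemma faithfullyFlat_of_SpecMap {R S : CommRingCat.{u}} {f : R ⟶ S}
    (hf : (@Surjective ⊓ @Flat : MorphismProperty Scheme.{u}) (Spec.map f)) :
    f.hom.FaithfullyFlat := by
  obtain ⟨hf₁, hf₂⟩ := hf
  rw [RingHom.FaithfullyFlat.iff_flat_and_comap_surjective]
  refine ⟨?_, (Spec.map f).surjective⟩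
  rwa [HasRingHomProperty.Spec_iff (P := @Flat)] at hf₂

/-- Variant of `HasAffineProperty.descendsAlong_of_affineAnd` for fpqc morphisms. -/
lemma descendsAlong_fpqc_of_affineAnd (P : MorphismProperty Scheme.{u})
    [P.IsStableUnderBaseChange]
    (Q : ∀ {R S : Type u} [CommRing R] [CommRing S], (R →+* S) → Prop)
    (hP : HasAffineProperty P (affineAnd Q))
    (hQ : RingHom.RespectsIso Q) (hQQ' : RingHom.CodescendsAlong Q RingHom.FaithfullyFlat) :
    P.DescendsAlong (@Surjective ⊓ @Flat ⊓ @QuasiCompact : MorphismProperty Scheme.{u}) := by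
  apply IsZariskiLocalAtTarget.descendsAlong_inf_quasiCompact _ _ localIso_surj_le
  introv h hf
  have : IsAffine Y := by
    have haff : IsAffineHom (pullback.fst (Spec.map φ) g) :=
      AlgebraicGeometry.HasAffineProperty.affineAnd_le_isAffineHom P inferInstance _ hf
    have := descendsAlong_isAffineHom.{u}
    have : IsAffineHom g :=
      MorphismProperty.of_pullback_fst_of_descendsAlong (P := @IsAffineHom)
        (Q := (@Surjective ⊓ @Flat ⊓ @QuasiCompact : MorphismProperty Scheme.{u}))
        (f := Spec.map φ) ⟨h, inferInstance⟩ haff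
    exact isAffine_of_isAffineHom g
  wlog hY : ∃ S, Y = Spec S generalizing Y
  · rw [← P.cancel_left_of_respectsIso Y.isoSpec.inv]
    have heq : pullback.fst (Spec.map φ) (Y.isoSpec.inv ≫ g) =
        pullback.map _ _ _ _ (𝟙 _) (Y.isoSpec.inv) (𝟙 _) (by simp) (by simp) ≫
          pullback.fst (Spec.map φ) g := (pullback.lift_fst _ _ _).symm
    refine this _ ?_ inferInstance ⟨_, rfl⟩
    rwa [heq, P.cancel_left_of_respectsIso]
  obtain ⟨Y, rfl⟩ := hY
  apply of_pullback_fst_Spec_of_codescendsAlong (P := P)
    (P' := (@Surjective ⊓ @Flat : MorphismProperty Scheme.{u})) hQQ'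
    faithfullyFlat_of_SpecMap _ h hf
  simp [HasAffineProperty.SpecMap_iff_of_affineAnd hP hQ]

theorem descendsAlong_isClosedImmersion :
    MorphismProperty.DescendsAlong @IsClosedImmersion
      (@Surjective ⊓ @Flat ⊓ @QuasiCompact : MorphismProperty Scheme.{u}) :=
  descendsAlong_fpqc_of_affineAnd @IsClosedImmersion (fun f => Function.Surjective f)
    IsClosedImmersion.hasAffineProperty RingHom.surjective_respectsIso
    RingHom.FaithfullyFlat.codescendsAlong_surjective

theorem descendsAlong_isFinite :
    MorphismProperty.DescendsAlong @IsFinite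
      (@Surjective ⊓ @Flat ⊓ @QuasiCompact : MorphismProperty Scheme.{u}) :=
  descendsAlong_fpqc_of_affineAnd @IsFinite RingHom.Finite
    inferInstance RingHom.finite_respectsIso
    RingHom.Finite.codescendsAlong_faithfullyFlat

theorem descendsAlong_isSeparated :
    MorphismProperty.DescendsAlong @IsSeparated
      (@Surjective ⊓ @Flat ⊓ @QuasiCompact : MorphismProperty Scheme.{u}) := by
  rw [IsSeparated.isSeparated_eq_diagonal_isClosedImmersion]
  have := descendsAlong_isClosedImmersion.{u}
  infer_instance

end Helper1

namespace Helper1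

open CategoryTheory CategoryTheory.Limits AlgebraicGeometry MorphismProperty Opposite

universe u

theorem descendsAlong_isProper :
    MorphismProperty.DescendsAlong @IsProper
      (@Surjective ⊓ @Flat ⊓ @QuasiCompact : MorphismProperty Scheme.{u}) := by
  rw [isProper_eq]
  have := descendsAlong_isSeparated.{u}
  infer_instance

end Helper1
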