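import Mathlib
import Groth.Agent.Lib.helper1.LocalCrit

/-!
# Local criterion of flatness: separatedness and consequences (helper1)
-/

universe u

namespace Helper1

open scoped TensorProduct
open Function

theorem iInf_pow_smul_tensor_eq_bot {R S : Type u} [CommRing R] [CommRing S]
    [IsNoetherianRing R] [IsNoetherianRing S] [Algebra R S] (M : Type u) [AddCommGroup M]
    [Module R M] [Module S M] [IsScalarTower R S M] [Module.Finite S M]
    (I : Ideal R) (hI : I.map (algebraMap R S) ≤ Ideal.jacobson ⊥) (𝔞 : Ideal R) :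
    (⨅ n : ℕ, I ^ n • (⊤ : Submodule R (𝔞 ⊗[R] M))) = ⊥ := by
  haveI : Module.Finite S (M ⊗[R] 𝔞) :=
    Module.Finite.equiv (TensorProduct.AlgebraTensorModule.cancelBaseChange R S S M 𝔞)
  have hkrull := Ideal.iInf_pow_smul_eq_bot_of_le_jacobson (M := M ⊗[R] 𝔞)
    (I.map (algebraMap R S)) hI
  rw [eq_bot_iff]
  intro x hx
  rw [Submodule.mem_bot]
  have hx' : (TensorProduct.comm R 𝔞 M) x ∈
      (⨅ n : ℕ, (I.map (algebraMap R S)) ^ n • (⊤ : Submodule S (M ⊗[R] 𝔞))) := by
    rw [Submodule.mem_iInf] at hx ⊢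
    intro n
    refine Submodule.smul_induction_on (p := fun y => (TensorProduct.comm R 𝔞 M) y ∈
      ((I.map (algebraMap R S)) ^ n • (⊤ : Submodule S (M ⊗[R] 𝔞)))) (hx n) ?_ ?_
    · intro c hc y _
      rw [map_smul, ← algebraMap_smul S c]
      refine Submodule.smul_mem_smul ?_ Submodule.mem_top
      rw [← Ideal.map_pow]
      exact Ideal.mem_map_of_mem _ hc
    · intro y y' hy hy'
      rw [map_add]
      exact Submodule.add_mem _ hy hy'
  rw [hkrull, Submodule.mem_bot] at hx'
  exact (TensorProduct.comm R 𝔞 M).injective (hx'.trans (map_zero _).symm)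

/-- Local criterion of flatness for a finite module over a Noetherian local algebra. -/
theorem flat_of_localCriterion_of_finite {R S M : Type u} [CommRing R] [CommRing S]
    [IsNoetherianRing R] [IsNoetherianRing S] [Algebra R S]
    [AddCommGroup M] [Module R M] [Module S M] [IsScalarTower R S M] [Module.Finite S M]
    (I : Ideal R) (hI : I.map (algebraMap R S) ≤ Ideal.jacobson ⊥)
    (h1 : Injective (I.subtype.rTensor M))
    [Module.Flat (R ⧸ I) ((R ⧸ I) ⊗[R] M)] : Module.Flat R M :=
  flat_of_localCriterion I (fun 𝔞 => iInf_pow_smul_tensor_eq_bot M I hI 𝔞) h1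

theorem map_le_jacobson_of_isLocalHom {R S : Type u} [CommRing R] [CommRing S] [IsLocalRing R]
    [IsLocalRing S] [Algebra R S] [IsLocalHom (algebraMap R S)] (I : Ideal R) (hI : I ≠ ⊤) :
    I.map (algebraMap R S) ≤ Ideal.jacobson ⊥ := by
  have h3 : I.map (algebraMap R S) ≤ IsLocalRing.maximalIdeal S :=
    (Ideal.map_mono (IsLocalRing.le_maximalIdeal hI)).trans
      (((IsLocalRing.local_hom_TFAE (algebraMap R S)).out 0 2).mp ‹_›)
  exact h3.trans (IsLocalRing.maximalIdeal_le_jacobson _)

/-- `J ⊗_S M → M` is injective when `J = IS` and `M` is flat over `R`. -/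
theorem rTensor_map_injective_of_flat {R S M : Type u} [CommRing R] [CommRing S] [Algebra R S]
    [AddCommGroup M] [Module S M] [Module R M] [IsScalarTower R S M] [Module.Flat R M]
    (I : Ideal R) :
    Injective ((I.map (algebraMap R S)).subtype.rTensor M) := by
  have hαR : Injective (I.subtype.rTensor M) :=
    Module.Flat.rTensor_preserves_injective_linearMap I.subtype Subtype.val_injective
  let J : Ideal S := I.map (algebraMap R S)
  let ι : I →ₗ[R] J :=
    { toFun := fun a => ⟨algebraMap R S a, Ideal.mem_map_of_mem _ a.2⟩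
      map_add' := fun a b => Subtype.ext (by simp)
      map_smul' := fun r a => Subtype.ext (by
        simp [Algebra.smul_def]) }
  let φ : I ⊗[R] M →ₗ[R] J ⊗[S] M :=
    (TensorProduct.mapOfCompatibleSMul S R R J M) ∘ₗ (ι.rTensor M)
  have hφtmul : ∀ (a : I) (m : M), φ (a ⊗ₜ[R] m) = (ι a) ⊗ₜ[S] m := fun a m => rfl
  have hφsurj : ∀ z : J ⊗[S] M, z ∈ LinearMap.range φ := by
    have hpure : ∀ (j : S) (hj : j ∈ J) (m : M),
        ((⟨j, hj⟩ : J) ⊗ₜ[S] m) ∈ LinearMap.range φ := by
      intro j hj
      refine Submodule.span_induction (p := fun j hj => ∀ m : M,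
        ((⟨j, hj⟩ : J) ⊗ₜ[S] m) ∈ LinearMap.range φ) ?_ ?_ ?_ ?_ hj
      · rintro _ ⟨a, ha, rfl⟩ m
        exact ⟨(⟨a, ha⟩ : I) ⊗ₜ[R] m, hφtmul _ _⟩
      · intro m
        have e : ((⟨0, J.zero_mem⟩ : J) ⊗ₜ[S] m) = 0 := TensorProduct.zero_tmul _ _
        rw [e]
        exact Submodule.zero_mem _
      · intro x y hx hy hx' hy' m
        have e : ((⟨x + y, J.add_mem hx hy⟩ : J) ⊗ₜ[S] m) =
            ((⟨x, hx⟩ : J) ⊗ₜ[S] m) + ((⟨y, hy⟩ : J) ⊗ₜ[S] m) :=
          TensorProduct.add_tmul (⟨x, hx⟩ : J) (⟨y, hy⟩ : J) m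
        rw [e]
        exact Submodule.add_mem _ (hx' m) (hy' m)
      · intro s x hx hx' m
        have e : ((⟨s • x, J.smul_mem s hx⟩ : J) ⊗ₜ[S] m) =
            ((⟨x, hx⟩ : J) ⊗ₜ[S] (s • m)) := TensorProduct.smul_tmul s (⟨x, hx⟩ : J) m
        rw [e]
        exact hx' (s • m)
    intro z
    induction z using TensorProduct.induction_on with
    | zero => exact Submodule.zero_mem _
    | tmul j m => exact hpure j.1 j.2 m
    | add x y hx hy => exact Submodule.add_mem _ hx hy
  have hcompat : ∀ w : I ⊗[R] M,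
      (TensorProduct.lid S M) ((J.subtype.rTensor M) (φ w)) =
        (TensorProduct.lid R M) ((I.subtype.rTensor M) w) := by
    intro w
    induction w using TensorProduct.induction_on with
    | zero => simp
    | tmul a m =>
      rw [hφtmul, LinearMap.rTensor_tmul, LinearMap.rTensor_tmul, TensorProduct.lid_tmul,
        TensorProduct.lid_tmul]
      show (algebraMap R S a) • m = (a : R) • m
      rw [algebraMap_smul]
    | add x y hx hy => simp only [map_add, hx, hy]
  intro z z' hzz'
  obtain ⟨w, rfl⟩ := hφsurj z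
  obtain ⟨w', rfl⟩ := hφsurj z'
  have h1 := congrArg (TensorProduct.lid S M) hzz'
  rw [hcompat, hcompat] at h1
  have h2 := hαR ((TensorProduct.lid R M).injective h1)
  rw [h2]

theorem flat_of_faithfullyFlat_module {R S M : Type u} [CommRing R] [CommRing S] [Algebra R S]
    [AddCommGroup M] [Module S M] [Module R M] [IsScalarTower R S M] [Module.Flat R M]
    [Module.FaithfullyFlat S M] : Module.Flat R S := by
  rw [Module.Flat.iff_lTensor_injective']
  intro 𝔞
  have h1 : Injective (𝔞.subtype.lTensor M) :=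
    Module.Flat.lTensor_preserves_injective_linearMap _ Subtype.val_injective
  let f : S ⊗[R] 𝔞 →ₗ[S] S ⊗[R] R := 𝔞.subtype.baseChange S
  have hnat : ∀ z : M ⊗[S] (S ⊗[R] 𝔞),
      (TensorProduct.AlgebraTensorModule.cancelBaseChange R S S M R) ((f.lTensor M) z) =
        (𝔞.subtype.lTensor M)
          ((TensorProduct.AlgebraTensorModule.cancelBaseChange R S S M 𝔞) z) := by
    intro z
    induction z using TensorProduct.induction_on with
    | zero => simp
    | tmul m w =>
      induction w using TensorProduct.induction_on with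
      | zero => simp
      | tmul s a => rfl
      | add w w' hw hw' =>
        rw [TensorProduct.tmul_add, map_add, map_add, hw, hw', map_add, map_add]
    | add z z' hz hz' => rw [map_add, map_add, hz, hz', map_add, map_add]
  have h2 : Injective (f.lTensor M) := by
    intro z z' hzz'
    have h3 := congrArg (TensorProduct.AlgebraTensorModule.cancelBaseChange R S S M R) hzz'
    rw [hnat, hnat] at h3
    exact (TensorProduct.AlgebraTensorModule.cancelBaseChange R S S M 𝔞).injective (h1 h3)
  have h3 : Injective f := (Module.FaithfullyFlat.lTensor_injective_iff_injective S M f).mp h2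
  exact h3

theorem faithfullyFlat_of_flat_of_finite_local {S S' M : Type u} [CommRing S] [CommRing S']
    [IsLocalRing S] [IsLocalRing S'] [Algebra S S'] [IsLocalHom (algebraMap S S')]
    [AddCommGroup M] [Module S' M] [Module S M] [IsScalarTower S S' M]
    [Module.Finite S' M] [Nontrivial M] [Module.Flat S M] : Module.FaithfullyFlat S M := by
  refine ⟨fun m hm htop => ?_⟩
  have hm' : m = IsLocalRing.maximalIdeal S := IsLocalRing.eq_maximalIdeal hm
  rw [hm'] at htop
  have hle : (⊤ : Submodule S' M) ≤
      (IsLocalRing.maximalIdeal S') • (⊤ : Submodule S' M) := by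
    intro x _
    have hx : x ∈ (IsLocalRing.maximalIdeal S) • (⊤ : Submodule S M) := by
      rw [htop]; trivial
    refine Submodule.smul_induction_on
      (p := fun y => y ∈ (IsLocalRing.maximalIdeal S') • (⊤ : Submodule S' M)) hx ?_ ?_
    · intro c hc y _
      rw [← algebraMap_smul S' c y]
      refine Submodule.smul_mem_smul ?_ Submodule.mem_top
      have hle0 : (IsLocalRing.maximalIdeal S).map (algebraMap S S') ≤
          IsLocalRing.maximalIdeal S' :=
        ((IsLocalRing.local_hom_TFAE (algebraMap S S')).out 0 2).mp ‹_›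
      exact hle0 (Ideal.mem_map_of_mem _ hc)
    · intro y y' hy hy'
      exact Submodule.add_mem _ hy hy'
  have hbot := Submodule.eq_bot_of_le_smul_of_le_jacobson_bot (IsLocalRing.maximalIdeal S')
    (⊤ : Submodule S' M) Module.Finite.fg_top hle (IsLocalRing.maximalIdeal_le_jacobson _)
  exact top_ne_bot hbot

end Helper1
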