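import Mathlib
import Groth.Agent.Lib.helper1.LocalCrit2

/-!
# Injectivity modulo the maximal ideal implies injectivity with flat cokernel (helper1)
-/

universe u

namespace Helper1

open scoped TensorProduct
open Function

section FlatInj

variable {R : Type u} [CommRing R]

theorem one_tmul_eq_zero_iff (I : Ideal R) (X : Type u) [AddCommGroup X] [Module R X] (y : X) :
    ((1 : R ⧸ I) ⊗ₜ[R] y = 0) ↔ y ∈ I • (⊤ : Submodule R X) := by
  constructor
  · intro h0
    have h1 := TensorProduct.quotTensorEquivQuotSMul_mk_one_tmul I y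
    rw [h0, map_zero] at h1
    exact (Submodule.Quotient.mk_eq_zero _).mp h1.symm
  · intro hy
    apply (TensorProduct.quotTensorEquivQuotSMul X I).injective
    rw [map_zero, TensorProduct.quotTensorEquivQuotSMul_mk_one_tmul]
    exact (Submodule.Quotient.mk_eq_zero _).mpr hy

theorem range_lTensor_smul_top (J : Ideal R) (X B : Type u) [AddCommGroup X] [Module R X]
    [AddCommGroup B] [Module R B] :
    LinearMap.range ((J • (⊤ : Submodule R B)).subtype.lTensor X) =
      J • (⊤ : Submodule R (X ⊗[R] B)) := by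
  apply le_antisymm
  · rintro _ ⟨ξ, rfl⟩
    induction ξ using TensorProduct.induction_on with
    | zero => rw [map_zero]; exact Submodule.zero_mem _
    | tmul x p =>
      rw [LinearMap.lTensor_tmul, Submodule.subtype_apply]
      refine Submodule.smul_induction_on
        (p := fun b => x ⊗ₜ[R] b ∈ J • (⊤ : Submodule R (X ⊗[R] B))) p.2 ?_ ?_
      · intro c hc b _
        rw [TensorProduct.tmul_smul]
        exact Submodule.smul_mem_smul hc Submodule.mem_top
      · intro b b' hb hb'
        rw [TensorProduct.tmul_add]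
        exact Submodule.add_mem _ hb hb'
    | add ξ ξ' h h' => rw [map_add]; exact Submodule.add_mem _ h h'
  · rw [Submodule.smul_le]
    intro c hc z hz
    clear hz
    induction z using TensorProduct.induction_on with
    | zero => rw [smul_zero]; exact Submodule.zero_mem _
    | tmul x b =>
      refine ⟨x ⊗ₜ[R] ⟨c • b, Submodule.smul_mem_smul hc Submodule.mem_top⟩, ?_⟩
      rw [LinearMap.lTensor_tmul, Submodule.subtype_apply, TensorProduct.tmul_smul]
    | add z z' h h' => rw [smul_add]; exact Submodule.add_mem _ h h'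

theorem mul_smul_top_eq_map (𝔪 J : Ideal R) (X B : Type u) [AddCommGroup X] [Module R X]
    [AddCommGroup B] [Module R B] :
    (𝔪 * J) • (⊤ : Submodule R (X ⊗[R] B)) =
      (𝔪 • (⊤ : Submodule R (X ⊗[R] ↥(J • (⊤ : Submodule R B))))).map
        ((J • (⊤ : Submodule R B)).subtype.lTensor X) := by
  rw [Submodule.map_smul'', Submodule.map_top, range_lTensor_smul_top, Submodule.mul_smul]

theorem lTensor_residue_rTensor_injective [IsLocalRing R] {N M : Type u} [AddCommGroup N]
    [Module R N] [AddCommGroup M] [Module R M]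
    (u : N →ₗ[R] M) (h : Injective (u.lTensor (R ⧸ IsLocalRing.maximalIdeal R)))
    (P : Type u) [AddCommGroup P] [Module R P] :
    Injective ((u.rTensor P).lTensor (R ⧸ IsLocalRing.maximalIdeal R)) := by
  letI : Field (R ⧸ IsLocalRing.maximalIdeal R) := Ideal.Quotient.field _
  have hb : Injective (u.baseChange (R ⧸ IsLocalRing.maximalIdeal R)) := h
  have hfl : Injective ((u.baseChange (R ⧸ IsLocalRing.maximalIdeal R)).rTensor
      ((R ⧸ IsLocalRing.maximalIdeal R) ⊗[R] P)) :=
    Module.Flat.rTensor_preserves_injective_linearMap _ hb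
  have hnat : ∀ w : ((R ⧸ IsLocalRing.maximalIdeal R) ⊗[R] N)
        ⊗[R ⧸ IsLocalRing.maximalIdeal R] ((R ⧸ IsLocalRing.maximalIdeal R) ⊗[R] P),
      (TensorProduct.assoc R (R ⧸ IsLocalRing.maximalIdeal R) M P)
        ((TensorProduct.AlgebraTensorModule.cancelBaseChange R (R ⧸ IsLocalRing.maximalIdeal R)
          (R ⧸ IsLocalRing.maximalIdeal R) ((R ⧸ IsLocalRing.maximalIdeal R) ⊗[R] M) P)
          (((u.baseChange (R ⧸ IsLocalRing.maximalIdeal R)).rTensor
            ((R ⧸ IsLocalRing.maximalIdeal R) ⊗[R] P)) w)) =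
      ((u.rTensor P).lTensor (R ⧸ IsLocalRing.maximalIdeal R))
        ((TensorProduct.assoc R (R ⧸ IsLocalRing.maximalIdeal R) N P)
          ((TensorProduct.AlgebraTensorModule.cancelBaseChange R
            (R ⧸ IsLocalRing.maximalIdeal R) (R ⧸ IsLocalRing.maximalIdeal R)
            ((R ⧸ IsLocalRing.maximalIdeal R) ⊗[R] N) P) w)) := by
    intro w
    induction w using TensorProduct.induction_on with
    | zero => simp
    | tmul t s =>
      induction t using TensorProduct.induction_on with
      | zero => simp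
      | tmul a n =>
        induction s using TensorProduct.induction_on with
        | zero => simp
        | tmul a' p =>
          simp only [LinearMap.rTensor_tmul, LinearMap.baseChange_tmul,
            TensorProduct.AlgebraTensorModule.cancelBaseChange_tmul, TensorProduct.smul_tmul',
            TensorProduct.assoc_tmul, LinearMap.lTensor_tmul]
        | add s s' hs hs' => simp only [TensorProduct.tmul_add, map_add, hs, hs']
      | add t t' ht ht' => simp only [TensorProduct.add_tmul, map_add, ht, ht']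
    | add w w' hw hw' => simp only [map_add, hw, hw']
  intro z z' hzz'
  obtain ⟨w, rfl⟩ : ∃ w, (TensorProduct.assoc R (R ⧸ IsLocalRing.maximalIdeal R) N P)
      ((TensorProduct.AlgebraTensorModule.cancelBaseChange R
        (R ⧸ IsLocalRing.maximalIdeal R) (R ⧸ IsLocalRing.maximalIdeal R)
        ((R ⧸ IsLocalRing.maximalIdeal R) ⊗[R] N) P) w) = z :=
    ⟨(TensorProduct.AlgebraTensorModule.cancelBaseChange R
        (R ⧸ IsLocalRing.maximalIdeal R) (R ⧸ IsLocalRing.maximalIdeal R)
        ((R ⧸ IsLocalRing.maximalIdeal R) ⊗[R] N) P).symm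
      ((TensorProduct.assoc R (R ⧸ IsLocalRing.maximalIdeal R) N P).symm z), by simp⟩
  obtain ⟨w', rfl⟩ : ∃ w, (TensorProduct.assoc R (R ⧸ IsLocalRing.maximalIdeal R) N P)
      ((TensorProduct.AlgebraTensorModule.cancelBaseChange R
        (R ⧸ IsLocalRing.maximalIdeal R) (R ⧸ IsLocalRing.maximalIdeal R)
        ((R ⧸ IsLocalRing.maximalIdeal R) ⊗[R] N) P) w) = z' :=
    ⟨(TensorProduct.AlgebraTensorModule.cancelBaseChange R
        (R ⧸ IsLocalRing.maximalIdeal R) (R ⧸ IsLocalRing.maximalIdeal R)
        ((R ⧸ IsLocalRing.maximalIdeal R) ⊗[R] N) P).symm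
      ((TensorProduct.assoc R (R ⧸ IsLocalRing.maximalIdeal R) N P).symm z'), by simp⟩
  rw [← hnat, ← hnat] at hzz'
  have h0 := hfl ((TensorProduct.AlgebraTensorModule.cancelBaseChange R
    (R ⧸ IsLocalRing.maximalIdeal R) (R ⧸ IsLocalRing.maximalIdeal R)
    ((R ⧸ IsLocalRing.maximalIdeal R) ⊗[R] M) P).injective
    ((TensorProduct.assoc R (R ⧸ IsLocalRing.maximalIdeal R) M P).injective hzz'))
  rw [h0]

theorem iInf_pow_smul_tensor_eq_bot' {R S : Type u} [CommRing R] [CommRing S]
    [IsNoetherianRing S] [Algebra R S]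
    (N : Type u) [AddCommGroup N] [Module R N] [Module S N] [IsScalarTower R S N]
    [Module.Finite S N] (B : Type u) [AddCommGroup B] [Module R B] [Module.Finite R B]
    (I : Ideal R) (hI : I.map (algebraMap R S) ≤ Ideal.jacobson ⊥) :
    (⨅ n : ℕ, I ^ n • (⊤ : Submodule R (N ⊗[R] B))) = ⊥ := by
  haveI : Module.Finite S (N ⊗[R] B) :=
    Module.Finite.equiv (TensorProduct.AlgebraTensorModule.cancelBaseChange R S S N B)
  have hkrull := Ideal.iInf_pow_smul_eq_bot_of_le_jacobson (M := N ⊗[R] B)
    (I.map (algebraMap R S)) hI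
  rw [eq_bot_iff]
  intro x hx
  rw [Submodule.mem_bot]
  have hx' : x ∈
      (⨅ n : ℕ, (I.map (algebraMap R S)) ^ n • (⊤ : Submodule S (N ⊗[R] B))) := by
    rw [Submodule.mem_iInf] at hx ⊢
    intro n
    refine Submodule.smul_induction_on (p := fun y => y ∈
      ((I.map (algebraMap R S)) ^ n • (⊤ : Submodule S (N ⊗[R] B)))) (hx n) ?_ ?_
    · intro c hc y _
      rw [← algebraMap_smul S c]
      refine Submodule.smul_mem_smul ?_ Submodule.mem_top
      rw [← Ideal.map_pow]
      exact Ideal.mem_map_of_mem _ hc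
    · intro y y' hy hy'
      exact Submodule.add_mem _ hy hy'
  rw [hkrull, Submodule.mem_bot] at hx'
  exact hx'

theorem mem_mul_smul_top_of_rTensor_mem {R : Type u} [CommRing R] [IsLocalRing R]
    {M N : Type u} [AddCommGroup M] [Module R M] [Module.Flat R M]
    [AddCommGroup N] [Module R N]
    (u : N →ₗ[R] M) (h : Injective (u.lTensor (R ⧸ IsLocalRing.maximalIdeal R)))
    (B : Type u) [AddCommGroup B] [Module R B] (J : Ideal R) (z : N ⊗[R] B)
    (hzJ : z ∈ J • (⊤ : Submodule R (N ⊗[R] B)))
    (hz : (u.rTensor B) z ∈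
      (IsLocalRing.maximalIdeal R * J) • (⊤ : Submodule R (M ⊗[R] B))) :
    z ∈ (IsLocalRing.maximalIdeal R * J) • (⊤ : Submodule R (N ⊗[R] B)) := by
  rw [← range_lTensor_smul_top J N B] at hzJ
  obtain ⟨ξ, hξ⟩ := hzJ
  rw [mul_smul_top_eq_map] at hz
  obtain ⟨η, hη, hηz⟩ := hz
  have e1 : (J • (⊤ : Submodule R B)).subtype.lTensor M ∘ₗ
      u.rTensor ↥(J • (⊤ : Submodule R B)) =
      u.rTensor B ∘ₗ (J • (⊤ : Submodule R B)).subtype.lTensor N := by
    rw [LinearMap.lTensor_comp_rTensor, LinearMap.rTensor_comp_lTensor]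
  have hinjM : Injective ((J • (⊤ : Submodule R B)).subtype.lTensor M) :=
    Module.Flat.lTensor_preserves_injective_linearMap _ Subtype.val_injective
  have hη' : (u.rTensor ↥(J • (⊤ : Submodule R B))) ξ = η := by
    apply hinjM
    have e2 := LinearMap.congr_fun e1 ξ
    rw [LinearMap.comp_apply, LinearMap.comp_apply] at e2
    rw [e2, hξ, hηz]
  have h1 : (1 : R ⧸ IsLocalRing.maximalIdeal R) ⊗ₜ[R]
      ((u.rTensor ↥(J • (⊤ : Submodule R B))) ξ) = 0 :=
    (one_tmul_eq_zero_iff _ _ _).mpr (hη' ▸ hη)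
  have h3 : (1 : R ⧸ IsLocalRing.maximalIdeal R) ⊗ₜ[R] ξ = 0 := by
    apply lTensor_residue_rTensor_injective u h ↥(J • (⊤ : Submodule R B))
    rw [LinearMap.lTensor_tmul, h1, map_zero]
  have h4 : ξ ∈ IsLocalRing.maximalIdeal R •
      (⊤ : Submodule R (N ⊗[R] ↥(J • (⊤ : Submodule R B)))) :=
    (one_tmul_eq_zero_iff _ _ _).mp h3
  rw [mul_smul_top_eq_map, ← hξ]
  exact Submodule.mem_map_of_mem h4

theorem rTensor_injective_of_residue {R S : Type u} [CommRing R] [CommRing S] [IsLocalRing R]
    [IsLocalRing S] [IsNoetherianRing S] [Algebra R S] [IsLocalHom (algebraMap R S)]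
    {M N : Type u} [AddCommGroup M] [Module R M] [Module.Flat R M]
    [AddCommGroup N] [Module R N] [Module S N] [IsScalarTower R S N] [Module.Finite S N]
    (u : N →ₗ[R] M) (h : Injective (u.lTensor (R ⧸ IsLocalRing.maximalIdeal R)))
    (B : Type u) [AddCommGroup B] [Module R B] [Module.Finite R B] :
    Injective (u.rTensor B) := by
  have hclaim : ∀ n : ℕ, ∀ z : N ⊗[R] B,
      (u.rTensor B) z ∈ (IsLocalRing.maximalIdeal R) ^ n • (⊤ : Submodule R (M ⊗[R] B)) →
      z ∈ (IsLocalRing.maximalIdeal R) ^ n • (⊤ : Submodule R (N ⊗[R] B)) := by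
    intro n
    induction n with
    | zero =>
      intro z _
      rw [pow_zero, Ideal.one_eq_top, Submodule.top_smul]
      trivial
    | succ n ih =>
      intro z hz
      have hz' : (u.rTensor B) z ∈
          (IsLocalRing.maximalIdeal R) ^ n • (⊤ : Submodule R (M ⊗[R] B)) :=
        Submodule.smul_mono_left (Ideal.pow_le_pow_right (Nat.le_succ n)) hz
      have hzn := ih z hz'
      rw [pow_succ'] at hz ⊢
      exact mem_mul_smul_top_of_rTensor_mem u h B _ z hzn hz
  rw [injective_iff_map_eq_zero]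
  intro z hz
  have hmem : z ∈ (⨅ n : ℕ,
      (IsLocalRing.maximalIdeal R) ^ n • (⊤ : Submodule R (N ⊗[R] B))) := by
    rw [Submodule.mem_iInf]
    intro n
    apply hclaim n z
    rw [hz]
    exact Submodule.zero_mem _
  rw [iInf_pow_smul_tensor_eq_bot' (S := S) N B (IsLocalRing.maximalIdeal R)
    (map_le_jacobson_of_isLocalHom _ Ideal.IsPrime.ne_top')] at hmem
  exact (Submodule.mem_bot R).mp hmem

theorem flat_quotient_range_of_rTensor_injective {R : Type u} [CommRing R] {M N : Type u}
    [AddCommGroup M] [Module R M] [Module.Flat R M] [AddCommGroup N] [Module R N]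
    (u : N →ₗ[R] M) (hC : ∀ I : Ideal R, Injective (u.rTensor (R ⧸ I))) :
    Module.Flat R (M ⧸ LinearMap.range u) := by
  rw [Module.Flat.iff_lTensor_injective']
  intro I
  have hq : Surjective (LinearMap.range u).mkQ := Submodule.mkQ_surjective _
  have hex : Exact u (LinearMap.range u).mkQ := LinearMap.exact_map_mkQ_range u
  have hqu : (LinearMap.range u).mkQ ∘ₗ u = 0 :=
    LinearMap.ext fun x => hex.apply_apply_eq_zero x
  rw [injective_iff_map_eq_zero]
  intro z hz
  obtain ⟨w, rfl⟩ := LinearMap.rTensor_surjective I hq z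
  have e1 : (LinearMap.range u).mkQ.rTensor R ∘ₗ I.subtype.lTensor M =
      I.subtype.lTensor (M ⧸ LinearMap.range u) ∘ₗ (LinearMap.range u).mkQ.rTensor I := by
    rw [LinearMap.rTensor_comp_lTensor, LinearMap.lTensor_comp_rTensor]
  have h2 : ((LinearMap.range u).mkQ.rTensor R) ((I.subtype.lTensor M) w) = 0 := by
    have e := LinearMap.congr_fun e1 w
    rw [LinearMap.comp_apply, LinearMap.comp_apply] at e
    rw [e, hz]
  have hexR : Exact (u.rTensor R) ((LinearMap.range u).mkQ.rTensor R) :=
    rTensor_exact R hex hq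
  obtain ⟨v₀, hv₀⟩ := (hexR _).mp h2
  have hπι : I.mkQ ∘ₗ I.subtype = 0 :=
    LinearMap.ext fun a => (Submodule.Quotient.mk_eq_zero I).mpr a.2
  have e3 : u.rTensor (R ⧸ I) ∘ₗ I.mkQ.lTensor N = I.mkQ.lTensor M ∘ₗ u.rTensor R := by
    rw [LinearMap.rTensor_comp_lTensor, LinearMap.lTensor_comp_rTensor]
  have h3 : (u.rTensor (R ⧸ I)) ((I.mkQ.lTensor N) v₀) = 0 := by
    have e := LinearMap.congr_fun e3 v₀
    rw [LinearMap.comp_apply, LinearMap.comp_apply] at e
    rw [e, hv₀, ← LinearMap.lTensor_comp_apply, hπι, LinearMap.lTensor_zero,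
      LinearMap.zero_apply]
  have h3' : (I.mkQ.lTensor N) v₀ = 0 := by
    apply hC I
    rw [h3, map_zero]
  have hexN : Exact (I.subtype.lTensor N) (I.mkQ.lTensor N) :=
    lTensor_exact N (LinearMap.exact_subtype_mkQ I) (Submodule.mkQ_surjective I)
  obtain ⟨v, hv⟩ := (hexN _).mp h3'
  have hinjM : Injective (I.subtype.lTensor M) :=
    Module.Flat.lTensor_preserves_injective_linearMap _ Subtype.val_injective
  have e4 : I.subtype.lTensor M ∘ₗ u.rTensor I = u.rTensor R ∘ₗ I.subtype.lTensor N := by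
    rw [LinearMap.lTensor_comp_rTensor, LinearMap.rTensor_comp_lTensor]
  have h4 : w = (u.rTensor I) v := by
    apply hinjM
    have e := LinearMap.congr_fun e4 v
    rw [LinearMap.comp_apply, LinearMap.comp_apply] at e
    rw [e, hv, hv₀]
  rw [h4, ← LinearMap.rTensor_comp_apply, hqu, LinearMap.rTensor_zero, LinearMap.zero_apply]

/-- The main statement. -/
theorem injective_and_flat_of_residue {R S M N : Type u} [CommRing R] [CommRing S]
    [IsLocalRing R] [IsLocalRing S] [IsNoetherianRing S] [Algebra R S]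
    [IsLocalHom (algebraMap R S)] [AddCommGroup M] [Module R M] [Module.Flat R M]
    [AddCommGroup N] [Module R N] [Module S N] [IsScalarTower R S N] [Module.Finite S N]
    (u : N →ₗ[R] M) (h : Injective (u.lTensor (R ⧸ IsLocalRing.maximalIdeal R))) :
    Injective u ∧ Module.Flat R (M ⧸ LinearMap.range u) := by
  constructor
  · have hR := rTensor_injective_of_residue (S := S) u h R
    intro x y hxy
    have h1 : (u.rTensor R) (x ⊗ₜ[R] (1 : R)) = (u.rTensor R) (y ⊗ₜ[R] (1 : R)) := by
      rw [LinearMap.rTensor_tmul, LinearMap.rTensor_tmul, hxy]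
    have h2 := congrArg (TensorProduct.rid R N) (hR h1)
    rw [TensorProduct.rid_tmul, TensorProduct.rid_tmul, one_smul, one_smul] at h2
    exact h2
  · exact flat_quotient_range_of_rTensor_injective u
      (fun I => rTensor_injective_of_residue (S := S) u h (R ⧸ I))

end FlatInj

end Helper1
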