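import Mathlib
import Groth.Agent.Lib.helper1.FlatInj

/-!
# Flatness descends along injective maps from Artinian rings (helper1)
-/

universe u

namespace Helper1

open scoped TensorProduct
open Function IsLocalRing

theorem flat_of_baseChange_flat_artinian_local {R S M : Type u} [CommRing R] [CommRing S]
    [IsArtinianRing R] [IsLocalRing R] [Algebra R S] (hinj : Injective (algebraMap R S))
    [AddCommGroup M] [Module R M] [Module.Flat S (S ⊗[R] M)] : Module.Flat R M := by
  classical
  letI : Field (R ⧸ maximalIdeal R) := Ideal.Quotient.field _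
  obtain ⟨n, hn⟩ : ∃ n : ℕ, (maximalIdeal R) ^ n = ⊥ := by
    have h := IsArtinianRing.isNilpotent_jacobson_bot (R := R)
    rw [IsLocalRing.jacobson_eq_maximalIdeal ⊥ bot_ne_top] at h
    obtain ⟨n, hn⟩ := h
    exact ⟨n, hn⟩
  let b := Module.Basis.ofVectorSpace (R ⧸ maximalIdeal R) ((R ⧸ maximalIdeal R) ⊗[R] M)
  have hmk : Surjective (TensorProduct.mk R (R ⧸ maximalIdeal R) M 1) :=
    TensorProduct.mk_surjective R M (R ⧸ maximalIdeal R) Ideal.Quotient.mk_surjective
  choose m hm using fun i => hmk (b i)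
  obtain ⟨φ, hφ⟩ : ∃ φ : (Module.Basis.ofVectorSpaceIndex (R ⧸ maximalIdeal R)
      ((R ⧸ maximalIdeal R) ⊗[R] M) →₀ R) →ₗ[R] M, φ = Finsupp.linearCombination R m := ⟨_, rfl⟩
  have hφsurj : Surjective φ := by
    rw [← LinearMap.range_eq_top]
    have hsup : LinearMap.range φ ⊔ (maximalIdeal R) • (⊤ : Submodule R M) = ⊤ := by
      rw [eq_top_iff]
      intro x _
      have hspan : Submodule.span R (Set.range b) = ⊤ := by
        rw [← Submodule.restrictScalars_span R (R ⧸ maximalIdeal R) Ideal.Quotient.mk_surjective,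
          b.span_eq, Submodule.restrictScalars_top]
      have hx : (TensorProduct.mk R (R ⧸ maximalIdeal R) M 1) x ∈
          Submodule.span R (Set.range b) := by
        rw [hspan]; exact Submodule.mem_top
      have hrange : Set.range b =
          (TensorProduct.mk R (R ⧸ maximalIdeal R) M 1) '' (Set.range m) := by
        ext v
        constructor
        · rintro ⟨i, rfl⟩
          exact ⟨m i, ⟨i, rfl⟩, hm i⟩
        · rintro ⟨_, ⟨i, rfl⟩, rfl⟩
          exact ⟨i, (hm i).symm⟩
      rw [hrange, ← Submodule.map_span] at hx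
      obtain ⟨y, hy, hyx⟩ := hx
      have hy' : y ∈ LinearMap.range φ := by
        rw [hφ, Finsupp.range_linearCombination]; exact hy
      have hdiff : x - y ∈ (maximalIdeal R) • (⊤ : Submodule R M) := by
        rw [← one_tmul_eq_zero_iff]
        have h2 : (1 : R ⧸ maximalIdeal R) ⊗ₜ[R] (x - y) =
            (TensorProduct.mk R (R ⧸ maximalIdeal R) M 1) x -
              (TensorProduct.mk R (R ⧸ maximalIdeal R) M 1) y := by
          rw [TensorProduct.tmul_sub]; rfl
        rw [h2, hyx, sub_self]
      have h3 : x = y + (x - y) := by abel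
      rw [h3]
      exact Submodule.add_mem_sup hy' hdiff
    have hk : ∀ k : ℕ, LinearMap.range φ ⊔ (maximalIdeal R) ^ k • (⊤ : Submodule R M) = ⊤ := by
      intro k
      induction k with
      | zero => rw [pow_zero, Ideal.one_eq_top, Submodule.top_smul, sup_top_eq]
      | succ k ih =>
        rw [eq_top_iff]
        calc (⊤ : Submodule R M)
            = LinearMap.range φ ⊔ (maximalIdeal R) • (⊤ : Submodule R M) := hsup.symm
          _ = LinearMap.range φ ⊔ (maximalIdeal R) •
                (LinearMap.range φ ⊔ (maximalIdeal R) ^ k • (⊤ : Submodule R M)) := by rw [ih]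
          _ ≤ LinearMap.range φ ⊔ (maximalIdeal R) ^ (k + 1) • (⊤ : Submodule R M) := by
            rw [Submodule.smul_sup, ← sup_assoc]
            refine sup_le (sup_le le_sup_left (le_sup_of_le_left Submodule.smul_le_right)) ?_
            rw [← Submodule.mul_smul, ← pow_succ']
            exact le_sup_right
    have h4 := hk n
    rw [hn, Submodule.bot_smul, sup_bot_eq] at h4
    exact h4
  -- coordinate functionals
  have hlam : ∀ i, ∃ lam : M →ₗ[R] (R ⧸ maximalIdeal R),
      ∀ j, lam (m j) = (Finsupp.single j (1 : R ⧸ maximalIdeal R)) i := by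
    intro i
    refine ⟨((b.coord i).restrictScalars R) ∘ₗ (TensorProduct.mk R (R ⧸ maximalIdeal R) M 1), ?_⟩
    intro j
    show (b.coord i) ((TensorProduct.mk R (R ⧸ maximalIdeal R) M 1) (m j)) = _
    rw [hm j, Module.Basis.coord_apply, Module.Basis.repr_self]
  choose lam hlam using hlam
  obtain ⟨J, hJ⟩ : ∃ J : Ideal S, J = (maximalIdeal R).map (algebraMap R S) := ⟨_, rfl⟩
  obtain ⟨ψ, hψdef⟩ : ∃ ψ : (Module.Basis.ofVectorSpaceIndex (R ⧸ maximalIdeal R)
      ((R ⧸ maximalIdeal R) ⊗[R] M) →₀ S) →ₗ[S] S ⊗[R] M,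
      ψ = Finsupp.linearCombination S (fun i => (1 : S) ⊗ₜ[R] m i) := ⟨_, rfl⟩
  have hψsingle : ∀ j (s : S), ψ (Finsupp.single j s) = s ⊗ₜ[R] m j := by
    intro j s
    rw [hψdef, Finsupp.linearCombination_single, TensorProduct.smul_tmul', smul_eq_mul, mul_one]
  have hψ : ∀ i x, ((lam i).lTensor S) (ψ x) = (x i) ⊗ₜ[R] (1 : R ⧸ maximalIdeal R) := by
    intro i x
    induction x using Finsupp.induction_linear with
    | zero => simp
    | add x y hx hy =>
      rw [map_add, map_add, hx, hy, Finsupp.add_apply, TensorProduct.add_tmul]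
    | single j s =>
      rw [hψsingle, LinearMap.lTensor_tmul, hlam, Finsupp.single_apply, Finsupp.single_apply]
      split_ifs
      · rfl
      · rw [TensorProduct.tmul_zero, TensorProduct.zero_tmul]
  have h1φ : ∀ c, (1 : S) ⊗ₜ[R] φ c =
      ψ (Finsupp.mapRange.linearMap (Algebra.linearMap R S) c) := by
    intro c
    induction c using Finsupp.induction_linear with
    | zero => rw [map_zero, map_zero, map_zero, TensorProduct.tmul_zero]
    | add c c' hc hc' => rw [map_add, map_add, map_add, TensorProduct.tmul_add, hc, hc']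
    | single j r =>
      rw [Finsupp.mapRange.linearMap_apply, Finsupp.mapRange_single, hψsingle, hφ,
        Finsupp.linearCombination_single, TensorProduct.tmul_smul, Algebra.linearMap_apply,
        Algebra.algebraMap_eq_smul_one, TensorProduct.smul_tmul']
  have hψsurj : Surjective ψ := by
    rw [← LinearMap.range_eq_top, eq_top_iff]
    rintro w -
    induction w using TensorProduct.induction_on with
    | zero => exact Submodule.zero_mem _
    | tmul s x =>
      obtain ⟨c, rfl⟩ := hφsurj x
      have h5 : s ⊗ₜ[R] φ c = s • ((1 : S) ⊗ₜ[R] φ c) := by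
        rw [TensorProduct.smul_tmul', smul_eq_mul, mul_one]
      rw [h5, h1φ]
      exact Submodule.smul_mem _ s (LinearMap.mem_range_self ψ _)
    | add w w' hw hw' => exact Submodule.add_mem _ hw hw'
  have hJn : J ^ n = ⊥ := by rw [hJ, ← Ideal.map_pow, hn, Ideal.map_bot]
  have hKJ : ∀ x ∈ LinearMap.ker ψ, x ∈ J • (⊤ : Submodule S
      (Module.Basis.ofVectorSpaceIndex (R ⧸ maximalIdeal R)
        ((R ⧸ maximalIdeal R) ⊗[R] M) →₀ S)) := by
    intro x hx
    have hxi : ∀ i, x i ∈ J := by
      intro i
      have h0 : (x i) ⊗ₜ[R] (1 : R ⧸ maximalIdeal R) = 0 := by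
        rw [← hψ i x, LinearMap.mem_ker.mp hx, map_zero]
      have h1 := congrArg (TensorProduct.comm R S (R ⧸ maximalIdeal R)) h0
      rw [TensorProduct.comm_tmul, map_zero] at h1
      have h2 := (one_tmul_eq_zero_iff (maximalIdeal R) S (x i)).mp h1
      rw [Ideal.smul_top_eq_map] at h2
      rw [hJ]
      exact h2
    have hx' : x = ∑ i ∈ x.support, Finsupp.single i (x i) := (Finsupp.sum_single x).symm
    rw [hx']
    refine Submodule.sum_mem _ (fun i _ => ?_)
    have h6 : Finsupp.single i (x i) = (x i) • Finsupp.single i (1 : S) := by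
      rw [Finsupp.smul_single, smul_eq_mul, mul_one]
    rw [h6]
    exact Submodule.smul_mem_smul (hxi i) Submodule.mem_top
  have hflat := LinearMap.lTensor_injective_of_exact_of_flat (M := LinearMap.ker ψ)
      ψ hψsurj (LinearMap.ker ψ).subtype
      Subtype.val_injective (LinearMap.exact_subtype_ker_map ψ) (S ⧸ J)
  have hKK : (⊤ : Submodule S (LinearMap.ker ψ)) ≤ J • (⊤ : Submodule S (LinearMap.ker ψ)) := by
    intro x _
    have h1 : (1 : S ⧸ J) ⊗ₜ[S] (x : Module.Basis.ofVectorSpaceIndex (R ⧸ maximalIdeal R)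
        ((R ⧸ maximalIdeal R) ⊗[R] M) →₀ S) = 0 :=
      (one_tmul_eq_zero_iff J _ _).mpr (hKJ x x.2)
    have h2 : ((LinearMap.ker ψ).subtype.lTensor (S ⧸ J)) ((1 : S ⧸ J) ⊗ₜ[S] x) = 0 := by
      rw [LinearMap.lTensor_tmul]; exact h1
    have h3 : (1 : S ⧸ J) ⊗ₜ[S] x = 0 := hflat (by rw [h2, map_zero])
    exact (one_tmul_eq_zero_iff J _ x).mp h3
  have hKtop : ∀ k : ℕ, (⊤ : Submodule S (LinearMap.ker ψ)) ≤
      J ^ k • (⊤ : Submodule S (LinearMap.ker ψ)) := by
    intro k
    induction k with
    | zero => rw [pow_zero, Ideal.one_eq_top, Submodule.top_smul]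
    | succ k ih =>
      calc (⊤ : Submodule S (LinearMap.ker ψ)) ≤ J • (⊤ : Submodule S (LinearMap.ker ψ)) := hKK
        _ ≤ J • (J ^ k • (⊤ : Submodule S (LinearMap.ker ψ))) := Submodule.smul_mono le_rfl ih
        _ = J ^ (k + 1) • (⊤ : Submodule S (LinearMap.ker ψ)) := by
          rw [← Submodule.mul_smul, ← pow_succ']
  have hK0 : ∀ x ∈ LinearMap.ker ψ, x = 0 := by
    intro x hx
    have h7 := hKtop n (Submodule.mem_top : (⟨x, hx⟩ : LinearMap.ker ψ) ∈ ⊤)
    rw [hJn, Submodule.bot_smul, Submodule.mem_bot] at h7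
    exact congrArg Subtype.val h7
  have hφinj : Injective φ := by
    intro c c' hcc'
    have hsub : φ (c - c') = 0 := by rw [map_sub, hcc', sub_self]
    have h8 : Finsupp.mapRange.linearMap (Algebra.linearMap R S) (c - c') ∈ LinearMap.ker ψ := by
      rw [LinearMap.mem_ker, ← h1φ, hsub, TensorProduct.tmul_zero]
    have h9 := hK0 _ h8
    have h10 : c - c' = 0 := by
      ext i
      have h11 := DFunLike.congr_fun h9 i
      rw [Finsupp.mapRange.linearMap_apply, Finsupp.mapRange_apply, Finsupp.zero_apply,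
        Algebra.linearMap_apply] at h11
      rw [Finsupp.zero_apply]
      exact hinj (by rw [h11, map_zero])
    exact sub_eq_zero.mp h10
  exact Module.Flat.of_linearEquiv (LinearEquiv.ofBijective φ ⟨hφinj, hφsurj⟩).symm

attribute [local instance] Algebra.TensorProduct.rightAlgebra in
theorem flat_of_baseChange_flat_artinian {R S M : Type u} [CommRing R] [CommRing S]
    [IsArtinianRing R] [Algebra R S] (hinj : Injective (algebraMap R S))
    [AddCommGroup M] [Module R M] [Module.Flat S (S ⊗[R] M)] : Module.Flat R M := by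
  apply Module.flat_of_localized_maximal
  intro P hP
  have hinj' : Injective (algebraMap (Localization.AtPrime P) (Localization.AtPrime P ⊗[R] S)) := by
    intro a b hab
    have e : ∀ a : Localization.AtPrime P,
        algebraMap (Localization.AtPrime P) (Localization.AtPrime P ⊗[R] S) a = a ⊗ₜ[R] (1 : S) :=
      fun a => by rw [Algebra.TensorProduct.algebraMap_apply]; rfl
    rw [e, e] at hab
    have hfl : Injective ((Algebra.linearMap R S).lTensor (Localization.AtPrime P)) :=
      Module.Flat.lTensor_preserves_injective_linearMap _ hinj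
    have h1 : ((Algebra.linearMap R S).lTensor (Localization.AtPrime P)) (a ⊗ₜ[R] (1 : R)) =
        ((Algebra.linearMap R S).lTensor (Localization.AtPrime P)) (b ⊗ₜ[R] (1 : R)) := by
      rw [LinearMap.lTensor_tmul, LinearMap.lTensor_tmul, Algebra.linearMap_apply, map_one]
      exact hab
    have h2 := hfl h1
    have h3 := congrArg (TensorProduct.rid R (Localization.AtPrime P)) h2
    rwa [TensorProduct.rid_tmul, TensorProduct.rid_tmul, one_smul, one_smul] at h3
  haveI : Module.Flat (Localization.AtPrime P ⊗[R] S)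
      ((Localization.AtPrime P ⊗[R] S) ⊗[Localization.AtPrime P]
        (LocalizedModule P.primeCompl M)) := by
    let e1 : (Localization.AtPrime P ⊗[R] S) ⊗[S] (S ⊗[R] M) ≃ₗ[Localization.AtPrime P ⊗[R] S]
        (Localization.AtPrime P ⊗[R] S) ⊗[R] M :=
      TensorProduct.AlgebraTensorModule.cancelBaseChange R S (Localization.AtPrime P ⊗[R] S)
        (Localization.AtPrime P ⊗[R] S) M
    let e2 : (Localization.AtPrime P ⊗[R] S) ⊗[Localization.AtPrime P]
        (Localization.AtPrime P ⊗[R] M) ≃ₗ[Localization.AtPrime P ⊗[R] S]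
        (Localization.AtPrime P ⊗[R] S) ⊗[R] M :=
      TensorProduct.AlgebraTensorModule.cancelBaseChange R (Localization.AtPrime P)
        (Localization.AtPrime P ⊗[R] S) (Localization.AtPrime P ⊗[R] S) M
    let e3 : LocalizedModule P.primeCompl M ≃ₗ[Localization.AtPrime P]
        Localization.AtPrime P ⊗[R] M := LocalizedModule.equivTensorProduct P.primeCompl M
    let e4 : (Localization.AtPrime P ⊗[R] S) ⊗[Localization.AtPrime P]
        (LocalizedModule P.primeCompl M) ≃ₗ[Localization.AtPrime P ⊗[R] S]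
        (Localization.AtPrime P ⊗[R] S) ⊗[Localization.AtPrime P]
          (Localization.AtPrime P ⊗[R] M) :=
      TensorProduct.AlgebraTensorModule.congr
        (LinearEquiv.refl (Localization.AtPrime P ⊗[R] S) (Localization.AtPrime P ⊗[R] S)) e3
    exact Module.Flat.of_linearEquiv (e4 ≪≫ₗ e2 ≪≫ₗ e1.symm)
  have hloc : Module.Flat (Localization.AtPrime P) (LocalizedModule P.primeCompl M) :=
    flat_of_baseChange_flat_artinian_local (S := Localization.AtPrime P ⊗[R] S) hinj'
  exact Module.Flat.trans R (Localization.AtPrime P) (LocalizedModule P.primeCompl M)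

end Helper1
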