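import Mathlib
import Groth.Prelude.Def_HopfRep
import Groth.Prelude.Def_Hoch
import Groth.Prelude.Def_ComodSub
import Groth.Agent.Lib.helper4.Comod
import Groth.Agent.Lib.helper9.ComodHom

/-!
# helper1: matrix coefficient maps and the coefficient space of a comodule over a field
-/

set_option autoImplicit false

open TensorProduct
open Groth.Agent.Lib.helper4

namespace Helper1.CoeffSpace

universe u v w

theorem lTensor_rTensor_comm' {R : Type*} [CommRing R] {M N P Q : Type*}
    [AddCommGroup M] [Module R M] [AddCommGroup N] [Module R N]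
    [AddCommGroup P] [Module R P] [AddCommGroup Q] [Module R Q]
    (f : M →ₗ[R] P) (g : N →ₗ[R] Q) (y : M ⊗[R] N) :
    g.lTensor P (f.rTensor N y) = f.rTensor Q (g.lTensor M y) := by
  have h1 := LinearMap.congr_fun (LinearMap.lTensor_comp_rTensor _ f g) y
  have h2 := LinearMap.congr_fun (LinearMap.rTensor_comp_lTensor _ f g) y
  simp only [LinearMap.comp_apply] at h1 h2
  rw [h1, h2]

variable {K : Type u} [Field K] {C : Type v} [AddCommGroup C] [Module K C] [Coalgebra K C]
variable {E : Type w} [AddCommGroup E] [Module K E] [HopfRep.Comod K C E]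

/-- matrix coefficient map `e ↦ (f ⊗ id)(ρ e)` -/
noncomputable def mc (f : E →ₗ[K] K) : E →ₗ[K] C :=
  (TensorProduct.lid K C).toLinearMap ∘ₗ f.rTensor C ∘ₗ HopfRep.Comod.coact (k := K) (A := C)

theorem mc_apply (f : E →ₗ[K] K) (e : E) :
    mc (C := C) f e =
      (TensorProduct.lid K C) (f.rTensor C (HopfRep.Comod.coact (k := K) (A := C) e)) := rfl

theorem isComodHom_mc (f : E →ₗ[K] K) : Hoch.IsComodHom C (mc (C := C) f) := by
  have M1 : ∀ y : E ⊗[K] C,
      Coalgebra.comul (R := K) ((TensorProduct.lid K C) (f.rTensor C y)) =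
        (TensorProduct.lid K (C ⊗[K] C)) (f.rTensor (C ⊗[K] C)
          ((Coalgebra.comul (R := K) (A := C)).lTensor E y)) := by
    intro y
    induction y using TensorProduct.induction_on with
    | zero => simp
    | tmul x c => simp
    | add y z ihy ihz => simp only [map_add, ihy, ihz]
  have M3w : ∀ (w : E ⊗[K] C) (c : C),
      (TensorProduct.lid K (C ⊗[K] C)) (f.rTensor (C ⊗[K] C)
        ((TensorProduct.assoc K E C C) (w ⊗ₜ[K] c))) =
      (TensorProduct.lid K C) (f.rTensor C w) ⊗ₜ[K] c := by
    intro w c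
    induction w using TensorProduct.induction_on with
    | zero => simp
    | tmul x c' =>
      simp only [TensorProduct.assoc_tmul, LinearMap.rTensor_tmul, TensorProduct.lid_tmul,
        TensorProduct.smul_tmul']
    | add w₁ w₂ h₁ h₂ => simp only [TensorProduct.add_tmul, map_add, h₁, h₂]
  have M3 : ∀ y : E ⊗[K] C,
      (TensorProduct.lid K (C ⊗[K] C)) (f.rTensor (C ⊗[K] C)
        ((TensorProduct.assoc K E C C)
          ((HopfRep.Comod.coact (k := K) (A := C) (V := E)).rTensor C y))) =
      (mc (C := C) f).rTensor C y := by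
    intro y
    induction y using TensorProduct.induction_on with
    | zero => simp
    | tmul x c =>
      simp only [LinearMap.rTensor_tmul, M3w]
      rfl
    | add y z ihy ihz => simp only [map_add, ihy, ihz]
  apply LinearMap.ext
  intro e
  have hco := LinearMap.congr_fun (HopfRep.Comod.coassoc (k := K) (A := C) (V := E)) e
  simp only [LinearMap.comp_apply, LinearEquiv.coe_coe] at hco
  show Coalgebra.comul (R := K) (mc (C := C) f e) =
    (mc (C := C) f).rTensor C (HopfRep.Comod.coact (k := K) (A := C) e)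
  rw [mc_apply, M1, ← hco, M3]

variable (K C E) in
/-- the coefficient space -/
noncomputable def cf : Submodule K C := ⨆ f : E →ₗ[K] K, LinearMap.range (mc (C := C) f)

theorem mc_mem_cf (f : E →ₗ[K] K) (e : E) : mc (C := C) f e ∈ cf K C E :=
  Submodule.mem_iSup_of_mem f ⟨e, rfl⟩

theorem coact_mem_cf (e : E) :
    HopfRep.Comod.coact (k := K) (A := C) e ∈
      LinearMap.range (LinearMap.lTensor E (cf K C E).subtype) := by
  have hex := lTensor_exact E (LinearMap.exact_subtype_mkQ (cf K C E))
    (Submodule.mkQ_surjective (cf K C E))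
  rw [LinearMap.mem_range]
  refine (hex _).1 ?_
  obtain ⟨⟨ι, ℬ⟩⟩ := Module.Free.exists_basis (R := K) (M := E)
  apply h4_tensor_eq_zero_of_coord ℬ
  intro i
  rw [← h4_lid_rTensor_lTensor]
  exact (Submodule.Quotient.mk_eq_zero _).2 (mc_mem_cf (ℬ.coord i) e)

theorem cf_le (D' : Submodule K C)
    (h : ∀ e : E, HopfRep.Comod.coact (k := K) (A := C) e ∈
      LinearMap.range (LinearMap.lTensor E D'.subtype)) :
    cf K C E ≤ D' := by
  refine iSup_le (fun f => ?_)
  rintro _ ⟨e, rfl⟩
  have key : ∀ z : E ⊗[K] ↥D',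
      (TensorProduct.lid K C) (f.rTensor C (LinearMap.lTensor E D'.subtype z)) ∈ D' := by
    intro z
    induction z using TensorProduct.induction_on with
    | zero => simp
    | tmul x d =>
      rw [LinearMap.lTensor_tmul, LinearMap.rTensor_tmul, TensorProduct.lid_tmul]
      exact D'.smul_mem _ d.2
    | add z₁ z₂ h₁ h₂ =>
      rw [map_add, map_add, map_add]
      exact D'.add_mem h₁ h₂
  obtain ⟨z, hz⟩ := h e
  rw [mc_apply, ← hz]
  exact key z

theorem eq_cf_of_isLeast (D : Submodule K C)
    (hD : IsLeast {D' : Submodule K C | ∀ e : E, HopfRep.Comod.coact (k := K) (A := C) e ∈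
      LinearMap.range (LinearMap.lTensor E D'.subtype)} D) :
    D = cf K C E :=
  le_antisymm (hD.2 (fun e => coact_mem_cf e)) (cf_le D hD.1)

theorem cf_ne_bot [Nontrivial E] : cf K C E ≠ ⊥ := by
  intro h
  obtain ⟨x, y, hxy⟩ := exists_pair_ne E
  have hzero : ∀ e : E, e = 0 := by
    intro e
    obtain ⟨z, hz⟩ := coact_mem_cf (K := K) (C := C) e
    have hs : (cf K C E).subtype = 0 := by
      ext d
      have h3 : (d : C) ∈ (⊥ : Submodule K C) := (le_of_eq h) d.2
      simpa using h3
    have hρ : HopfRep.Comod.coact (k := K) (A := C) e = 0 := by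
      rw [← hz, hs, LinearMap.lTensor_zero, LinearMap.zero_apply]
    have hcu := LinearMap.congr_fun (HopfRep.Comod.counit_comp (k := K) (A := C) (V := E)) e
    simp only [LinearMap.comp_apply] at hcu
    rw [hρ, map_zero] at hcu
    have h4 := congrArg (TensorProduct.rid K E) hcu
    simpa using h4.symm
  exact hxy ((hzero x).trans (hzero y).symm)

theorem exists_mc_ne_zero [Nontrivial E] : ∃ f : E →ₗ[K] K, mc (C := C) f ≠ 0 := by
  by_contra hcon
  push Not at hcon
  apply cf_ne_bot (K := K) (C := C) (E := E)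
  show (⨆ f : E →ₗ[K] K, LinearMap.range (mc (C := C) f)) = ⊥
  refine iSup_eq_bot.mpr (fun f => ?_)
  rw [hcon f, LinearMap.range_zero]

theorem comul_mem_cf (b : C) (hb : b ∈ cf K C E) :
    Coalgebra.comul (R := K) b ∈
      LinearMap.range (TensorProduct.map (cf K C E).subtype (cf K C E).subtype) := by
  have hle : cf K C E ≤
      (LinearMap.range (TensorProduct.map (cf K C E).subtype (cf K C E).subtype)).comap
        (Coalgebra.comul (R := K) (A := C)) := by
    refine iSup_le (fun f => ?_)
    rintro _ ⟨e, rfl⟩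
    rw [Submodule.mem_comap]
    have h1 := LinearMap.congr_fun (isComodHom_mc (C := C) f) e
    simp only [LinearMap.comp_apply] at h1
    have h1' : Coalgebra.comul (R := K) (mc (C := C) f e) =
        (mc (C := C) f).rTensor C (HopfRep.Comod.coact (k := K) (A := C) e) := h1
    obtain ⟨z, hz⟩ := coact_mem_cf (K := K) (C := C) e
    rw [h1', ← hz]
    refine ⟨TensorProduct.map
      (LinearMap.codRestrict (cf K C E) (mc (C := C) f) (mc_mem_cf f)) LinearMap.id z, ?_⟩
    rw [TensorProduct.map_map, LinearMap.subtype_comp_codRestrict, LinearMap.comp_id,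
      ← LinearMap.rTensor_comp_lTensor, LinearMap.comp_apply]
  exact hle hb

end Helper1.CoeffSpace
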