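import Mathlib

/-!
# The adic completion acts on power-torsion modules (helper1)
-/

universe u v

namespace Helper1

open AdicCompletion

section

variable {R : Type u} [CommRing R] (I : Ideal R)

theorem factorPow_evalₐ {m n : ℕ} (hmn : m ≤ n) (x : AdicCompletion I R) :
    Ideal.Quotient.factorPow I hmn (evalₐ I n x) = evalₐ I m x := by
  obtain ⟨c, rfl⟩ := AdicCompletion.mk_surjective I R x
  rw [evalₐ_mk, evalₐ_mk, Ideal.Quotient.factor_mk]
  exact AdicCompletion.Ideal.mk_eq_mk I hmn c

variable {E : Type v} [AddCommGroup E] [Module R E]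
  (hpt : ∀ e : E, ∃ n : ℕ, ∀ a ∈ I ^ n, a • e = 0)

open Classical in
/-- The action of an element of the completion on a power-torsion module. -/
noncomputable def actFun (x : AdicCompletion I R) (e : E) : E :=
  (Quotient.out (evalₐ I (Nat.find (hpt e)) x) : R) • e

open Classical in
theorem actFun_eq (x : AdicCompletion I R) (e : E) (n : ℕ) (hn : ∀ a ∈ I ^ n, a • e = 0) (r : R)
    (hr : Ideal.Quotient.mk (I ^ n) r = evalₐ I n x) : actFun I hpt x e = r • e := by
  have h₀ : ∀ a ∈ I ^ (Nat.find (hpt e)), a • e = 0 := Nat.find_spec (hpt e)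
  have hle : Nat.find (hpt e) ≤ n := Nat.find_min' (hpt e) hn
  have h1 : Ideal.Quotient.mk (I ^ (Nat.find (hpt e))) r = evalₐ I (Nat.find (hpt e)) x := by
    rw [← factorPow_evalₐ I hle x, ← hr, Ideal.Quotient.factor_mk]
  have h2 : (Quotient.out (evalₐ I (Nat.find (hpt e)) x) : R) - r ∈ I ^ (Nat.find (hpt e)) := by
    rw [← Ideal.Quotient.mk_eq_mk_iff_sub_mem, Ideal.Quotient.mk_out, h1]
  have h3 := h₀ _ h2
  rw [sub_smul, sub_eq_zero] at h3
  exact h3

/-- The action as a linear endomorphism. -/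
noncomputable def actLin (x : AdicCompletion I R) : E →ₗ[R] E where
  toFun := actFun I hpt x
  map_add' e e' := by
    obtain ⟨n, hn⟩ := hpt e
    obtain ⟨n', hn'⟩ := hpt e'
    obtain ⟨r, hr⟩ := Ideal.Quotient.mk_surjective (evalₐ I (max n n') x)
    have h1 : ∀ a ∈ I ^ (max n n'), a • e = 0 := fun a ha =>
      hn a (Ideal.pow_le_pow_right (le_max_left _ _) ha)
    have h2 : ∀ a ∈ I ^ (max n n'), a • e' = 0 := fun a ha =>
      hn' a (Ideal.pow_le_pow_right (le_max_right _ _) ha)
    have h3 : ∀ a ∈ I ^ (max n n'), a • (e + e') = 0 := fun a ha => by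
      rw [smul_add, h1 a ha, h2 a ha, add_zero]
    rw [actFun_eq I hpt x (e + e') _ h3 r hr, actFun_eq I hpt x e _ h1 r hr,
      actFun_eq I hpt x e' _ h2 r hr, smul_add]
  map_smul' c e := by
    obtain ⟨n, hn⟩ := hpt e
    obtain ⟨r, hr⟩ := Ideal.Quotient.mk_surjective (evalₐ I n x)
    have h1 : ∀ a ∈ I ^ n, a • (c • e) = 0 := fun a ha => by
      rw [smul_comm, hn a ha, smul_zero]
    rw [RingHom.id_apply, actFun_eq I hpt x (c • e) n h1 r hr, actFun_eq I hpt x e n hn r hr,
      smul_comm]

theorem actLin_apply (x : AdicCompletion I R) (e : E) : actLin I hpt x e = actFun I hpt x e := rfl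

/-- The action as an algebra homomorphism into the endomorphism ring. -/
noncomputable def actAlgHom : AdicCompletion I R →ₐ[R] Module.End R E where
  toFun := actLin I hpt
  map_one' := by
    apply LinearMap.ext
    intro e
    obtain ⟨n, hn⟩ := hpt e
    show actFun I hpt 1 e = e
    rw [actFun_eq I hpt 1 e n hn 1 (by rw [map_one, map_one]), one_smul]
  map_mul' x y := by
    apply LinearMap.ext
    intro e
    obtain ⟨n, hn⟩ := hpt e
    obtain ⟨r, hr⟩ := Ideal.Quotient.mk_surjective (evalₐ I n x)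
    obtain ⟨s, hs⟩ := Ideal.Quotient.mk_surjective (evalₐ I n y)
    have hn' : ∀ a ∈ I ^ n, a • (s • e) = 0 := fun a ha => by
      rw [smul_comm, hn a ha, smul_zero]
    show actFun I hpt (x * y) e = actFun I hpt x (actFun I hpt y e)
    rw [actFun_eq I hpt (x * y) e n hn (r * s) (by rw [map_mul, map_mul, hr, hs]),
      actFun_eq I hpt y e n hn s hs, actFun_eq I hpt x (s • e) n hn' r hr, mul_smul]
  map_zero' := by
    apply LinearMap.ext
    intro e
    obtain ⟨n, hn⟩ := hpt e
    show actFun I hpt 0 e = 0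
    rw [actFun_eq I hpt 0 e n hn 0 (by rw [_root_.map_zero, _root_.map_zero]), zero_smul]
  map_add' x y := by
    apply LinearMap.ext
    intro e
    obtain ⟨n, hn⟩ := hpt e
    obtain ⟨r, hr⟩ := Ideal.Quotient.mk_surjective (evalₐ I n x)
    obtain ⟨s, hs⟩ := Ideal.Quotient.mk_surjective (evalₐ I n y)
    show actFun I hpt (x + y) e = actFun I hpt x e + actFun I hpt y e
    rw [actFun_eq I hpt (x + y) e n hn (r + s) (by rw [map_add, map_add, hr, hs]),
      actFun_eq I hpt x e n hn r hr, actFun_eq I hpt y e n hn s hs, add_smul]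
  commutes' c := by
    apply LinearMap.ext
    intro e
    obtain ⟨n, hn⟩ := hpt e
    show actFun I hpt (algebraMap R (AdicCompletion I R) c) e = c • e
    exact actFun_eq I hpt _ e n hn c ((evalₐ I n).commutes c).symm

theorem actAlgHom_apply_eq (x : AdicCompletion I R) (e : E) (n : ℕ)
    (hn : ∀ a ∈ I ^ n, a • e = 0) (r : R) (hr : Ideal.Quotient.mk (I ^ n) r = evalₐ I n x) :
    actAlgHom I hpt x e = r • e :=
  actFun_eq I hpt x e n hn r hr

end

end Helper1
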