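import Mathlib

/-!
# The adic completion of a Noetherian ring is Noetherian (helper1)
-/

universe u

namespace Helper1

open AdicCompletion

theorem isNoetherianRing_adicCompletion (R : Type u) [CommRing R] [IsNoetherianRing R]
    (I : Ideal R) : IsNoetherianRing (AdicCompletion I R) := by
  classical
  obtain ⟨s, hs⟩ := (isNoetherianRing_iff_ideal_fg R).mp inferInstance I
  let φ : MvPolynomial s R →+* R := MvPolynomial.eval (fun i : s => (i : R))
  have hφC : ∀ r, φ (MvPolynomial.C r) = r := fun r => MvPolynomial.eval_C _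
  have hφX : ∀ i : s, φ (MvPolynomial.X i) = (i : R) := fun i => MvPolynomial.eval_X _
  have hφsurj : Function.Surjective φ := fun r => ⟨MvPolynomial.C r, hφC r⟩
  set J : Ideal (MvPolynomial s R) := MvPolynomial.idealOfVars s R with hJ
  have hmapJ : Ideal.map φ J = I := by
    have h1 : J = Ideal.span (Set.range MvPolynomial.X) := rfl
    rw [h1, Ideal.map_span, ← Set.range_comp]
    have h2 : (⇑φ ∘ MvPolynomial.X) = fun i : s => (i : R) := by
      funext i
      exact hφX i
    rw [h2, Subtype.range_coe_subtype]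
    exact hs
  have hmapJn : ∀ n, Ideal.map φ (J ^ n) = I ^ n := fun n => by rw [Ideal.map_pow, hmapJ]
  have hle : ∀ n, J ^ n ≤ (I ^ n).comap φ := fun n => by
    rw [← Ideal.map_le_iff_le_comap, hmapJn]
  let Φn : ∀ n : ℕ, AdicCompletion J (MvPolynomial s R) →+* R ⧸ I ^ n := fun n =>
    (Ideal.quotientMap (I ^ n) φ (hle n)).comp (evalₐ J n).toRingHom
  have hΦn_mk : ∀ n (c : AdicCauchySequence J (MvPolynomial s R)),
      Φn n (AdicCompletion.mk J _ c) = Ideal.Quotient.mk (I ^ n) (φ (c n)) := by
    intro n c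
    show Ideal.quotientMap (I ^ n) φ (hle n) (evalₐ J n (AdicCompletion.mk J _ c)) = _
    rw [evalₐ_mk, Ideal.quotientMap_mk]
  have hcompat : ∀ {m n : ℕ} (hmn : m ≤ n),
      (Ideal.Quotient.factorPow I hmn).comp (Φn n) = Φn m := by
    intro m n hmn
    ext x
    obtain ⟨c, rfl⟩ := AdicCompletion.mk_surjective J _ x
    rw [RingHom.comp_apply, hΦn_mk, hΦn_mk, Ideal.Quotient.factor_mk,
      Ideal.Quotient.mk_eq_mk_iff_sub_mem, ← map_sub]
    have h1 : c n - c m ∈ J ^ m := by
      have h2 := AdicCompletion.Ideal.mk_eq_mk J hmn c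
      rwa [Ideal.Quotient.mk_eq_mk_iff_sub_mem] at h2
    exact hle m h1
  let Φ : AdicCompletion J (MvPolynomial s R) →+* AdicCompletion I R :=
    AdicCompletion.liftRingHom I Φn hcompat
  have hΦsurj : Function.Surjective Φ := by
    intro y
    obtain ⟨b, rfl⟩ := AdicCompletion.mk_surjective I R y
    have hstep : ∀ (n : ℕ) (p : MvPolynomial s R), φ p = b n →
        ∃ q, φ q = b (n + 1) ∧ q - p ∈ J ^ n := by
      intro n p hp
      have h1 : b (n + 1) - b n ∈ I ^ n := by
        have h2 := AdicCompletion.Ideal.mk_eq_mk I (Nat.le_succ n) b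
        rwa [Ideal.Quotient.mk_eq_mk_iff_sub_mem] at h2
      rw [← hmapJn n, Ideal.mem_map_iff_of_surjective φ hφsurj] at h1
      obtain ⟨w, hw, hwφ⟩ := h1
      refine ⟨p + w, ?_, ?_⟩
      · rw [map_add, hp, hwφ]; ring
      · rw [add_sub_cancel_left]; exact hw
    choose! next hnext using hstep
    let c : ℕ → MvPolynomial s R :=
      fun n => Nat.rec (MvPolynomial.C (b 0)) (fun k p => next k p) n
    have hc0 : c 0 = MvPolynomial.C (b 0) := rfl
    have hcs : ∀ n, c (n + 1) = next n (c n) := fun n => rfl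
    have hcφ : ∀ n, φ (c n) = b n := by
      intro n
      induction n with
      | zero => rw [hc0, hφC]
      | succ k ih => rw [hcs]; exact (hnext k (c k) ih).1
    have hcJ : ∀ n, c (n + 1) - c n ∈ J ^ n := fun n => by
      rw [hcs]; exact (hnext n (c n) (hcφ n)).2
    let cs : AdicCauchySequence J (MvPolynomial s R) := AdicCauchySequence.mk J _ c (fun n => by
      rw [SModEq.sub_mem, smul_eq_mul, Ideal.mul_top, ← neg_sub]
      exact neg_mem (hcJ n))
    refine ⟨AdicCompletion.mk J _ cs, ?_⟩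
    apply AdicCompletion.ext_evalₐ
    intro n
    rw [AdicCompletion.evalₐ_liftRingHom, hΦn_mk, AdicCompletion.evalₐ_mk]
    show Ideal.Quotient.mk (I ^ n) (φ (c n)) = Ideal.Quotient.mk (I ^ n) (b n)
    rw [hcφ]
  haveI : IsNoetherianRing (AdicCompletion J (MvPolynomial s R)) :=
    isNoetherianRing_of_ringEquiv (MvPowerSeries s R)
      (MvPowerSeries.toAdicCompletionAlgEquiv s R).toRingEquiv
  exact isNoetherianRing_of_surjective _ _ Φ hΦsurj

end Helper1
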