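import Mathlib

/-!
# Krull–Akizuki: length estimates (helper1)
-/

universe u v

open scoped Pointwise TensorProduct

namespace Helper1.KA

variable {R : Type u} [CommRing R]

theorem length_quot_pow_succ {M : Type v} [AddCommGroup M] [Module R M] (x : R)
    (hx : IsSMulRegular M x) (n : ℕ) :
    Module.length R (QuotSMulTop (x ^ (n + 1)) M) =
      Module.length R (QuotSMulTop x M) + Module.length R (QuotSMulTop (x ^ n) M) := by
  have hle1 : (x • (⊤ : Submodule R M)) ≤
      Submodule.comap (LinearMap.lsmul R M (x ^ n)) ((x ^ (n + 1)) • (⊤ : Submodule R M)) := by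
    intro m hm
    obtain ⟨m', -, rfl⟩ := (Submodule.mem_smul_pointwise_iff_exists _ _ _).mp hm
    rw [Submodule.mem_comap, LinearMap.lsmul_apply]
    refine (Submodule.mem_smul_pointwise_iff_exists _ _ _).mpr ⟨m', trivial, ?_⟩
    rw [pow_succ, mul_smul]
  let f : QuotSMulTop x M →ₗ[R] QuotSMulTop (x ^ (n + 1)) M :=
    Submodule.mapQ _ _ (LinearMap.lsmul R M (x ^ n)) hle1
  have hle2 : ((x ^ (n + 1)) • (⊤ : Submodule R M)) ≤ (x ^ n) • (⊤ : Submodule R M) := by
    intro m hm
    obtain ⟨m', -, rfl⟩ := (Submodule.mem_smul_pointwise_iff_exists _ _ _).mp hm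
    refine (Submodule.mem_smul_pointwise_iff_exists _ _ _).mpr ⟨x • m', trivial, ?_⟩
    rw [pow_succ, mul_smul]
  let g : QuotSMulTop (x ^ (n + 1)) M →ₗ[R] QuotSMulTop (x ^ n) M := Submodule.factor hle2
  apply Module.length_eq_add_of_exact f g
  · rw [← LinearMap.ker_eq_bot, LinearMap.ker_eq_bot']
    intro q hq
    obtain ⟨m, rfl⟩ := Submodule.Quotient.mk_surjective _ q
    have h1 : f (Submodule.Quotient.mk m) = Submodule.Quotient.mk (x ^ n • m) := rfl
    rw [h1, Submodule.Quotient.mk_eq_zero] at hq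
    obtain ⟨m', -, hm'⟩ := (Submodule.mem_smul_pointwise_iff_exists _ _ _).mp hq
    rw [Submodule.Quotient.mk_eq_zero]
    refine (Submodule.mem_smul_pointwise_iff_exists _ _ _).mpr ⟨m', trivial, ?_⟩
    apply (hx.pow n)
    show x ^ n • (x • m') = x ^ n • m
    rw [← hm', pow_succ, mul_smul]
  · exact Submodule.factor_surjective hle2
  · intro y
    constructor
    · intro hy
      obtain ⟨m, rfl⟩ := Submodule.Quotient.mk_surjective _ y
      have h1 : g (Submodule.Quotient.mk m) = Submodule.Quotient.mk m := rfl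
      rw [h1, Submodule.Quotient.mk_eq_zero] at hy
      obtain ⟨m', -, rfl⟩ := (Submodule.mem_smul_pointwise_iff_exists _ _ _).mp hy
      exact ⟨Submodule.Quotient.mk m', rfl⟩
    · rintro ⟨q, rfl⟩
      obtain ⟨m, rfl⟩ := Submodule.Quotient.mk_surjective _ q
      have h1 : g (f (Submodule.Quotient.mk m)) = Submodule.Quotient.mk (x ^ n • m) := rfl
      rw [h1, Submodule.Quotient.mk_eq_zero]
      exact (Submodule.mem_smul_pointwise_iff_exists _ _ _).mpr ⟨m, trivial, rfl⟩

theorem length_quot_pow {M : Type v} [AddCommGroup M] [Module R M] (x : R)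
    (hx : IsSMulRegular M x) (n : ℕ) :
    Module.length R (QuotSMulTop (x ^ n) M) = n • Module.length R (QuotSMulTop x M) := by
  induction n with
  | zero =>
    rw [zero_nsmul, Module.length_eq_zero_iff]
    apply Submodule.Quotient.subsingleton_iff.mpr
    rw [pow_zero, one_smul]
  | succ n ih => rw [length_quot_pow_succ x hx n, ih, succ_nsmul, add_comm]

theorem length_quot_pow_le {F : Type v} [AddCommGroup F] [Module R F] [IsNoetherian R F]
    (M : Submodule R F) (x : R) :
    ∃ c : ℕ, ∀ n : ℕ, Module.length R (QuotSMulTop (x ^ n) M) ≤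
      Module.length R (QuotSMulTop (x ^ (n + c)) F) := by
  let Kc : ℕ →o Submodule R F := ⟨fun k => M.comap (LinearMap.lsmul R F (x ^ k)), by
    intro k k' hkk' f hf
    rw [Submodule.mem_comap, LinearMap.lsmul_apply] at hf ⊢
    obtain ⟨d, rfl⟩ := Nat.exists_eq_add_of_le hkk'
    rw [pow_add, mul_comm, mul_smul]; exact M.smul_mem _ hf⟩
  obtain ⟨c, hc⟩ := monotone_stabilizes_iff_noetherian.mpr inferInstance Kc
  refine ⟨c, fun n => ?_⟩
  have key : ∀ f : F, x ^ (n + c) • f ∈ M → x ^ c • f ∈ M := by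
    intro f hf
    have h1 : f ∈ Kc (n + c) := hf
    rw [← hc (n + c) (Nat.le_add_left c n)] at h1
    exact h1
  let μ : M →ₗ[R] QuotSMulTop (x ^ (n + c)) F := (Submodule.mkQ _) ∘ₗ M.subtype
  have hker : LinearMap.ker μ ≤ (x ^ n) • (⊤ : Submodule R M) := by
    intro m hm
    rw [LinearMap.mem_ker] at hm
    have h1 : (m : F) ∈ (x ^ (n + c)) • (⊤ : Submodule R F) :=
      (Submodule.Quotient.mk_eq_zero _).mp hm
    obtain ⟨f, -, hf⟩ := (Submodule.mem_smul_pointwise_iff_exists _ _ _).mp h1
    have h2 : x ^ c • f ∈ M := key f (by rw [hf]; exact m.2)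
    refine (Submodule.mem_smul_pointwise_iff_exists _ _ _).mpr ⟨⟨x ^ c • f, h2⟩, trivial, ?_⟩
    apply Subtype.ext
    show x ^ n • (x ^ c • f) = (m : F)
    rw [← hf, pow_add, mul_smul]
  calc Module.length R (QuotSMulTop (x ^ n) M)
      ≤ Module.length R (M ⧸ LinearMap.ker μ) :=
        Module.length_le_of_surjective (Submodule.factor hker) (Submodule.factor_surjective hker)
    _ ≤ Module.length R (QuotSMulTop (x ^ (n + c)) F) :=
        Module.length_le_of_injective ((LinearMap.ker μ).liftQ μ le_rfl) (by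
          rw [← LinearMap.ker_eq_bot]; exact Submodule.ker_liftQ_eq_bot _ _ _ le_rfl)

theorem length_quot_free (x : R) (r : ℕ) :
    Module.length R (QuotSMulTop x (Fin r → R)) =
      r • Module.length R (R ⧸ Ideal.span ({x} : Set R)) := by
  have e1 : QuotSMulTop x (Fin r → R) ≃ₗ[R] (Fin r → R) ⊗[R] (R ⧸ Ideal.span ({x} : Set R)) :=
    QuotSMulTop.equivTensorQuot x (Fin r → R)
  have e2 := TensorProduct.comm R (Fin r → R) (R ⧸ Ideal.span ({x} : Set R))
  have e3 : (R ⧸ Ideal.span ({x} : Set R)) ⊗[R] (Fin r → R) ≃ₗ[R]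
      (Fin r → (R ⧸ Ideal.span ({x} : Set R))) := TensorProduct.piScalarRight R R _ (Fin r)
  rw [(e1.trans (e2.trans e3)).length_eq, Module.length_pi_of_fintype]
  simp

theorem arith (a b : ℕ∞) (c : ℕ) (h : ∀ n : ℕ, n • a ≤ (n + c) • b) : a ≤ b := by
  rcases eq_or_ne b ⊤ with hb | hb
  · rw [hb]; exact le_top
  · lift b to ℕ using hb
    rcases eq_or_ne a ⊤ with ha | ha
    · exfalso
      have h1 := h 1
      rw [ha, one_nsmul, nsmul_eq_mul, top_le_iff] at h1
      have h2 : (((1 + c : ℕ) : ℕ∞) * (b : ℕ∞)) ≠ ⊤ := by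
        rw [← Nat.cast_mul]; exact ENat.natCast_ne_top _
      exact h2 h1
    · lift a to ℕ using ha
      have h' : ∀ n : ℕ, n * a ≤ (n + c) * b := fun n => by
        have h1 := h n
        rw [nsmul_eq_mul, nsmul_eq_mul] at h1
        exact_mod_cast h1
      norm_cast
      by_contra hlt
      push Not at hlt
      have hlt' : b + 1 ≤ a := hlt
      have h1 := h' (c * b + 1)
      have h2 := Nat.mul_le_mul_left (c * b + 1) hlt'
      nlinarith

theorem length_quot_le_free [IsDomain R] [IsNoetherianRing R] (r : ℕ)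
    (M : Submodule R (Fin r → R)) (x : R) (hx : x ≠ 0) :
    Module.length R (QuotSMulTop x M) ≤ r • Module.length R (R ⧸ Ideal.span ({x} : Set R)) := by
  have hregF : IsSMulRegular (Fin r → R) x := by
    intro v w h
    funext i
    have h1 := congrFun h i
    simp only [Pi.smul_apply, smul_eq_mul] at h1
    exact mul_left_cancel₀ hx h1
  have hregM : IsSMulRegular M x := fun v w h => Subtype.ext (hregF (congrArg Subtype.val h))
  obtain ⟨c, hc⟩ := length_quot_pow_le M x
  have hall : ∀ n : ℕ, n • Module.length R (QuotSMulTop x M) ≤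
      (n + c) • (r • Module.length R (R ⧸ Ideal.span ({x} : Set R))) := fun n => by
    rw [← length_quot_pow x hregM, ← length_quot_free, ← length_quot_pow x hregF]
    exact hc n
  exact arith _ _ c hall

theorem exists_equiv_submodule_free [IsDomain R] (K : Type u) [Field K] [Algebra R K]
    [IsFractionRing R K] (r : ℕ) (M : Submodule R (Fin r → K)) (hM : M.FG) :
    ∃ M'' : Submodule R (Fin r → R), Nonempty (M'' ≃ₗ[R] M) := by
  classical
  obtain ⟨s, hs⟩ := hM
  let coords : Finset K := s.biUnion (fun v => Finset.univ.image v)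
  obtain ⟨b, hb⟩ := IsLocalization.exist_integer_multiples_of_finset (nonZeroDivisors R) coords
  let κ : (Fin r → R) →ₗ[R] (Fin r → K) := (Algebra.linearMap R K).compLeft (Fin r)
  have hκ : Function.Injective κ := by
    intro v w h
    funext i
    have h1 := congrFun h i
    exact IsFractionRing.injective R K h1
  have hbK : algebraMap R K (b : R) ≠ 0 :=
    (map_ne_zero_iff (algebraMap R K) (IsFractionRing.injective R K)).mpr
      (nonZeroDivisors.ne_zero b.2)
  let δ : (Fin r → K) →ₗ[R] (Fin r → K) := LinearMap.lsmul R (Fin r → K) (b : R)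
  have hδ : Function.Injective δ := by
    intro v w h
    funext i
    have h1 := congrFun h i
    simp only [δ, LinearMap.lsmul_apply, Pi.smul_apply, Algebra.smul_def] at h1
    exact mul_left_cancel₀ hbK h1
  have hle : M.map δ ≤ LinearMap.range κ := by
    rw [← hs, Submodule.map_span, Submodule.span_le]
    rintro _ ⟨v, hv, rfl⟩
    have hcoord : ∀ i, ∃ c : R, algebraMap R K c = (b : R) • v i := fun i =>
      RingHom.mem_rangeS.mp (hb (v i) (Finset.mem_biUnion.mpr
        ⟨v, hv, Finset.mem_image_of_mem v (Finset.mem_univ i)⟩))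
    choose c hc using hcoord
    refine ⟨c, ?_⟩
    funext i
    show algebraMap R K (c i) = ((b : R) • v) i
    rw [hc i]; rfl
  let M'' : Submodule R (Fin r → R) := (M.map δ).comap κ
  have h1 : M''.map κ = M.map δ := by
    rw [Submodule.map_comap_eq, inf_eq_right.mpr hle]
  exact ⟨M'', ⟨(Submodule.equivMapOfInjective κ hκ M'').trans
    ((LinearEquiv.ofEq _ _ h1).trans (Submodule.equivMapOfInjective δ hδ M).symm)⟩⟩

theorem length_quot_le_of_fg [IsDomain R] [IsNoetherianRing R] (K : Type u) [Field K] [Algebra R K]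
    [IsFractionRing R K] (r : ℕ) (M' : Submodule R (Fin r → K)) (hfg : M'.FG) (x : R)
    (hx : x ≠ 0) :
    Module.length R (QuotSMulTop x M') ≤
      r • Module.length R (R ⧸ Ideal.span ({x} : Set R)) := by
  obtain ⟨M'', ⟨e⟩⟩ := exists_equiv_submodule_free K r M' hfg
  rw [← (QuotSMulTop.congr x e).length_eq]
  exact length_quot_le_free r M'' x hx

theorem length_lt_of_lt {Q : Type v} [AddCommGroup Q] [Module R Q] {P₀ P₁ : Submodule R Q}
    (hlt : P₀ < P₁) (hfin : Module.length R P₁ ≠ ⊤) :
    Module.length R P₀ < Module.length R P₁ := by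
  have hfl : IsFiniteLength R P₁ := Module.length_ne_top_iff.mp hfin
  obtain ⟨hN, hA⟩ := isFiniteLength_iff_isNoetherian_isArtinian.mp hfl
  have hne : P₀.submoduleOf P₁ ≠ ⊤ := by
    intro htop
    apply hlt.not_ge
    intro q hq
    have h1 : (⟨q, hq⟩ : P₁) ∈ P₀.submoduleOf P₁ := by rw [htop]; trivial
    exact h1
  have h2 := Submodule.length_lt (R := R) (M := P₁) hne
  rwa [(Submodule.submoduleOfEquivOfLe hlt.le).length_eq] at h2

theorem length_le_of_fg_le {Q : Type v} [AddCommGroup Q] [Module R Q] (N : ℕ)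
    (h : ∀ P : Submodule R Q, P.FG → Module.length R P ≤ N) : Module.length R Q ≤ N := by
  classical
  let p : ℕ → Prop := fun k => ∃ P : Submodule R Q, P.FG ∧ Module.length R P = k
  have h0 : p 0 := ⟨⊥, Submodule.fg_bot, by simp⟩
  obtain ⟨P₀, hP₀, hlen⟩ := Nat.findGreatest_spec (P := p) (Nat.zero_le N) h0
  have hmax : ∀ P : Submodule R Q, P.FG → Module.length R P ≤ (Nat.findGreatest p N : ℕ∞) := by
    intro P hP
    have hPN := h P hP
    have hne : Module.length R P ≠ ⊤ := ne_top_of_le_ne_top (ENat.natCast_ne_top N) hPN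
    obtain ⟨j, hj⟩ := ENat.ne_top_iff_exists.mp hne
    have hjN : j ≤ N := by rw [← hj] at hPN; exact_mod_cast hPN
    have hpj : p j := ⟨P, hP, hj.symm⟩
    rw [← hj]
    exact_mod_cast Nat.le_findGreatest hjN hpj
  have htop : P₀ = ⊤ := by
    by_contra hne
    obtain ⟨q, -, hq⟩ := SetLike.exists_of_lt (lt_top_iff_ne_top.mpr hne)
    have hfg1 : (P₀ ⊔ Submodule.span R {q}).FG := hP₀.sup (Submodule.fg_span_singleton q)
    have hlt : P₀ < P₀ ⊔ Submodule.span R {q} := by
      refine lt_of_le_of_ne le_sup_left fun heq => hq ?_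
      rw [heq]
      exact (le_sup_right : Submodule.span R {q} ≤ P₀ ⊔ Submodule.span R {q})
        (Submodule.mem_span_singleton_self q)
    have h1 := hmax _ hfg1
    have hfin : Module.length R (P₀ ⊔ Submodule.span R {q} : Submodule R Q) ≠ ⊤ :=
      ne_top_of_le_ne_top (ENat.natCast_ne_top _) h1
    have h2 := length_lt_of_lt hlt hfin
    rw [hlen] at h2
    exact absurd h1 (not_le.mpr h2)
  rw [← Module.length_top (R := R) (M := Q), ← htop, hlen]
  exact_mod_cast Nat.findGreatest_le N

theorem length_quot_le [IsDomain R] [IsNoetherianRing R] (K : Type u) [Field K] [Algebra R K]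
    [IsFractionRing R K] (r : ℕ) (M : Submodule R (Fin r → K)) (x : R) (hx : x ≠ 0) :
    Module.length R (QuotSMulTop x M) ≤
      r • Module.length R (R ⧸ Ideal.span ({x} : Set R)) := by
  classical
  rcases eq_or_ne (r • Module.length R (R ⧸ Ideal.span ({x} : Set R))) ⊤ with htop | htop
  · rw [htop]; exact le_top
  obtain ⟨N, hN⟩ := ENat.ne_top_iff_exists.mp htop
  rw [← hN]
  apply length_le_of_fg_le N
  intro P hP
  obtain ⟨t, ht⟩ := hP
  have hrep : ∀ q : QuotSMulTop x M, ∃ m : M, Submodule.Quotient.mk m = q :=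
    fun q => Submodule.Quotient.mk_surjective _ q
  choose rep hrep using hrep
  let M' : Submodule R (Fin r → K) :=
    Submodule.span R ((fun q => (rep q : Fin r → K)) '' (t : Set (QuotSMulTop x M)))
  have hM'fg : M'.FG := Submodule.fg_span ((Finset.finite_toSet t).image _)
  have hM'le : M' ≤ M := Submodule.span_le.mpr (by rintro _ ⟨q, _, rfl⟩; exact (rep q).2)
  let φ : QuotSMulTop x M' →ₗ[R] QuotSMulTop x M := QuotSMulTop.map x (Submodule.inclusion hM'le)
  have hPle : P ≤ LinearMap.range φ := by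
    rw [← ht, Submodule.span_le]
    intro q hq
    have h1 : φ (Submodule.Quotient.mk
        ⟨(rep q : Fin r → K), Submodule.subset_span ⟨q, hq, rfl⟩⟩) =
        Submodule.Quotient.mk (rep q) := rfl
    exact ⟨_, h1.trans (hrep q)⟩
  calc Module.length R P ≤ Module.length R (LinearMap.range φ) :=
        Module.length_le_of_injective (Submodule.inclusion hPle)
          (Submodule.inclusion_injective hPle)
    _ ≤ Module.length R (QuotSMulTop x M') :=
        Module.length_le_of_surjective φ.rangeRestrict (LinearMap.surjective_rangeRestrict φ)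
    _ ≤ (N : ℕ∞) := by rw [hN]; exact length_quot_le_of_fg K r M' hM'fg x hx

theorem length_quot_ne_top [IsDomain R] [IsNoetherianRing R] (hdim : ringKrullDim R ≤ 1) (x : R)
    (hx : x ≠ 0) : Module.length R (R ⧸ Ideal.span ({x} : Set R)) ≠ ⊤ := by
  haveI : Ring.KrullDimLE 1 R := Ring.krullDimLE_iff.mpr (by simpa using hdim)
  haveI : Ring.KrullDimLE 0 (R ⧸ Ideal.span ({x} : Set R)) := by
    rw [Ring.krullDimLE_zero_iff]
    intro q hq
    have hcp : (q.comap (Ideal.Quotient.mk (Ideal.span ({x} : Set R)))).IsPrime :=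
      Ideal.comap_isPrime _ _
    have hne : q.comap (Ideal.Quotient.mk (Ideal.span ({x} : Set R))) ≠ ⊥ := by
      intro hbot
      have hxmem : x ∈ q.comap (Ideal.Quotient.mk (Ideal.span ({x} : Set R))) := by
        rw [Ideal.mem_comap,
          Ideal.Quotient.eq_zero_iff_mem.mpr (Ideal.subset_span (Set.mem_singleton x))]
        exact q.zero_mem
      rw [hbot, Ideal.mem_bot] at hxmem
      exact hx hxmem
    have hmax := hcp.isMaximal_of_ne_bot hne
    rcases Ideal.map_eq_top_or_isMaximal_of_surjective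
      (Ideal.Quotient.mk (Ideal.span ({x} : Set R)))
      Ideal.Quotient.mk_surjective hmax with h | h
    · exfalso
      rw [Ideal.map_comap_of_surjective _ Ideal.Quotient.mk_surjective] at h
      exact hq.ne_top h
    · rwa [Ideal.map_comap_of_surjective _ Ideal.Quotient.mk_surjective] at h
  haveI : IsArtinianRing (R ⧸ Ideal.span ({x} : Set R)) :=
    isArtinianRing_iff_krullDimLE_zero.mpr inferInstance
  rw [Module.length_eq_of_surjective (S := R) (R := R ⧸ Ideal.span ({x} : Set R))
    (M := R ⧸ Ideal.span ({x} : Set R)) Ideal.Quotient.mk_surjective]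
  exact Module.length_ne_top

end Helper1.KA
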