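import Mathlib
import Groth.Agent.S0556

/-!
# Existence of discrete valuation rings dominating a Noetherian domain (helper1)
-/

universe u

namespace Helper1.DVRDom

theorem exists_valSub {B L : Type*} [CommRing B] [Field L] [Algebra B L]
    (hinj : Function.Injective (algebraMap B L)) (I : Ideal B) (hI : I ≠ ⊤) :
    ∃ V : ValuationSubring L, (∀ b : B, algebraMap B L b ∈ V) ∧
      ∀ b ∈ I, V.valuation (algebraMap B L b) < 1 := by
  obtain ⟨M, hM, hIM⟩ := Ideal.exists_le_maximal I hI
  haveI : M.IsPrime := hM.isPrime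
  have hg : ∀ y : M.primeCompl, IsUnit (algebraMap B L (y : B)) := by
    intro y
    apply IsUnit.mk0
    intro h0
    have h1 : (y : B) = 0 := hinj (by rw [h0, map_zero])
    exact y.2 (by rw [h1]; exact M.zero_mem)
  obtain ⟨V, hV, hloc⟩ := IsLocalRing.exists_factor_valuationRing
    (IsLocalization.lift (M := M.primeCompl) (S := Localization.AtPrime M) hg)
  have hfb : ∀ b : B, IsLocalization.lift (M := M.primeCompl) (S := Localization.AtPrime M) hg
      (algebraMap B (Localization.AtPrime M) b) = algebraMap B L b :=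
    fun b => IsLocalization.lift_eq hg b
  refine ⟨V, fun b => ?_, fun b hb => ?_⟩
  · rw [← hfb b]; exact hV _
  · have h1 : algebraMap B (Localization.AtPrime M) b ∈
        IsLocalRing.maximalIdeal (Localization.AtPrime M) :=
      (IsLocalization.AtPrime.to_map_mem_maximal_iff (Localization.AtPrime M) M b).mpr (hIM hb)
    have h2 : ¬ IsUnit (algebraMap B (Localization.AtPrime M) b) := by
      rwa [IsLocalRing.mem_maximalIdeal, mem_nonunits_iff] at h1
    have h4 : (⟨_, hV (algebraMap B (Localization.AtPrime M) b)⟩ : ↥V) ∈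
        IsLocalRing.maximalIdeal ↥V :=
      (IsLocalRing.mem_maximalIdeal _).mpr
        (mem_nonunits_iff.mpr (fun h => h2 (hloc.map_nonunit _ h)))
    have h5 := (ValuationSubring.valuation_lt_one_iff V _).mp h4
    rw [← hfb b]
    exact h5

theorem exists_frac {A K L B : Type*} [CommRing A] [IsDomain A] [Field K] [Algebra A K]
    [IsFractionRing A K] [Field L] [Algebra K L] [Algebra A L] [IsScalarTower A K L]
    [CommRing B] [Algebra A B] [Algebra B L] [IsScalarTower A B L]
    (S : Set L) (hS : IntermediateField.adjoin K S = ⊤)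
    (C : Subalgebra B L) (hC : ∀ s ∈ S, s ∈ C ∨ s⁻¹ ∈ C) (z : L) :
    ∃ c d : C, z = (c : L) / (d : L) := by
  have hz : z ∈ IntermediateField.adjoin K S := by rw [hS]; exact IntermediateField.mem_top
  have e : ∀ a : A, ((algebraMap B C (algebraMap A B a) : C) : L) =
      algebraMap K L (algebraMap A K a) := fun a => by
    rw [Subalgebra.coe_algebraMap, ← IsScalarTower.algebraMap_apply A B L,
      IsScalarTower.algebraMap_apply A K L]
  induction hz using IntermediateField.adjoin_induction with
  | mem x hx =>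
    rcases hC x hx with h | h
    · exact ⟨⟨x, h⟩, 1, by simp⟩
    · exact ⟨1, ⟨x⁻¹, h⟩, by simp⟩
  | algebraMap k =>
    obtain ⟨a, b, -, rfl⟩ := IsFractionRing.div_surjective A k
    exact ⟨algebraMap B C (algebraMap A B a), algebraMap B C (algebraMap A B b), by
      rw [map_div₀, e, e]⟩
  | add x y hx hy ihx ihy =>
    obtain ⟨c₁, d₁, rfl⟩ := ihx
    obtain ⟨c₂, d₂, rfl⟩ := ihy
    by_cases h1 : (d₁ : L) = 0
    · exact ⟨c₂, d₂, by rw [h1, div_zero, zero_add]⟩
    by_cases h2 : (d₂ : L) = 0
    · exact ⟨c₁, d₁, by rw [h2, div_zero, add_zero]⟩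
    exact ⟨c₁ * d₂ + d₁ * c₂, d₁ * d₂, by push_cast; rw [div_add_div _ _ h1 h2]⟩
  | inv x hx ih =>
    obtain ⟨c, d, rfl⟩ := ih
    exact ⟨d, c, by rw [inv_div]⟩
  | mul x y hx hy ihx ihy =>
    obtain ⟨c₁, d₁, rfl⟩ := ihx
    obtain ⟨c₂, d₂, rfl⟩ := ihy
    exact ⟨c₁ * c₂, d₁ * d₂, by push_cast; rw [div_mul_div_comm]⟩

theorem exists_dvr {B L : Type u} [CommRing B] [IsDomain B] [IsNoetherianRing B] [Field L]
    [Algebra B L] (hinj : Function.Injective (algebraMap B L)) (S : Finset L)
    (hS : ∀ C : Subalgebra B L, (∀ s ∈ S, s ∈ C ∨ s⁻¹ ∈ C) →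
      ∀ z : L, ∃ c d : C, z = (c : L) / (d : L))
    (I : Ideal B) (hI : I ≠ ⊤) (hI0 : I ≠ ⊥) :
    ∃ R : ValuationSubring L, IsDiscreteValuationRing R ∧ (∀ b : B, algebraMap B L b ∈ R) ∧
      ∀ b ∈ I, R.valuation (algebraMap B L b) < 1 := by
  classical
  obtain ⟨V, hVB, hVI⟩ := exists_valSub hinj I hI
  obtain ⟨G, hG⟩ := (IsNoetherian.noetherian I : I.FG)
  have hG' : Ideal.span (↑G : Set B) = I := hG
  have hGne : G.Nonempty := by
    rw [Finset.nonempty_iff_ne_empty]
    intro hGe
    apply hI0
    rw [← hG', hGe, Finset.coe_empty, Ideal.span_empty]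
  obtain ⟨x₀, hx₀G, hx₀max⟩ :=
    Finset.exists_max_image G (fun g => V.valuation (algebraMap B L g)) hGne
  have hx₀I : x₀ ∈ I := by rw [← hG']; exact Ideal.subset_span hx₀G
  have hx₀ : algebraMap B L x₀ ≠ 0 := by
    intro h0
    apply hI0
    rw [← hG', Ideal.span_eq_bot]
    intro g hg
    have h1 : V.valuation (algebraMap B L g) ≤ V.valuation (algebraMap B L x₀) := hx₀max g hg
    rw [h0, map_zero, le_zero_iff, Valuation.zero_iff] at h1
    exact hinj (by rw [h1, map_zero])
  obtain ⟨T, hT⟩ : ∃ T : Finset L, T = S.image (fun s => if s ∈ V then s else s⁻¹) ∪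
      G.image (fun g => algebraMap B L g / algebraMap B L x₀) := ⟨_, rfl⟩
  have hTV : ∀ t ∈ T, t ∈ V := by
    intro t ht
    rw [hT, Finset.mem_union] at ht
    rcases ht with h | h
    · obtain ⟨s, -, rfl⟩ := Finset.mem_image.mp h
      split_ifs with h1
      · exact h1
      · exact (V.mem_or_inv_mem s).resolve_left h1
    · obtain ⟨g, hg, rfl⟩ := Finset.mem_image.mp h
      rw [← V.valuation_le_one_iff, map_div₀]
      exact div_le_one_of_le₀ (hx₀max g hg) zero_le
  obtain ⟨C, hCdef⟩ : ∃ C : Subalgebra B L, C = Algebra.adjoin B (↑T : Set L) := ⟨_, rfl⟩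
  have hTC : ∀ t ∈ T, t ∈ C := by
    intro t ht; rw [hCdef]; exact Algebra.subset_adjoin ht
  have hST : ∀ s ∈ S, s ∈ C ∨ s⁻¹ ∈ C := by
    intro s hs
    by_cases h1 : s ∈ V
    · left
      apply hTC
      rw [hT, Finset.mem_union]
      left
      exact Finset.mem_image.mpr ⟨s, hs, if_pos h1⟩
    · right
      apply hTC
      rw [hT, Finset.mem_union]
      left
      exact Finset.mem_image.mpr ⟨s, hs, if_neg h1⟩
  have hGT : ∀ g ∈ G, algebraMap B L g / algebraMap B L x₀ ∈ C := by
    intro g hg
    apply hTC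
    rw [hT, Finset.mem_union]
    right
    exact Finset.mem_image.mpr ⟨g, hg, rfl⟩
  have hCV : ∀ c ∈ C, c ∈ V := by
    intro c hc
    rw [hCdef] at hc
    induction hc using Algebra.adjoin_induction with
    | mem x hx => exact hTV x hx
    | algebraMap r => exact hVB r
    | add x y _ _ hx hy => exact add_mem hx hy
    | mul x y _ _ hx hy => exact mul_mem hx hy
  haveI : Algebra.FiniteType B C := by
    rw [hCdef]
    exact (Subalgebra.fg_iff_finiteType _).mp (Subalgebra.fg_adjoin_finset T)
  haveI : IsNoetherianRing C := Algebra.FiniteType.isNoetherianRing B C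
  haveI : FaithfulSMul C L :=
    (faithfulSMul_iff_algebraMap_injective C L).mpr (fun a b h => Subtype.ext h)
  haveI : IsFractionRing C L := IsFractionRing.of_field C L (fun z => by
    obtain ⟨c, d, h⟩ := hS C hST z
    exact ⟨c, d, h⟩)
  obtain ⟨xc, hxc⟩ : ∃ xc : C, xc = algebraMap B C x₀ := ⟨_, rfl⟩
  have hxcL : (xc : L) = algebraMap B L x₀ := by rw [hxc]; rfl
  have hIC : Ideal.span {xc} ≠ ⊤ := by
    intro h
    rw [Ideal.span_singleton_eq_top] at h
    obtain ⟨u, hu⟩ := h.exists_right_inv
    have h1 : algebraMap B L x₀ * (u : L) = 1 := by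
      rw [← hxcL]; exact congrArg Subtype.val hu
    have h2 : V.valuation (algebraMap B L x₀) < 1 := hVI x₀ hx₀I
    have h3 : V.valuation (u : L) ≤ 1 := (V.valuation_le_one_iff _).mpr (hCV _ u.2)
    have h4 : V.valuation (algebraMap B L x₀) * V.valuation (u : L) = 1 := by
      rw [← map_mul, h1, map_one]
    have h6 : V.valuation (algebraMap B L x₀) * V.valuation (u : L) ≤
        V.valuation (algebraMap B L x₀) := mul_le_of_le_one_right' h3
    rw [h4] at h6
    exact not_le.mpr h2 h6
  obtain ⟨p, hp⟩ := Ideal.nonempty_minimalPrimes hIC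
  haveI hpp : p.IsPrime := hp.1.1
  have hIp : Ideal.span {xc} ≤ p := hp.1.2
  have hxp : xc ∈ p := hIp (Ideal.subset_span rfl)
  have hxc0 : xc ≠ 0 := by
    intro h
    apply hx₀
    rw [← hxcL, h]; rfl
  have hht : p.height = 1 := by
    apply le_antisymm
    · exact Ideal.height_le_one_of_isPrincipal_of_mem_minimalPrimes (Ideal.span {xc}) p hp
    · have hlt : (⊥ : Ideal C) < p := by
        rw [bot_lt_iff_ne_bot]
        intro h
        rw [h] at hxp
        exact hxc0 (Ideal.mem_bot.mp hxp)
      have h8 := Ideal.height_strict_mono_of_isPrime hlt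
      exact Order.one_le_iff_pos.mpr (lt_of_le_of_lt zero_le h8)
  have hle : p.primeCompl ≤ nonZeroDivisors C := Ideal.primeCompl_le_nonZeroDivisors p
  letI algDL : Algebra (Localization.AtPrime p) L :=
    IsLocalization.localizationAlgebraOfSubmonoidLe (Localization.AtPrime p) L p.primeCompl
      (nonZeroDivisors C) hle
  haveI : IsScalarTower C (Localization.AtPrime p) L :=
    IsLocalization.localization_isScalarTower_of_submonoid_le (Localization.AtPrime p) L
      p.primeCompl (nonZeroDivisors C) hle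
  haveI : IsFractionRing (Localization.AtPrime p) L :=
    IsFractionRing.isFractionRing_of_isDomain_of_isLocalization p.primeCompl
      (Localization.AtPrime p) L
  haveI : IsDomain (Localization.AtPrime p) := IsLocalization.isDomain_localization hle
  haveI : IsNoetherianRing (Localization.AtPrime p) :=
    IsLocalization.isNoetherianRing p.primeCompl _ inferInstance
  have hdim : ringKrullDim (Localization.AtPrime p) = 1 := by
    rw [IsLocalization.AtPrime.ringKrullDim_eq_height p (Localization.AtPrime p), hht]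
    rfl
  obtain ⟨W, hW, hlocW⟩ :=
    IsLocalRing.exists_factor_valuationRing (algebraMap (Localization.AtPrime p) L)
  letI algDW : Algebra (Localization.AtPrime p) ↥W :=
    ((algebraMap (Localization.AtPrime p) L).codRestrict W.toSubring hW).toAlgebra
  haveI : IsScalarTower (Localization.AtPrime p) ↥W L :=
    IsScalarTower.of_algebraMap_eq (fun x => rfl)
  haveI hWnoeth : IsNoetherianRing ↥W :=
    Groth.Agent.S0556.result (Localization.AtPrime p) hdim L L ↥W
      (fun a b h => Subtype.ext h)
  have h7 : ∀ b : B, algebraMap B L b = algebraMap (Localization.AtPrime p) L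
      (algebraMap C (Localization.AtPrime p) (algebraMap B C b)) := by
    intro b
    rw [← IsScalarTower.algebraMap_apply C (Localization.AtPrime p) L]; rfl
  have hcont : ∀ b : B, algebraMap B L b ∈ W := by
    intro b
    rw [h7]; exact hW _
  have hmapI : I.map (algebraMap B C) ≤ Ideal.span {xc} := by
    rw [← hG', Ideal.map_span, Ideal.span_le]
    rintro _ ⟨g, hg, rfl⟩
    rw [SetLike.mem_coe, Ideal.mem_span_singleton']
    refine ⟨⟨algebraMap B L g / algebraMap B L x₀, hGT g hg⟩, Subtype.ext ?_⟩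
    show algebraMap B L g / algebraMap B L x₀ * (xc : L) = algebraMap B L g
    rw [hxcL, div_mul_cancel₀ _ hx₀]
  have hdom : ∀ b ∈ I, W.valuation (algebraMap B L b) < 1 := by
    intro b hb
    have h1 : algebraMap B C b ∈ p := hIp (hmapI (Ideal.mem_map_of_mem _ hb))
    have h2 : algebraMap C (Localization.AtPrime p) (algebraMap B C b) ∈
        IsLocalRing.maximalIdeal (Localization.AtPrime p) :=
      (IsLocalization.AtPrime.to_map_mem_maximal_iff (Localization.AtPrime p) p _).mpr h1
    have h3 : ¬ IsUnit (algebraMap C (Localization.AtPrime p) (algebraMap B C b)) := by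
      rwa [IsLocalRing.mem_maximalIdeal, mem_nonunits_iff] at h2
    have h5 : (⟨_, hW (algebraMap C (Localization.AtPrime p) (algebraMap B C b))⟩ : ↥W) ∈
        IsLocalRing.maximalIdeal ↥W :=
      (IsLocalRing.mem_maximalIdeal _).mpr
        (mem_nonunits_iff.mpr (fun h => h3 (hlocW.map_nonunit _ h)))
    have h6 := (ValuationSubring.valuation_lt_one_iff W _).mp h5
    rw [h7 b]
    exact h6
  have hWnf : ¬ IsField ↥W := by
    intro hf
    have h1 := hdom x₀ hx₀I
    have h2 : (⟨algebraMap B L x₀, hcont x₀⟩ : ↥W) ∈ IsLocalRing.maximalIdeal ↥W :=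
      (ValuationSubring.valuation_lt_one_iff W ⟨_, hcont x₀⟩).mpr h1
    rw [IsLocalRing.isField_iff_maximalIdeal_eq.mp hf, Ideal.mem_bot] at h2
    exact hx₀ (congrArg Subtype.val h2)
  have hVR : ValuationRing ↥W := inferInstance
  have hiff : IsDiscreteValuationRing ↥W ↔ ValuationRing ↥W :=
    (IsDiscreteValuationRing.TFAE ↥W hWnf).out 0 1
  exact ⟨W, hiff.mpr hVR, hcont, hdom⟩

end Helper1.DVRDom
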