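import Mathlib
import Groth.Agent.Lib.helper1.RegLocal

/-!
# DVR = regular local ring of dimension one (helper1)
-/

universe u

namespace Helper1

open IsLocalRing

theorem exists_isDomain_dvr_iff (R : Type u) [CommRing R] [IsLocalRing R] [IsNoetherianRing R] :
    (∃ _ : IsDomain R, IsDiscreteValuationRing R) ↔
      IsRegularLocalRing R ∧ ringKrullDim R = 1 := by
  constructor
  · rintro ⟨hd, hdvr⟩
    exact ⟨inferInstance, IsDiscreteValuationRing.ringKrullDim_eq_one R⟩
  · rintro ⟨hreg, hdim⟩
    haveI hd : IsDomain R := isDomain_of_isRegularLocalRing R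
    refine ⟨hd, ?_⟩
    rw [← IsLocalRing.finrank_CotangentSpace_eq_one_iff]
    have h1 := (IsRegularLocalRing.iff_finrank_cotangentSpace R).mp hreg
    rw [hdim] at h1
    exact_mod_cast h1

end Helper1
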