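import Mathlib
import Groth.Prelude.Def_Wider

/-!
# I-depth via Ext (helper1), using Mathlib's Rees theorem
-/

universe w' v' u' u

open CategoryTheory

namespace Helper1.DepthExt

theorem subsingleton_ext_of_iso {C : Type u'} [Category.{v'} C] [Abelian C] [HasExt.{w'} C]
    {X X' Y : C} (e : X ≅ X') (n : ℕ)
    (h : Subsingleton (Abelian.Ext X' Y n)) : Subsingleton (Abelian.Ext X Y n) := by
  constructor
  intro α β
  have key : ∀ γ : Abelian.Ext X Y n, γ = (Abelian.Ext.mk₀ e.hom).comp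
      ((Abelian.Ext.mk₀ e.inv).comp γ (zero_add n)) (zero_add n) := by
    intro γ
    rw [← Abelian.Ext.comp_assoc (Abelian.Ext.mk₀ e.hom) (Abelian.Ext.mk₀ e.inv) γ (add_zero 0)
      (zero_add n) (by omega), Abelian.Ext.mk₀_comp_mk₀, e.hom_inv_id, Abelian.Ext.mk₀_id_comp]
  rw [key α, key β, Subsingleton.elim ((Abelian.Ext.mk₀ e.inv).comp α (zero_add n))
    ((Abelian.Ext.mk₀ e.inv).comp β (zero_add n))]

variable (R : Type u) [CommRing R] [IsNoetherianRing R] (I : Ideal R) (M : Type u)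
  [AddCommGroup M] [Module R M] [Module.Finite R M]

theorem ext_iff_exists_regular (hIM : I • (⊤ : Submodule R M) ≠ ⊤) (k : ℕ) :
    (∀ i < k, Subsingleton (Abelian.Ext (ModuleCat.of R (R ⧸ I)) (ModuleCat.of R M) i)) ↔
      ∃ rs : List R, rs.length = k ∧ (∀ r ∈ rs, r ∈ I) ∧ RingTheory.Sequence.IsRegular M rs := by
  have smul_lt : I • (⊤ : Submodule R M) < ⊤ := lt_top_iff_ne_top.mpr hIM
  have h24 := (ModuleCat.exists_isRegular_tfae I k (ModuleCat.of R M) smul_lt).out 1 3
  rw [← h24]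
  constructor
  · intro h i hi
    exact subsingleton_ext_of_iso (Shrink.linearEquiv R (R ⧸ I)).toModuleIso i (h i hi)
  · intro h i hi
    exact subsingleton_ext_of_iso (Shrink.linearEquiv R (R ⧸ I)).toModuleIso.symm i (h i hi)

theorem idealDepth_eq (hIM : I • (⊤ : Submodule R M) ≠ ⊤) :
    LocCoh.idealDepth I M = ⨆ (rs : List R)
      (_ : RingTheory.Sequence.IsWeaklyRegular M rs ∧ ∀ r ∈ rs, r ∈ I), (rs.length : ℕ∞) := by
  classical
  unfold LocCoh.idealDepth; rw [if_neg hIM]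

theorem isRegular_of_isWeaklyRegular (hIM : I • (⊤ : Submodule R M) ≠ ⊤) (rs : List R)
    (hw : RingTheory.Sequence.IsWeaklyRegular M rs) (hmem : ∀ r ∈ rs, r ∈ I) :
    RingTheory.Sequence.IsRegular M rs := by
  refine ⟨hw, ?_⟩
  intro htop
  have hle : Ideal.ofList rs ≤ I := Ideal.span_le.mpr hmem
  have h1 : (⊤ : Submodule R M) ≤ I • ⊤ := htop.le.trans (Submodule.smul_mono_left hle)
  exact hIM (top_le_iff.mp h1)

theorem le_idealDepth_iff_ext (hIM : I • (⊤ : Submodule R M) ≠ ⊤) (k : ℕ) :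
    (k : ℕ∞) ≤ LocCoh.idealDepth I M ↔ (∀ i < k, Subsingleton
      (Abelian.Ext (ModuleCat.of R (R ⧸ I)) (ModuleCat.of R M) i)) := by
  constructor
  · intro hk
    rcases Nat.eq_zero_or_pos k with rfl | hkpos
    · intro i hi; exact absurd hi (Nat.not_lt_zero i)
    · rw [idealDepth_eq R I M hIM] at hk
      have hlt : ((k - 1 : ℕ) : ℕ∞) < ⨆ (rs : List R)
          (_ : RingTheory.Sequence.IsWeaklyRegular M rs ∧ ∀ r ∈ rs, r ∈ I), (rs.length : ℕ∞) :=
        lt_of_lt_of_le (by exact_mod_cast Nat.sub_lt hkpos one_pos) hk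
      rw [lt_iSup_iff] at hlt
      obtain ⟨rs, hlt⟩ := hlt
      rw [lt_iSup_iff] at hlt
      obtain ⟨⟨hw, hmem⟩, hlt⟩ := hlt
      have hklen : k ≤ rs.length := by
        have h1 : k - 1 < rs.length := by exact_mod_cast hlt
        omega
      have hE := (ext_iff_exists_regular R I M hIM rs.length).mpr
        ⟨rs, rfl, hmem, isRegular_of_isWeaklyRegular R I M hIM rs hw hmem⟩
      exact fun i hi => hE i (lt_of_lt_of_le hi hklen)
  · intro hE
    obtain ⟨rs, hlen, hmem, hreg⟩ := (ext_iff_exists_regular R I M hIM k).mp hE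
    rw [idealDepth_eq R I M hIM, ← hlen]
    exact le_iSup₂ (f := fun (rs : List R)
      (_ : RingTheory.Sequence.IsWeaklyRegular M rs ∧ ∀ r ∈ rs, r ∈ I) => (rs.length : ℕ∞))
      rs ⟨hreg.toIsWeaklyRegular, hmem⟩

theorem le_idealDepth_iff_exists_regular (hIM : I • (⊤ : Submodule R M) ≠ ⊤) (k : ℕ) :
    (k : ℕ∞) ≤ LocCoh.idealDepth I M ↔
      ∃ rs : List R, rs.length = k ∧ (∀ r ∈ rs, r ∈ I) ∧ RingTheory.Sequence.IsRegular M rs :=
  (le_idealDepth_iff_ext R I M hIM k).trans (ext_iff_exists_regular R I M hIM k)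

theorem smul_top_quotSMulTop_ne_top {x : R} (hx : x ∈ I) (hIM : I • (⊤ : Submodule R M) ≠ ⊤) :
    I • (⊤ : Submodule R (QuotSMulTop x M)) ≠ ⊤ := by
  by_contra eq
  absurd congrArg (Submodule.comap (Submodule.mkQ _)) eq
  simpa [Submodule.comap_smul_top_of_surjective I _ (Submodule.mkQ_surjective _),
    Submodule.smul_mono_left ((Ideal.span_singleton_le_iff_mem I).mpr hx),
    ← Submodule.ideal_span_singleton_smul] using hIM

theorem ext_quotSMulTop (x : R) (hreg : IsSMulRegular M x) (k : ℕ)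
    (h_ext : ∀ i < k + 1, Subsingleton
      (Abelian.Ext (ModuleCat.of R (R ⧸ I)) (ModuleCat.of R M) i)) :
    ∀ i < k, Subsingleton
      (Abelian.Ext (ModuleCat.of R (R ⧸ I)) (ModuleCat.of R (QuotSMulTop x M)) i) := by
  intro i hi
  have hreg' : IsSMulRegular (ModuleCat.of R M) x := hreg
  have zero1 := AddCommGrpCat.isZero_of_iff_subsingleton.mpr (h_ext i (by omega))
  have zero2 := AddCommGrpCat.isZero_of_iff_subsingleton.mpr (h_ext (i + 1) (by omega))
  exact AddCommGrpCat.subsingleton_of_isZero <| ShortComplex.Exact.isZero_of_both_zeros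
    ((Abelian.Ext.covariant_sequence_exact₃' (ModuleCat.of R (R ⧸ I))
      hreg'.smulShortComplex_shortExact) i (i + 1) rfl)
    (zero1.eq_zero_of_src _) (zero2.eq_zero_of_tgt _)

end Helper1.DepthExt
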