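import Mathlib

/-!
# Helper lemmas on Henselian pairs (helper1)
-/

open Polynomial

namespace Helper1

universe u

/-- A ring is adically complete with respect to a nilpotent ideal. -/
theorem isAdicComplete_of_pow_eq_bot {R : Type*} [CommRing R] (I : Ideal R) (n : ℕ)
    (h : I ^ n = ⊥) : IsAdicComplete I R where
  haus' := by
    intro x hx
    have := hx n
    rw [h, SModEq.sub_mem] at this
    simpa using this
  prec' := by
    intro f hf
    refine ⟨f n, fun k => ?_⟩
    rcases le_total k n with hk | hk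
    · exact hf hk
    · have := hf hk
      rw [h, SModEq.sub_mem] at this
      have h2 : f n = f k := by simpa [sub_eq_zero] using this
      rw [h2]

/-- unit plus element of the Jacobson radical is a unit. -/
theorem isUnit_add_of_mem_jacobson_bot {R : Type*} [CommRing R] {u y : R} (hu : IsUnit u)
    (hy : y ∈ Ideal.jacobson (⊥ : Ideal R)) : IsUnit (u + y) := by
  obtain ⟨v, rfl⟩ := hu
  have := Ideal.mem_jacobson_bot.mp hy (↑v⁻¹)
  have h2 : (v : R) + y = v * (y * ↑v⁻¹ + 1) := by
    rw [mul_add, mul_one, mul_comm y, ← mul_assoc, v.mul_inv, one_mul, add_comm]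
  rw [h2]
  exact v.isUnit.mul this

/-- If `I ≤ jac` and `x` is a unit modulo `I`, then `x` is a unit. -/
theorem isUnit_of_isUnit_mk {R : Type*} [CommRing R] {I : Ideal R}
    (hI : I ≤ Ideal.jacobson ⊥) {x : R} (hx : IsUnit (Ideal.Quotient.mk I x)) : IsUnit x := by
  haveI := isLocalHom_of_le_jacobson_bot I hI
  exact isUnit_of_map_unit (Ideal.Quotient.mk I) x hx

/-- unit modulo `I` then modulo `J` (double quotient), with `I ⊔ J ≤ jac`, implies unit. -/
theorem isUnit_of_isUnit_mk_map {R : Type*} [CommRing R] {I J : Ideal R}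
    (h : I ⊔ J ≤ Ideal.jacobson ⊥) {x : R}
    (hx : IsUnit (Ideal.Quotient.mk (J.map (Ideal.Quotient.mk I)) (Ideal.Quotient.mk I x))) :
    IsUnit x := by
  obtain ⟨yb, hy⟩ := isUnit_iff_exists_inv.mp hx
  obtain ⟨yb, rfl⟩ := Ideal.Quotient.mk_surjective yb
  obtain ⟨y, rfl⟩ := Ideal.Quotient.mk_surjective yb
  have hy' : Ideal.Quotient.mk (J.map (Ideal.Quotient.mk I)) (Ideal.Quotient.mk I (x * y - 1))
      = 0 := by
    rw [map_sub, map_sub, map_one, map_one, map_mul, map_mul, hy, sub_self]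
  rw [Ideal.Quotient.eq_zero_iff_mem] at hy'
  replace hy := hy'
  obtain ⟨j, hjJ, hj⟩ := (Ideal.mem_map_iff_of_surjective _ Ideal.Quotient.mk_surjective).mp hy
  have h1 : x * y - 1 - j ∈ I := by
    rw [← Ideal.Quotient.eq_zero_iff_mem, map_sub, hj, sub_self]
  have h2 : x * y - 1 ∈ I ⊔ J := by
    have h3 : x * y - 1 = (x * y - 1 - j) + j := by ring
    rw [h3]
    exact Ideal.add_mem _ (Ideal.mem_sup_left h1) (Ideal.mem_sup_right hjJ)
  have h4 : IsUnit (x * y) := by
    have h5 : x * y = 1 + (x * y - 1) := by ring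
    rw [h5]
    exact isUnit_add_of_mem_jacobson_bot isUnit_one (h h2)
  exact isUnit_of_mul_isUnit_left h4

/-- Key uniqueness/locality lemma: if `a` is a root of `f`, `a - a₀ ∈ K ≤ jac`, `f'(a₀)` is a unit
and `f(a₀) ∈ I`, then `a - a₀ ∈ I`. -/
theorem root_sub_mem {R : Type*} [CommRing R] {I K : Ideal R} (hK : K ≤ Ideal.jacobson ⊥)
    (f : R[X]) {a a₀ : R} (ha : f.IsRoot a) (haK : a - a₀ ∈ K) (hu : IsUnit (f.derivative.eval a₀))
    (h₁ : f.eval a₀ ∈ I) : a - a₀ ∈ I := by
  obtain ⟨k, hk⟩ := f.binomExpansion a (a₀ - a)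
  obtain ⟨z, hz⟩ := f.derivative.evalSubFactor a a₀
  have ha' : f.eval a = 0 := ha
  have e1 : f.eval a₀ = (a₀ - a) * (f.derivative.eval a₀ + (z * (a - a₀) + k * (a₀ - a))) := by
    have : a + (a₀ - a) = a₀ := by ring
    rw [this, ha'] at hk
    rw [hk]
    have hz' : f.derivative.eval a = f.derivative.eval a₀ + z * (a - a₀) := by
      rw [← hz]; ring
    rw [hz']; ring
  have hmem : z * (a - a₀) + k * (a₀ - a) ∈ Ideal.jacobson (⊥ : Ideal R) := by
    apply hK
    refine K.add_mem (K.mul_mem_left _ haK) (K.mul_mem_left _ ?_)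
    rw [← neg_sub]; exact K.neg_mem haK
  obtain ⟨v, hv⟩ := isUnit_add_of_mem_jacobson_bot hu hmem
  rw [← hv] at e1
  have : a₀ - a = f.eval a₀ * ↑v⁻¹ := by
    rw [e1, mul_assoc, v.mul_inv, mul_one]
  rw [← neg_sub, this]
  exact I.neg_mem (I.mul_mem_right _ h₁)

/-- A ring is Henselian at any ideal consisting of nilpotent elements. -/
theorem henselianRing_of_locally_nilpotent (A : Type*) [CommRing A] (I : Ideal A)
    (hI : ∀ x ∈ I, IsNilpotent x) : HenselianRing A I := by
  have jac : I ≤ Ideal.jacobson ⊥ := by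
    intro x hx
    rw [Ideal.mem_jacobson_bot]
    intro y
    exact (Commute.isNilpotent_mul_right (Commute.all x y) (hI x hx)).isUnit_add_one
  refine ⟨jac, ?_⟩
  intro f hf a₀ h₁ h₂
  obtain ⟨n, hn⟩ := hI _ h₁
  let J : Ideal A := Ideal.span {f.eval a₀}
  have hJn : J ^ n = ⊥ := by
    rw [Ideal.span_singleton_pow, hn, Ideal.span_singleton_eq_bot]
  haveI := isAdicComplete_of_pow_eq_bot J n hJn
  have hJI : J ≤ I := (Ideal.span_singleton_le_iff_mem I).mpr h₁
  have hu : IsUnit (f.derivative.eval a₀) := isUnit_of_isUnit_mk jac h₂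
  obtain ⟨a, ha, haa⟩ := HenselianRing.is_henselian (I := J) f hf a₀
    (Ideal.mem_span_singleton_self _) (hu.map _)
  exact ⟨a, ha, hJI haa⟩

/-- Henselian at `J` implies Henselian at any smaller ideal. -/
theorem henselianRing_of_le {A : Type*} [CommRing A] {I J : Ideal A} (hIJ : I ≤ J)
    [hJ : HenselianRing A J] : HenselianRing A I := by
  have jac : I ≤ Ideal.jacobson ⊥ := hIJ.trans hJ.jac
  refine ⟨jac, ?_⟩
  intro f hf a₀ h₁ h₂
  have hu : IsUnit (f.derivative.eval a₀) := isUnit_of_isUnit_mk jac h₂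
  obtain ⟨a, ha, haa⟩ := HenselianRing.is_henselian (I := J) f hf a₀ (hIJ h₁) (hu.map _)
  exact ⟨a, ha, root_sub_mem hJ.jac f ha haa hu h₁⟩

/-- The image of the Jacobson radical under a quotient map lies in the Jacobson radical. -/
theorem map_mk_le_jacobson {A : Type*} [CommRing A] (I : Ideal A) {J : Ideal A}
    (hJ : J ≤ Ideal.jacobson ⊥) :
    J.map (Ideal.Quotient.mk I) ≤ Ideal.jacobson (⊥ : Ideal (A ⧸ I)) := by
  rw [Ideal.map_le_iff_le_comap]
  intro x hx
  rw [Ideal.mem_comap, Ideal.mem_jacobson_bot]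
  intro y
  obtain ⟨y, rfl⟩ := Ideal.Quotient.mk_surjective y
  have := Ideal.mem_jacobson_bot.mp (hJ hx) y
  rw [← map_mul, ← map_one (Ideal.Quotient.mk I), ← map_add]
  exact this.map _

/-- Quotient of a Henselian pair by an ideal contained in the Jacobson radical. -/
theorem henselianRing_quotient {A : Type*} [CommRing A] (I J : Ideal A)
    (hI : I ≤ Ideal.jacobson ⊥) [hJ : HenselianRing A J] :
    HenselianRing (A ⧸ I) (J.map (Ideal.Quotient.mk I)) := by
  have jacIJ : I ⊔ J ≤ Ideal.jacobson ⊥ := sup_le hI hJ.jac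
  refine ⟨map_mk_le_jacobson I hJ.jac, ?_⟩
  intro f hf a₀ h₁ h₂
  obtain ⟨a₀, rfl⟩ := Ideal.Quotient.mk_surjective a₀
  by_cases hdeg : f.natDegree = 0
  · -- `f = 1`; then the ring is trivial
    have hf1 : f = 1 := by
      rw [← hf.natDegree_eq_zero]; exact hdeg
    rw [hf1, eval_one] at h₁
    have h1 : (1 : A ⧸ I) ∈ Ideal.jacobson (⊥ : Ideal (A ⧸ I)) :=
      map_mk_le_jacobson I hJ.jac h₁
    have hss : Subsingleton (A ⧸ I) := by
      have := Ideal.mem_jacobson_bot.mp h1 (-1)
      simp only [mul_neg, mul_one, neg_add_cancel] at this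
      exact subsingleton_of_zero_eq_one (isUnit_zero_iff.mp this)
    refine ⟨Ideal.Quotient.mk I a₀, Subsingleton.elim _ _, ?_⟩
    rw [sub_self]; exact Ideal.zero_mem _
  -- lift `f` to a monic polynomial over `A`
  obtain ⟨g, rfl, hgdeg, hgm⟩ := Polynomial.lifts_and_natDegree_eq_and_monic
    (Polynomial.mem_lifts_of_surjective Ideal.Quotient.mk_surjective f) hf
  rw [eval_map, eval₂_at_apply] at h₁
  obtain ⟨x, hxJ, hx⟩ := (Ideal.mem_map_iff_of_surjective _ Ideal.Quotient.mk_surjective).mp h₁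
  have hi : g.eval a₀ - x ∈ I := by
    rw [← Ideal.Quotient.eq_zero_iff_mem, map_sub, hx, sub_self]
  set i := g.eval a₀ - x with hi_def
  have hg1m : (g - C i).Monic := by
    apply hgm.sub_of_left
    refine lt_of_le_of_lt degree_C_le ?_
    rw [← natDegree_pos_iff_degree_pos, hgdeg]
    exact Nat.pos_of_ne_zero hdeg
  have hu : IsUnit (g.derivative.eval a₀) := by
    apply isUnit_of_isUnit_mk_map jacIJ
    rw [derivative_map, eval_map, eval₂_at_apply] at h₂
    exact h₂
  have hder : (g - C i).derivative = g.derivative := by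
    rw [derivative_sub, derivative_C, sub_zero]
  obtain ⟨a, ha, haa⟩ := HenselianRing.is_henselian (I := J) (g - C i) hg1m a₀
    (by rw [eval_sub, eval_C, hi_def]; simpa using hxJ) (by rw [hder]; exact hu.map _)
  refine ⟨Ideal.Quotient.mk I a, ?_, ?_⟩
  · rw [IsRoot.def, eval_map, eval₂_at_apply]
    have ha' : g.eval a - i = 0 := by
      have := ha
      rwa [IsRoot.def, eval_sub, eval_C] at this
    rw [sub_eq_zero.mp ha']
    exact Ideal.Quotient.eq_zero_iff_mem.mpr hi
  · rw [← map_sub]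
    exact Ideal.mem_map_of_mem _ haa

/-- Extension of Henselian pairs: `(A, I)` and `(A/I, J/I)` Henselian imply `(A, J)` Henselian. -/
theorem henselianRing_of_quotient {A : Type*} [CommRing A] {I J : Ideal A} (hIJ : I ≤ J)
    [hI : HenselianRing A I] [hJ : HenselianRing (A ⧸ I) (J.map (Ideal.Quotient.mk I))] :
    HenselianRing A J := by
  have jac : J ≤ Ideal.jacobson ⊥ := by
    intro x hx
    rw [Ideal.mem_jacobson_bot]
    intro y
    apply isUnit_of_isUnit_mk hI.jac
    have hx' : Ideal.Quotient.mk I x ∈ Ideal.jacobson (⊥ : Ideal (A ⧸ I)) :=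
      hJ.jac (Ideal.mem_map_of_mem _ hx)
    have := Ideal.mem_jacobson_bot.mp hx' (Ideal.Quotient.mk I y)
    rwa [← map_mul, ← map_one (Ideal.Quotient.mk I), ← map_add] at this
  refine ⟨jac, ?_⟩
  intro f hf a₀ h₁ h₂
  have hu : IsUnit (f.derivative.eval a₀) := isUnit_of_isUnit_mk jac h₂
  obtain ⟨ab, hab, hab'⟩ := HenselianRing.is_henselian (I := J.map (Ideal.Quotient.mk I))
    (f.map (Ideal.Quotient.mk I)) (hf.map _) (Ideal.Quotient.mk I a₀)
    (by rw [eval_map, eval₂_at_apply]; exact Ideal.mem_map_of_mem _ h₁)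
    (by rw [derivative_map, eval_map, eval₂_at_apply]; exact (hu.map _).map _)
  obtain ⟨a₁, rfl⟩ := Ideal.Quotient.mk_surjective ab
  rw [IsRoot.def, eval_map, eval₂_at_apply, Ideal.Quotient.eq_zero_iff_mem] at hab
  have ha₁ : a₁ - a₀ ∈ J := by
    rw [← map_sub] at hab'
    obtain ⟨j, hjJ, hj⟩ := (Ideal.mem_map_iff_of_surjective _ Ideal.Quotient.mk_surjective).mp hab'
    have : a₁ - a₀ - j ∈ I := by
      rw [← Ideal.Quotient.eq_zero_iff_mem, map_sub, hj, sub_self]
    have h3 : a₁ - a₀ = (a₁ - a₀ - j) + j := by ring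
    rw [h3]
    exact J.add_mem (hIJ this) hjJ
  have hu₁ : IsUnit (f.derivative.eval a₁) := by
    obtain ⟨z, hz⟩ := f.derivative.evalSubFactor a₁ a₀
    have : f.derivative.eval a₁ = f.derivative.eval a₀ + z * (a₁ - a₀) := by
      rw [← hz]; ring
    rw [this]
    exact isUnit_add_of_mem_jacobson_bot hu (jac (J.mul_mem_left _ ha₁))
  obtain ⟨a, ha, haa⟩ := HenselianRing.is_henselian (I := I) f hf a₁ hab (hu₁.map _)
  refine ⟨a, ha, ?_⟩
  have h3 : a - a₀ = (a - a₁) + (a₁ - a₀) := by ring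
  rw [h3]
  exact J.add_mem (hIJ haa) ha₁

/-- Henselian at `I` iff Henselian at its radical. -/
theorem henselianRing_radical_iff {A : Type*} [CommRing A] (I : Ideal A) :
    HenselianRing A I.radical ↔ HenselianRing A I := by
  constructor
  · intro h
    exact henselianRing_of_le Ideal.le_radical
  · intro h
    haveI : HenselianRing (A ⧸ I) (I.radical.map (Ideal.Quotient.mk I)) := by
      apply henselianRing_of_locally_nilpotent
      intro x hx
      obtain ⟨y, hy, rfl⟩ := (Ideal.mem_map_iff_of_surjective _ Ideal.Quotient.mk_surjective).mp hx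
      obtain ⟨n, hn⟩ := hy
      exact ⟨n, by rw [← map_pow]; exact Ideal.Quotient.eq_zero_iff_mem.mpr hn⟩
    exact henselianRing_of_quotient Ideal.le_radical

/-- Henselian at `I` and `J` implies Henselian at `I ⊔ J`. -/
theorem henselianRing_sup {A : Type*} [CommRing A] (I J : Ideal A)
    [hI : HenselianRing A I] [hJ : HenselianRing A J] : HenselianRing A (I ⊔ J) := by
  haveI : HenselianRing (A ⧸ I) ((I ⊔ J).map (Ideal.Quotient.mk I)) := by
    have : (I ⊔ J).map (Ideal.Quotient.mk I) = J.map (Ideal.Quotient.mk I) := by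
      rw [Ideal.map_sup, Ideal.map_quotient_self, bot_sup_eq]
    rw [this]
    exact henselianRing_quotient I J hI.jac
  exact henselianRing_of_quotient le_sup_left

theorem henselianRing_bot (A : Type*) [CommRing A] : HenselianRing A ⊥ where
  jac := bot_le
  is_henselian := by
    intro f _ a₀ h₁ _
    exact ⟨a₀, by simpa using h₁, by simp⟩

end Helper1
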