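import Mathlib
import Groth.Agent.Lib.helper1.Hensel

/-!
# Henselian pairs: Gabber's criterion and lifting of coprime monic factorizations (helper1)

Main results:
* `Helper1.exists_algHom_of_idempotent` : rank one idempotent splitting.
* `Helper1.exists_algHom_lift_of_gabber` : sections of localizations of finite algebras that are
  flat and unramified lift along a pair satisfying Gabber's condition.
* `Helper1.monic_factor_lift_of_gabber` : coprime monic factorizations lift.
* `Helper1.gabberCond_of_henselianRing`.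
-/

universe u

namespace Helper1

open Polynomial TensorProduct

/-- **Rank-one idempotent splitting.** -/
theorem exists_algHom_of_idempotent {A : Type*} [CommRing A] (I : Ideal A)
    (hI : I ≤ Ideal.jacobson ⊥)
    {B : Type*} [CommRing B] [Algebra A B] [Module.Finite A B]
    {B' : Type*} [CommRing B'] [Algebra A B'] [Module.Flat A B']
    (ι : B →ₐ[A] B') (σ' : B' →ₐ[A] A ⧸ I)
    (e : B) (he : IsIdempotentElem e) (hσe : σ' (ι e) = 1)
    (hker : ∀ j : B, σ' (ι j) = 0 →
      ∃ w ∈ Ideal.map (algebraMap A B) I, j * e = w * e) :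
    ∃ τ : B →ₐ[A] A, (∀ x, x * e = τ x • e) ∧
      ∀ x, Ideal.Quotient.mk I (τ x) = σ' (ι x) := by
  classical
  -- Step 6 : `eB ≤ A e`
  set N : Submodule A B := LinearMap.range (LinearMap.mulLeft A e) with hN
  have hNfg : N.FG := by
    rw [hN, LinearMap.range_eq_map]
    exact (Module.Finite.fg_top).map _
  have hIN : ∀ w ∈ Ideal.map (algebraMap A B) I, w * e ∈ I • N := by
    intro w hw
    have hw' : w ∈ (I • (⊤ : Submodule A B)) := by
      rw [Ideal.smul_top_eq_map]; exact hw
    have h1 : w * e ∈ Submodule.map (LinearMap.mulLeft A e) (I • (⊤ : Submodule A B)) :=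
      ⟨w, hw', by simp [mul_comm]⟩
    rw [Submodule.map_smul''] at h1
    rwa [hN, LinearMap.range_eq_map]
  have hmk : ∀ a : A, (a • (1 : A ⧸ I)) = Ideal.Quotient.mk I a := by
    intro a
    rw [Algebra.smul_def, mul_one]; rfl
  have hsplit : ∀ x : B, ∃ a : A, Ideal.Quotient.mk I a = σ' (ι x) ∧
      ∃ w ∈ Ideal.map (algebraMap A B) I, x * e = w * e + a • e := by
    intro x
    obtain ⟨a, ha⟩ := Ideal.Quotient.mk_surjective (σ' (ι x))
    refine ⟨a, ha, ?_⟩
    have hj : σ' (ι (x - a • 1)) = 0 := by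
      rw [map_sub, map_sub, map_smul, map_smul, map_one, map_one, hmk, ha, sub_self]
    obtain ⟨w, hw, hwe⟩ := hker _ hj
    refine ⟨w, hw, ?_⟩
    rw [← hwe, sub_mul, smul_mul_assoc, one_mul, sub_add_cancel]
  have hNle : N ≤ Submodule.span A {e} := by
    refine Submodule.le_of_le_smul_of_le_jacobson_bot hNfg hI ?_
    rintro _ ⟨x, rfl⟩
    obtain ⟨a, -, w, hw, hx⟩ := hsplit x
    rw [LinearMap.mulLeft_apply, mul_comm, hx, add_comm]
    exact Submodule.add_mem_sup (Submodule.smul_mem _ _ (Submodule.mem_span_singleton_self e))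
      (hIN w hw)
  -- Step 7 : `a • e = 0 → a = 0`
  have hinj : ∀ a : A, a • e = 0 → a = 0 := by
    intro a ha
    obtain ⟨k, c, y, hy, hc⟩ : Module.IsTrivialRelation (fun _ : Fin 1 => a)
        (fun _ : Fin 1 => ι e) := by
      refine Module.Flat.isTrivialRelation_of_sum_smul_eq_zero ?_
      simp only [Finset.univ_unique, Finset.sum_singleton]
      rw [← map_smul, ha, map_zero]
    have hy0 : ι e = ∑ j, c 0 j • y j := hy 0
    have hc' : ∀ j, a * c 0 j = 0 := by
      intro j
      have := hc j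
      simpa using this
    choose z hz using fun j => Ideal.Quotient.mk_surjective (σ' (y j))
    set v : A := ∑ j, c 0 j * z j with hv
    have hv1 : Ideal.Quotient.mk I v = 1 := by
      rw [← hσe, hy0, map_sum, map_sum]
      refine Finset.sum_congr rfl fun j _ => ?_
      rw [map_smul, map_mul, hz, Algebra.smul_def]; rfl
    have hvu : IsUnit v := by
      have h1 : v - 1 ∈ I := by
        rw [← Ideal.Quotient.eq_zero_iff_mem, map_sub, hv1, map_one, sub_self]
      have h2 := hI h1
      rw [Ideal.mem_jacobson_bot] at h2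
      have := h2 1
      simpa using this
    have hav : a * v = 0 := by
      rw [hv, Finset.mul_sum]
      refine Finset.sum_eq_zero fun j _ => ?_
      rw [← mul_assoc, hc', zero_mul]
    exact (hvu.mul_left_eq_zero).mp hav
  -- Step 8 : construct `τ`
  have hex : ∀ x : B, ∃ a : A, x * e = a • e := by
    intro x
    have : x * e ∈ N := ⟨x, by simp [mul_comm]⟩
    obtain ⟨a, ha⟩ := Submodule.mem_span_singleton.mp (hNle this)
    exact ⟨a, ha.symm⟩
  choose τ hτ using hex
  have huniq : ∀ a a' : A, a • e = a' • e → a = a' := by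
    intro a a' h
    have : (a - a') • e = 0 := by rw [sub_smul, h, sub_self]
    exact sub_eq_zero.mp (hinj _ this)
  have hee : e * e = e := he
  have τ_one : τ 1 = 1 := huniq _ _ (by rw [← hτ, one_mul, one_smul])
  have τ_mul : ∀ x y, τ (x * y) = τ x * τ y := by
    intro x y
    apply huniq
    rw [← hτ, mul_smul, ← hτ y, ← mul_smul_comm, ← hτ x]
    ring
  have τ_add : ∀ x y, τ (x + y) = τ x + τ y := by
    intro x y
    apply huniq
    rw [← hτ, add_smul, ← hτ, ← hτ, add_mul]
  have τ_alg : ∀ a : A, τ (algebraMap A B a) = a := by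
    intro a
    apply huniq
    rw [← hτ, Algebra.algebraMap_eq_smul_one, smul_mul_assoc, one_mul]
  have τ_zero : τ 0 = 0 := huniq _ _ (by rw [← hτ, zero_mul, zero_smul])
  let τ' : B →ₐ[A] A :=
    { toFun := τ
      map_one' := τ_one
      map_mul' := τ_mul
      map_zero' := τ_zero
      map_add' := τ_add
      commutes' := τ_alg }
  refine ⟨τ', hτ, fun x => ?_⟩
  change Ideal.Quotient.mk I (τ x) = _
  have h1 : σ' (ι (x * e)) = σ' (ι (τ x • e)) := by rw [← hτ]
  rw [map_mul, map_mul, hσe, mul_one, map_smul, map_smul, hσe, hmk] at h1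
  exact h1.symm

/-- Step 1: from the unramified tensor element, an element `ε₀` with `σ' ε₀ = 1` and
`ker σ' * ε₀ ⊆ I B'`. -/
theorem exists_elem_of_unramified {A : Type*} [CommRing A] (I : Ideal A)
    {B' : Type*} [CommRing B'] [Algebra A B'] [Algebra.FormallyUnramified A B']
    [Algebra.EssFiniteType A B'] (σ' : B' →ₐ[A] A ⧸ I) :
    ∃ ε₀ : B', σ' ε₀ = 1 ∧ ∀ s, σ' s = 0 → s * ε₀ ∈ Ideal.map (algebraMap A B') I := by
  set J : Ideal B' := Ideal.map (algebraMap A B') I with hJ
  let π : B' →ₐ[A] B' ⧸ J := Ideal.Quotient.mkₐ A J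
  have hφ0 : ∀ a : A, a ∈ I → Algebra.ofId A (B' ⧸ J) a = 0 := by
    intro a ha
    change algebraMap A (B' ⧸ J) a = 0
    rw [IsScalarTower.algebraMap_apply A B' (B' ⧸ J), Ideal.Quotient.algebraMap_eq,
      Ideal.Quotient.eq_zero_iff_mem]
    exact Ideal.mem_map_of_mem _ ha
  let φ : A ⧸ I →ₐ[A] B' ⧸ J := Ideal.Quotient.liftₐ I (Algebra.ofId A (B' ⧸ J)) hφ0
  let ρ : B' →ₐ[A] B' ⧸ J := φ.comp σ'
  let Θ : B' ⊗[A] B' →ₐ[A] B' ⧸ J := Algebra.TensorProduct.productMap π ρ
  have hσ0 : ∀ x : B', x ∈ J → σ' x = 0 := by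
    intro x hx
    have : J ≤ RingHom.ker σ'.toRingHom := by
      rw [hJ, Ideal.map_le_iff_le_comap]
      intro a ha
      rw [Ideal.mem_comap, RingHom.mem_ker]
      change σ' (algebraMap A B' a) = 0
      rw [AlgHom.commutes, Ideal.Quotient.algebraMap_eq, Ideal.Quotient.eq_zero_iff_mem]
      exact ha
    exact this hx
  let σ'' : B' ⧸ J →ₐ[A] A ⧸ I := Ideal.Quotient.liftₐ J σ' hσ0
  have hσπ : ∀ x, σ'' (π x) = σ' x := fun x => rfl
  have hσφ : ∀ z, σ'' (φ z) = z := by
    intro z
    obtain ⟨c, rfl⟩ := Ideal.Quotient.mk_surjective z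
    change σ'' (algebraMap A (B' ⧸ J) c) = _
    rw [AlgHom.commutes]; rfl
  have hcomp : σ''.comp Θ = σ'.comp (Algebra.TensorProduct.lmul' A) := by
    apply Algebra.TensorProduct.ext'
    intro x y
    simp only [AlgHom.comp_apply, Θ, Algebra.TensorProduct.productMap_apply_tmul,
      Algebra.TensorProduct.lmul'_apply_tmul, map_mul, ρ, hσπ, hσφ]
  set t := Algebra.FormallyUnramified.elem A B' with ht
  set q := Θ t with hq
  have hq1 : σ'' q = 1 := by
    have := congrArg (fun f => f t) hcomp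
    simp only [AlgHom.comp_apply] at this
    rw [hq, this, Algebra.FormallyUnramified.lmul_elem, map_one]
  have hq2 : ∀ s, ρ s * q = π s * q := by
    intro s
    have h1 := Algebra.FormallyUnramified.one_tmul_mul_elem (R := A) (S := B') s
    have h2 := congrArg Θ h1
    rw [map_mul, map_mul] at h2
    simpa [Θ, Algebra.TensorProduct.productMap_apply_tmul] using h2
  obtain ⟨ε₀, hε₀⟩ := Ideal.Quotient.mk_surjective q
  refine ⟨ε₀, ?_, ?_⟩
  · rw [← hσπ ε₀]
    change σ'' (Ideal.Quotient.mk J ε₀) = 1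
    rw [hε₀, hq1]
  · intro s hs
    have h1 := hq2 s
    have h2 : ρ s = 0 := by
      change φ (σ' s) = 0
      rw [hs, map_zero]
    rw [h2, zero_mul] at h1
    rw [← Ideal.Quotient.eq_zero_iff_mem, map_mul, hε₀]
    exact h1.symm

/-- Step 2: transfer from the localization `B' = B[1/Δ]` to the finite algebra `B`. -/
theorem exists_elem_finite_of_away {A : Type*} [CommRing A] (I : Ideal A)
    {B : Type*} [CommRing B] [Algebra A B] [Module.Finite A B] (Δ : B)
    {B' : Type*} [CommRing B'] [Algebra A B'] [Algebra B B'] [IsScalarTower A B B']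
    [IsLocalization.Away Δ B'] (σ' : B' →ₐ[A] A ⧸ I) (ε₀ : B') (h1 : σ' ε₀ = 1)
    (h2 : ∀ s, σ' s = 0 → s * ε₀ ∈ Ideal.map (algebraMap A B') I) :
    ∃ b : B, σ' (algebraMap B B' b) = 1 ∧
      ∀ j : B, σ' (algebraMap B B' j) = 0 → j * b ∈ Ideal.map (algebraMap A B) I := by
  classical
  set IB : Ideal B := Ideal.map (algebraMap A B) I with hIB
  have hmk : ∀ a : A, (a • (1 : A ⧸ I)) = Ideal.Quotient.mk I a := by
    intro a
    rw [Algebra.smul_def, mul_one]; rfl
  have hΔu : IsUnit (algebraMap B B' Δ) := IsLocalization.Away.algebraMap_isUnit Δ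
  obtain ⟨N, b₀, hb₀⟩ := IsLocalization.Away.surj Δ ε₀
  have hJ : Ideal.map (algebraMap A B') I = Ideal.map (algebraMap B B') IB := by
    rw [hIB, Ideal.map_map, ← IsScalarTower.algebraMap_eq]
  -- key claim
  have key : ∀ j : B, σ' (algebraMap B B' j) = 0 → ∃ M : ℕ, j * b₀ * Δ ^ M ∈ IB := by
    intro j hj
    have h3 : algebraMap B B' (j * b₀) ∈ Ideal.map (algebraMap B B') IB := by
      rw [← hJ, map_mul, ← hb₀, ← mul_assoc]
      exact Ideal.mul_mem_right _ _ (h2 _ hj)
    rw [IsLocalization.mem_map_algebraMap_iff (Submonoid.powers Δ)] at h3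
    obtain ⟨⟨⟨c, hc⟩, ⟨_, m, rfl⟩⟩, h4⟩ := h3
    simp only at h4
    rw [← map_mul, IsLocalization.eq_iff_exists (Submonoid.powers Δ)] at h4
    obtain ⟨⟨_, m', rfl⟩, h5⟩ := h4
    simp only at h5
    refine ⟨m + m', ?_⟩
    have : j * b₀ * Δ ^ (m + m') = Δ ^ m' * c := by
      rw [← h5, pow_add]; ring
    rw [this]
    exact Ideal.mul_mem_left _ _ hc
  choose a ha using fun x : B => Ideal.Quotient.mk_surjective (σ' (algebraMap B B' x))
  have hja : ∀ x : B, σ' (algebraMap B B' (x - a x • 1)) = 0 := by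
    intro x
    rw [map_sub, map_sub, Algebra.smul_def, mul_one, ← IsScalarTower.algebraMap_apply,
      AlgHom.commutes, Ideal.Quotient.algebraMap_eq, ha, sub_self]
  choose Mf hMf using fun x : B => key _ (hja x)
  obtain ⟨s, hs⟩ := (Module.Finite.fg_top : (⊤ : Submodule A B).FG)
  set M : ℕ := ∑ x ∈ s, Mf x with hM
  set b₁ : B := b₀ * Δ ^ M with hb₁
  have hb₁s : ∀ x ∈ s, (x - a x • 1) * b₁ ∈ IB := by
    intro x hx
    have hle : Mf x ≤ M := Finset.single_le_sum (f := Mf) (fun _ _ => Nat.zero_le _) hx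
    obtain ⟨d, hd⟩ := Nat.exists_eq_add_of_le hle
    have : (x - a x • 1) * b₁ = (x - a x • 1) * b₀ * Δ ^ Mf x * Δ ^ d := by
      rw [hb₁, hd, pow_add]; ring
    rw [this]
    exact Ideal.mul_mem_right _ _ (hMf x)
  -- the unit
  have hσb₁ : IsUnit (σ' (algebraMap B B' b₁)) := by
    have : algebraMap B B' b₁ = ε₀ * algebraMap B B' Δ ^ (N + M) := by
      rw [hb₁, map_mul, ← hb₀, map_pow, pow_add, mul_assoc]
    rw [this, map_mul, h1, one_mul, map_pow]
    exact (hΔu.map σ').pow _
  obtain ⟨cbar, hcbar⟩ := hσb₁.exists_left_inv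
  obtain ⟨c, rfl⟩ := Ideal.Quotient.mk_surjective cbar
  refine ⟨c • b₁, ?_, ?_⟩
  · rw [Algebra.smul_def, map_mul, ← IsScalarTower.algebraMap_apply, map_mul, AlgHom.commutes,
      Ideal.Quotient.algebraMap_eq, hcbar]
  · have hP : ∀ x : B, ∃ r : A, Ideal.Quotient.mk I r = σ' (algebraMap B B' x) ∧
        (x - r • 1) * (c • b₁) ∈ IB := by
      intro x
      have hx : x ∈ Submodule.span A (s : Set B) := by rw [hs]; trivial
      induction hx using Submodule.span_induction with
      | mem x hx =>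
        refine ⟨a x, ha x, ?_⟩
        rw [mul_smul_comm, Algebra.smul_def]
        exact Ideal.mul_mem_left _ _ (hb₁s x hx)
      | zero => exact ⟨0, by simp, by simp⟩
      | add x y _ _ hx hy =>
        obtain ⟨r, hr, hr'⟩ := hx
        obtain ⟨r', hr2, hr2'⟩ := hy
        refine ⟨r + r', by rw [map_add, map_add, map_add, hr, hr2], ?_⟩
        have : (x + y - (r + r') • 1) * (c • b₁) =
            (x - r • 1) * (c • b₁) + (y - r' • 1) * (c • b₁) := by
          rw [add_smul]; ring
        rw [this]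
        exact add_mem hr' hr2'
      | smul t x _ hx =>
        obtain ⟨r, hr, hr'⟩ := hx
        refine ⟨t * r, ?_, ?_⟩
        · rw [map_mul, hr, Algebra.smul_def, map_mul, map_mul, ← IsScalarTower.algebraMap_apply,
            AlgHom.commutes, Ideal.Quotient.algebraMap_eq]
        · have : (t • x - (t * r) • 1) * (c • b₁) = algebraMap A B t * ((x - r • 1) * (c • b₁)) := by
            rw [mul_smul, Algebra.smul_def t x, Algebra.smul_def t (r • (1 : B))]; ring
          rw [this]
          exact Ideal.mul_mem_left _ _ hr'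
    intro j hj
    obtain ⟨r, hr, hr'⟩ := hP j
    rw [hj, Ideal.Quotient.eq_zero_iff_mem] at hr
    have : j * (c • b₁) = (j - r • 1) * (c • b₁) + algebraMap A B r * (c • b₁) := by
      rw [Algebra.smul_def r (1 : B)]; ring
    rw [this]
    exact add_mem hr' (Ideal.mul_mem_right _ _ (Ideal.mem_map_of_mem _ hr))

/-- Cayley–Hamilton for a matrix representing multiplication by `b` w.r.t. a spanning family. -/
theorem aeval_charpoly_eq_zero_of_represents {A : Type*} [CommRing A] {B : Type*} [CommRing B]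
    [Algebra A B] {ι : Type*} [Fintype ι] [DecidableEq ι] (y : ι → B)
    (hy : Submodule.span A (Set.range y) = ⊤)
    (Mat : Matrix ι ι A) (b : B) (h : ∀ l, ∑ k, Mat k l • y k = b * y l) :
    Polynomial.aeval b Mat.charpoly = 0 := by
  set f : Module.End A B := Algebra.lmul A B b with hf
  have hrep : Mat.Represents y f := by
    rw [Matrix.represents_iff']
    intro l
    rw [h l]; rfl
  let A' : Matrix.isRepresentation A y := ⟨Mat, f, hrep⟩
  have h1 : Matrix.isRepresentation.toEnd A y hy A' = f :=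
    Matrix.isRepresentation.eq_toEnd_of_represents A y hy A' hrep
  have h2 : Polynomial.aeval f Mat.charpoly = 0 := by
    rw [← h1, Polynomial.aeval_algHom_apply,
      ← map_zero (Matrix.isRepresentation.toEnd A y hy)]
    congr 1
    ext1
    rw [Polynomial.aeval_subalgebra_coe, Subalgebra.coe_zero]
    exact Matrix.aeval_self_charpoly Mat
  have h3 : Polynomial.aeval f Mat.charpoly = Algebra.lmul A B (Polynomial.aeval b Mat.charpoly) := by
    rw [hf, Polynomial.aeval_algHom_apply]
  rw [h3] at h2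
  have := congrArg (fun g : Module.End A B => g 1) h2
  simpa using this

/-- Gabber's condition. -/
def GabberCond {A : Type*} [CommRing A] (I : Ideal A) : Prop :=
  I ≤ Ideal.jacobson ⊥ ∧ ∀ (n : ℕ), 0 < n → ∀ p : A[X], p.natDegree ≤ n → (∀ i, p.coeff i ∈ I) →
    ∃ α : A, α - 1 ∈ I ∧ (X ^ n * (X - 1) + p).IsRoot α

theorem exists_gabber_poly {A : Type*} [CommRing A] (I : Ideal A)
    {B : Type*} [CommRing B] [Algebra A B] [Module.Finite A B]
    (σ : B →ₐ[A] A ⧸ I) (b : B) (hb1 : σ b = 1)
    (hb2 : ∀ j : B, σ j = 0 → j * b ∈ Ideal.map (algebraMap A B) I) :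
    ∃ (n : ℕ) (F : A[X]), F.Monic ∧ aeval b F = 0 ∧
      F.map (Ideal.Quotient.mk I) = X ^ (n + 1) * (X - 1) ∧
      (F - X ^ (n + 1) * (X - 1)).natDegree ≤ n + 1 := by
  classical
  set IB : Ideal B := Ideal.map (algebraMap A B) I with hIB
  have hmk : ∀ a : A, (a • (1 : A ⧸ I)) = Ideal.Quotient.mk I a := by
    intro a
    rw [Algebra.smul_def, mul_one]; rfl
  obtain ⟨n, x0, hx0⟩ := Module.Finite.exists_fin (R := A) (M := B)
  let x : Fin (n + 1) → B := Fin.cons 0 x0
  have hx : Submodule.span A (Set.range x) = ⊤ := by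
    rw [eq_top_iff, ← hx0]
    apply Submodule.span_mono
    rintro _ ⟨i, rfl⟩
    exact ⟨i.succ, by simp [x]⟩
  choose a ha using fun i : Fin (n + 1) => Ideal.Quotient.mk_surjective (σ (x i))
  let y : Fin (n + 2) → B := Fin.cons b (fun i => x i - a i • b)
  have hy0 : y 0 = b := rfl
  have hys : ∀ i : Fin (n + 1), y i.succ = x i - a i • b := fun i => by simp [y]
  have hy : Submodule.span A (Set.range y) = ⊤ := by
    rw [eq_top_iff, ← hx, Submodule.span_le]
    rintro _ ⟨i, rfl⟩
    have : x i = y i.succ + a i • y 0 := by rw [hys, hy0, sub_add_cancel]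
    rw [this]
    exact add_mem (Submodule.subset_span ⟨_, rfl⟩)
      (Submodule.smul_mem _ _ (Submodule.subset_span ⟨_, rfl⟩))
  have hmemIB : ∀ l, b * y l - (if l = 0 then y 0 else 0) ∈ IB := by
    intro l
    refine Fin.cases ?_ (fun i => ?_) l
    · rw [if_pos rfl, hy0]
      have : b * b - b = (b - 1) * b := by ring
      rw [this]
      exact hb2 _ (by rw [map_sub, hb1, map_one, sub_self])
    · rw [if_neg (Fin.succ_ne_zero i), sub_zero, hys, mul_comm]
      exact hb2 _ (by rw [map_sub, map_smul, hb1, hmk, ha, sub_self])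
  have hrel : ∀ l, ∃ c : Fin (n + 2) → A, (∀ k, c k ∈ I) ∧
      ∑ k, c k • y k = b * y l - (if l = 0 then y 0 else 0) := by
    intro l
    have h1 : b * y l - (if l = 0 then y 0 else 0) ∈ I • Submodule.span A (Set.range y) := by
      rw [hy, Ideal.smul_top_eq_map]
      exact hmemIB l
    rw [Submodule.mem_ideal_smul_span_iff_exists_sum] at h1
    obtain ⟨c, hc, hsum⟩ := h1
    refine ⟨c, hc, ?_⟩
    rw [← hsum, Finsupp.sum_fintype]
    intro i; exact zero_smul _ _
  choose Cf hCI hCsum using hrel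
  let Mat : Matrix (Fin (n + 2)) (Fin (n + 2)) A :=
    Matrix.diagonal (Pi.single 0 1) + Matrix.of (fun k l => Cf l k)
  have hMat : ∀ l, ∑ k, Mat k l • y k = b * y l := by
    intro l
    have h1 : ∀ k, Mat k l • y k = (if k = l then (if l = 0 then y 0 else 0) else 0) + Cf l k • y k := by
      intro k
      simp only [Mat, Matrix.add_apply, Matrix.diagonal_apply, Matrix.of_apply, add_smul]
      congr 1
      by_cases hkl : k = l
      · subst hkl
        by_cases hk0 : k = 0
        · subst hk0; simp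
        · simp [hk0]
      · simp [hkl]
    rw [Finset.sum_congr rfl (fun k _ => h1 k), Finset.sum_add_distrib, hCsum,
      Finset.sum_ite_eq' Finset.univ l]
    simp
  refine ⟨n, Mat.charpoly, Mat.charpoly_monic, ?_, ?_, ?_⟩
  · exact aeval_charpoly_eq_zero_of_represents y hy Mat b hMat
  · rw [← Matrix.charpoly_map]
    have : Mat.map (Ideal.Quotient.mk I) = Matrix.diagonal (Pi.single 0 1) := by
      ext k l
      simp only [Mat, Matrix.map_apply, Matrix.add_apply, Matrix.of_apply, map_add,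
        Ideal.Quotient.eq_zero_iff_mem.mpr (hCI l k), add_zero, Matrix.diagonal_apply]
      split_ifs with h
      · by_cases hk : k = 0
        · subst hk; simp
        · simp [hk]
      · simp
    rw [this, Matrix.charpoly_diagonal, Fin.prod_univ_succ]
    simp [Fin.succ_ne_zero, mul_comm]
  · rcases subsingleton_or_nontrivial A with hA | hA
    · rw [Subsingleton.elim (Mat.charpoly - X ^ (n + 1) * (X - 1)) 0]; simp
    · rw [Polynomial.natDegree_le_iff_coeff_eq_zero]
      intro N hN
      have hX1 : (X - 1 : A[X]) = X - C 1 := by simp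
      have hF : Mat.charpoly.natDegree = n + 2 := by simp
      have hGm : (X ^ (n + 1) * (X - 1) : A[X]).Monic := by
        rw [hX1]; exact (monic_X_pow _).mul (monic_X_sub_C 1)
      have hG : (X ^ (n + 1) * (X - 1) : A[X]).natDegree = n + 2 := by
        rw [hX1, Monic.natDegree_mul (monic_X_pow _) (monic_X_sub_C 1), natDegree_X_pow,
          natDegree_X_sub_C]
      rw [coeff_sub]
      rcases Nat.lt_or_ge (n + 2) N with h | h
      · rw [coeff_eq_zero_of_natDegree_lt (by rw [hF]; exact h),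
          coeff_eq_zero_of_natDegree_lt (by rw [hG]; exact h), sub_zero]
      · have hN2 : N = n + 2 := by omega
        subst hN2
        have h1 : Mat.charpoly.coeff (n + 2) = 1 := by
          have := Mat.charpoly_monic.coeff_natDegree
          rwa [hF] at this
        have h2 : (X ^ (n + 1) * (X - 1) : A[X]).coeff (n + 2) = 1 := by
          have := hGm.coeff_natDegree
          rwa [hG] at this
        rw [h1, h2, sub_self]

theorem exists_idempotent_of_gabber {A : Type*} [CommRing A] (I : Ideal A) (hG : GabberCond I)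
    {B : Type*} [CommRing B] [Algebra A B] [Module.Finite A B]
    (σ : B →ₐ[A] A ⧸ I) (b : B) (hb1 : σ b = 1)
    (hb2 : ∀ j : B, σ j = 0 → j * b ∈ Ideal.map (algebraMap A B) I) :
    ∃ e : B, IsIdempotentElem e ∧ σ e = 1 ∧
      ∀ j : B, σ j = 0 → ∃ w ∈ Ideal.map (algebraMap A B) I, j * e = w * e := by
  obtain ⟨hIjac, hroot⟩ := hG
  obtain ⟨n, F, hFm, hFb, hFmap, hdeg⟩ := exists_gabber_poly I σ b hb1 hb2
  have hmk : ∀ a : A, (a • (1 : A ⧸ I)) = Ideal.Quotient.mk I a := by
    intro a
    rw [Algebra.smul_def, mul_one]; rfl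
  have hunit : ∀ v : A, Ideal.Quotient.mk I v = 1 → IsUnit v := by
    intro v hv
    have h1 : v - 1 ∈ I := by
      rw [← Ideal.Quotient.eq_zero_iff_mem, map_sub, hv, map_one, sub_self]
    have h2 := hIjac h1
    rw [Ideal.mem_jacobson_bot] at h2
    simpa using h2 1
  set p := F - X ^ (n + 1) * (X - 1) with hp
  have hpc : ∀ i, p.coeff i ∈ I := by
    intro i
    rw [← Ideal.Quotient.eq_zero_iff_mem, ← coeff_map, hp, Polynomial.map_sub, hFmap]
    simp
  obtain ⟨α, hα1, hαroot⟩ := hroot (n + 1) n.succ_pos p hdeg hpc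
  have hαF : F.IsRoot α := by
    have : X ^ (n + 1) * (X - 1) + p = F := by rw [hp]; ring
    rwa [this] at hαroot
  have hαmk : Ideal.Quotient.mk I α = 1 := by
    rw [← sub_eq_zero, ← map_one (Ideal.Quotient.mk I), ← map_sub, Ideal.Quotient.eq_zero_iff_mem]
    exact hα1
  have hαu : IsUnit α := hunit α hαmk
  set G := F /ₘ (X - C α) with hGdef
  have hFG : (X - C α) * G = F := mul_divByMonic_eq_iff_isRoot.mpr hαF
  have hX1m : (X - 1 : (A ⧸ I)[X]).Monic := by simpa using monic_X_sub_C (1 : A ⧸ I)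
  have hGmap : G.map (Ideal.Quotient.mk I) = X ^ (n + 1) := by
    rw [hGdef, map_divByMonic _ (monic_X_sub_C α), hFmap, Polynomial.map_sub, map_X, map_C, hαmk,
      map_one, mul_comm]
    exact mul_divByMonic_cancel_left _ hX1m
  set u := G.eval α with hu
  have humk : Ideal.Quotient.mk I u = 1 := by
    rw [hu, ← eval₂_at_apply, ← eval_map, hGmap, hαmk]; simp
  have huu : IsUnit u := hunit u humk
  obtain ⟨ui, hui⟩ := huu.exists_left_inv
  obtain ⟨αi, hαi⟩ := hαu.exists_left_inv
  set Gb := aeval b G with hGb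
  have h0 : (b - algebraMap A B α) * Gb = 0 := by
    have : aeval b ((X - C α) * G) = 0 := by rw [hFG, hFb]
    rwa [map_mul, map_sub, aeval_X, aeval_C] at this
  have hbG : b * Gb = algebraMap A B α * Gb := by
    rw [sub_mul] at h0; exact sub_eq_zero.mp h0
  have hH : ∀ H : A[X], aeval b H * Gb = H.eval α • Gb := by
    intro H
    obtain ⟨H', hH'⟩ := X_sub_C_dvd_sub_C_eval (a := α) (p := H)
    have h1 : H = (X - C α) * H' + C (H.eval α) := by rw [← hH']; ring
    have h2 : aeval b H = (b - algebraMap A B α) * aeval b H' + algebraMap A B (H.eval α) := by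
      conv_lhs => rw [h1]
      simp [aeval_X, aeval_C]
    rw [h2, add_mul, mul_right_comm, h0, zero_mul, zero_add, Algebra.smul_def]
  have huimk : Ideal.Quotient.mk I ui = 1 := by
    have := congrArg (Ideal.Quotient.mk I) hui
    rwa [map_mul, humk, mul_one, map_one] at this
  refine ⟨ui • Gb, ?_, ?_, ?_⟩
  · change ui • Gb * ui • Gb = ui • Gb
    rw [smul_mul_smul_comm, hH G, ← hu, smul_smul, mul_assoc, hui, mul_one]
  · rw [map_smul, hGb, ← aeval_algHom_apply, hb1, aeval_def, ← eval_map,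
      Ideal.Quotient.algebraMap_eq, hGmap, Algebra.smul_def, Ideal.Quotient.algebraMap_eq, huimk]
    simp
  · intro j hj
    refine ⟨αi • (j * b), ?_, ?_⟩
    · rw [Algebra.smul_def]
      exact Ideal.mul_mem_left _ _ (hb2 j hj)
    · have hαi' : algebraMap A B αi * algebraMap A B α = 1 := by
        rw [← map_mul, hαi, map_one]
      rw [Algebra.smul_def, Algebra.smul_def]
      linear_combination (-(algebraMap A B αi * algebraMap A B ui * j)) * hbG -
        (algebraMap A B ui * j * Gb) * hαi'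

theorem exists_algHom_lift_of_gabber {A : Type*} [CommRing A] (I : Ideal A) (hG : GabberCond I)
    {B : Type*} [CommRing B] [Algebra A B] [Module.Finite A B] (Δ : B)
    {B' : Type*} [CommRing B'] [Algebra A B'] [Algebra B B'] [IsScalarTower A B B']
    [IsLocalization.Away Δ B'] [Module.Flat A B'] [Algebra.FormallyUnramified A B']
    [Algebra.EssFiniteType A B'] (σ' : B' →ₐ[A] A ⧸ I) :
    ∃ τ : B →ₐ[A] A, ∀ x, Ideal.Quotient.mk I (τ x) = σ' (algebraMap B B' x) := by
  obtain ⟨ε₀, h1, h2⟩ := exists_elem_of_unramified I σ'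
  obtain ⟨b, hb1, hb2⟩ := exists_elem_finite_of_away I Δ σ' ε₀ h1 h2
  let ι : B →ₐ[A] B' := IsScalarTower.toAlgHom A B B'
  obtain ⟨e, he, hσe, hker⟩ := exists_idempotent_of_gabber I hG (σ'.comp ι) b hb1 hb2
  obtain ⟨τ, -, hτ⟩ := exists_algHom_of_idempotent I hG.1 ι σ' e he hσe hker
  exact ⟨τ, hτ⟩

theorem monic_factor_lift_of_gabber {A : Type u} [CommRing A] (I : Ideal A) (hG : GabberCond I)
    (f : A[X]) (hf : f.Monic) (g₀ h₀ : (A ⧸ I)[X]) (hg₀ : g₀.Monic) (hh₀ : h₀.Monic)
    (hcop : IsCoprime g₀ h₀) (hfac : f.map (Ideal.Quotient.mk I) = g₀ * h₀) :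
    ∃ g h : A[X], g.Monic ∧ h.Monic ∧ f = g * h ∧ g.map (Ideal.Quotient.mk I) = g₀ ∧
      h.map (Ideal.Quotient.mk I) = h₀ := by
  rcases subsingleton_or_nontrivial A with hA | hA
  · have : Subsingleton (A ⧸ I) := (Ideal.Quotient.mk_surjective (I := I)).subsingleton
    exact ⟨1, 1, monic_one, monic_one, Subsingleton.elim _ _, Subsingleton.elim _ _,
      Subsingleton.elim _ _⟩
  have hItop : I ≠ ⊤ := by
    intro h
    have h1 : (⊥ : Ideal A).jacobson = ⊤ := top_le_iff.mp (h ▸ hG.1)
    rw [Ideal.jacobson_eq_top_iff] at h1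
    exact bot_ne_top h1
  have : Nontrivial (A ⧸ I) := Ideal.Quotient.nontrivial_iff.mpr hItop
  set m := g₀.natDegree with hm
  set k := h₀.natDegree with hk
  set n := f.natDegree with hn'
  have hn : n = m + k := by
    rw [hn', ← hf.natDegree_map (Ideal.Quotient.mk I), hfac, hg₀.natDegree_mul hh₀]
  let p : MonicDegreeEq A n := .mk f hf rfl
  let σ' : UniversalCoprimeFactorizationRing m k hn p →ₐ[A] A ⧸ I :=
    (UniversalCoprimeFactorizationRing.homEquiv (A ⧸ I) m k hn p).symm
      ⟨(.mk g₀ hg₀ rfl, .mk h₀ hh₀ rfl), hfac.symm, hcop⟩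
  have hσ' : UniversalCoprimeFactorizationRing.homEquiv (A ⧸ I) m k hn p σ' =
      ⟨(.mk g₀ hg₀ rfl, .mk h₀ hh₀ rfl), hfac.symm, hcop⟩ := Equiv.apply_symm_apply _ _
  have : Module.Flat A (UniversalCoprimeFactorizationRing m k hn p) := Algebra.Smooth.flat _ _
  obtain ⟨τ, hτ⟩ := exists_algHom_lift_of_gabber I hG
    (B := UniversalFactorizationRing m k hn p)
    (UniversalFactorizationRing.presentation m k hn p).jacobian
    (B' := UniversalCoprimeFactorizationRing m k hn p) σ'
  set q := UniversalFactorizationRing.homEquiv A m k hn p τ with hq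
  have hcompeq : (Ideal.Quotient.mk I).comp (τ : UniversalFactorizationRing m k hn p →+* A) =
      ((σ'.comp (IsScalarTower.toAlgHom A (UniversalFactorizationRing m k hn p)
        (UniversalCoprimeFactorizationRing m k hn p)) :
        UniversalFactorizationRing m k hn p →ₐ[A] A ⧸ I) :
        UniversalFactorizationRing m k hn p →+* A ⧸ I) := by
    ext x
    exact hτ x
  refine ⟨q.1.1.1, q.1.2.1, q.1.1.monic, q.1.2.monic, ?_, ?_, ?_⟩
  · have := q.2
    rw [this]
    simp [p]
  · have h1 : q.1.1.1 = (UniversalFactorizationRing.factor₁ m k hn p).1.map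
        (τ : UniversalFactorizationRing m k hn p →+* A) := rfl
    rw [h1, Polynomial.map_map, hcompeq]
    have h2 := congrArg (fun z => z.1.1.1) hσ'
    exact h2
  · have h1 : q.1.2.1 = (UniversalFactorizationRing.factor₂ m k hn p).1.map
        (τ : UniversalFactorizationRing m k hn p →+* A) := rfl
    rw [h1, Polynomial.map_map, hcompeq]
    have h2 := congrArg (fun z => z.1.2.1) hσ'
    exact h2

theorem gabber_poly_facts {A : Type*} [CommRing A] (I : Ideal A) (n : ℕ) (p : A[X])
    (hp : p.natDegree ≤ n) (hpc : ∀ i, p.coeff i ∈ I) :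
    (X ^ n * (X - 1) + p).Monic ∧ (X ^ n * (X - 1) + p).eval 1 ∈ I ∧
      ∀ α : A, α - 1 ∈ I →
        Ideal.Quotient.mk I ((X ^ n * (X - 1) + p).derivative.eval α) = 1 := by
  have hpmap : p.map (Ideal.Quotient.mk I) = 0 := by
    ext i
    rw [coeff_map, coeff_zero, Ideal.Quotient.eq_zero_iff_mem]
    exact hpc i
  have hX1 : (X - 1 : A[X]) = X - C 1 := by simp
  have hfmap : (X ^ n * (X - 1) + p).map (Ideal.Quotient.mk I) = X ^ n * (X - 1) := by
    rw [Polynomial.map_add, hpmap, add_zero]; simp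
  refine ⟨?_, ?_, ?_⟩
  · rcases subsingleton_or_nontrivial A with hA | hA
    · exact monic_of_subsingleton _
    · have hm : (X ^ n * (X - 1) : A[X]).Monic := by
        rw [hX1]; exact (monic_X_pow _).mul (monic_X_sub_C 1)
      refine hm.add_of_left ?_
      have hd : (X ^ n * (X - 1) : A[X]).degree = (n + 1 : ℕ) := by
        have hnd : (X ^ n * (X - 1) : A[X]).natDegree = n + 1 := by
          rw [hX1, Monic.natDegree_mul (monic_X_pow _) (monic_X_sub_C 1), natDegree_X_pow,
            natDegree_X_sub_C]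
        rw [degree_eq_natDegree hm.ne_zero, hnd]
      rw [hd]
      exact lt_of_le_of_lt (degree_le_of_natDegree_le hp) (by exact_mod_cast Nat.lt_succ_self n)
  · rw [← Ideal.Quotient.eq_zero_iff_mem, ← eval₂_at_apply, ← eval_map, hfmap]
    simp
  · intro α hα
    have hαmk : Ideal.Quotient.mk I α = 1 := by
      rw [← sub_eq_zero, ← map_one (Ideal.Quotient.mk I), ← map_sub,
        Ideal.Quotient.eq_zero_iff_mem]
      exact hα
    rw [← eval₂_at_apply, ← eval_map, ← derivative_map, hfmap, hαmk]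
    simp [derivative_mul]

theorem gabberCond_of_henselianRing {A : Type*} [CommRing A] (I : Ideal A) [h : HenselianRing A I] :
    GabberCond I := by
  refine ⟨h.jac, ?_⟩
  intro n _ p hp hpc
  obtain ⟨hm, he, hd⟩ := gabber_poly_facts I n p hp hpc
  obtain ⟨α, hα, hα1⟩ := h.is_henselian _ hm 1 he (by rw [hd 1 (by simp)]; exact isUnit_one)
  exact ⟨α, hα1, hα⟩

theorem gabber_root_unique {A : Type*} [CommRing A] (I : Ideal A) (hI : I ≤ Ideal.jacobson ⊥)
    (n : ℕ) (p : A[X]) (hp : p.natDegree ≤ n) (hpc : ∀ i, p.coeff i ∈ I) (α β : A)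
    (hα : α - 1 ∈ I) (hβ : β - 1 ∈ I) (hαr : (X ^ n * (X - 1) + p).IsRoot α)
    (hβr : (X ^ n * (X - 1) + p).IsRoot β) : α = β := by
  obtain ⟨-, -, hd⟩ := gabber_poly_facts I n p hp hpc
  have hu : IsUnit ((X ^ n * (X - 1) + p).derivative.eval β) :=
    isUnit_of_isUnit_mk hI (by rw [hd β hβ]; exact isUnit_one)
  have hαβ : α - β ∈ I := by
    have : α - β = (α - 1) - (β - 1) := by ring
    rw [this]; exact sub_mem hα hβ
  have h0 : (X ^ n * (X - 1) + p).eval β ∈ (⊥ : Ideal A) := by
    rw [Ideal.mem_bot]; exact hβr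
  have := root_sub_mem hI _ hαr hαβ hu h0
  rw [Ideal.mem_bot] at this
  exact sub_eq_zero.mp this

end Helper1
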