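import Mathlib
import Groth.Agent.Lib.helper1.HenselPair

/-!
# Étale neighbourhoods along a section modulo an ideal (helper1)
-/

universe u

namespace Helper1

open Polynomial TensorProduct

/-- Localizing an `A`-algebra `A'` with a section `σ' : A' → A ⧸ I` at an element `ε` with `σ' ε` a
unit and `ker σ' * ε ⊆ I A'`: the section extends and its kernel is `I A''`. -/
theorem exists_section_localization {A : Type*} [CommRing A] (I : Ideal A) {A' : Type*}
    [CommRing A'] [Algebra A A'] (σ' : A' →ₐ[A] A ⧸ I) (ε : A') (hε1 : IsUnit (σ' ε))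
    (hε2 : ∀ s, σ' s = 0 → s * ε ∈ Ideal.map (algebraMap A A') I) :
    ∃ σ'' : Localization.Away ε →ₐ[A] A ⧸ I,
      (∀ x, σ'' (algebraMap A' (Localization.Away ε) x) = σ' x) ∧
      RingHom.ker σ'' = Ideal.map (algebraMap A (Localization.Away ε)) I := by
  have hunit : ∀ y : Submonoid.powers ε, IsUnit (σ' y) := by
    rintro ⟨_, n, rfl⟩
    rw [map_pow]
    exact hε1.pow n
  let σ'' : Localization.Away ε →ₐ[A] A ⧸ I := IsLocalization.liftAlgHom hunit
  have hσ'' : ∀ x, σ'' (algebraMap A' (Localization.Away ε) x) = σ' x :=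
    fun x => IsLocalization.lift_eq _ x
  refine ⟨σ'', hσ'', ?_⟩
  apply le_antisymm
  · intro y hy
    rw [RingHom.mem_ker] at hy
    obtain ⟨n, b, hb⟩ := IsLocalization.Away.surj ε y
    have hb0 : σ' b = 0 := by
      rw [← hσ'', ← hb, map_mul, hy, zero_mul]
    have h1 := hε2 b hb0
    have h2 := Ideal.mem_map_of_mem (algebraMap A' (Localization.Away ε)) h1
    rw [Ideal.map_map, ← IsScalarTower.algebraMap_eq, map_mul, ← hb] at h2
    have hu : IsUnit (algebraMap A' (Localization.Away ε) ε ^ n *
        algebraMap A' (Localization.Away ε) ε) :=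
      ((IsLocalization.Away.algebraMap_isUnit ε).pow n).mul
        (IsLocalization.Away.algebraMap_isUnit ε)
    have h3 : y * algebraMap A' (Localization.Away ε) ε ^ n *
        algebraMap A' (Localization.Away ε) ε =
        (algebraMap A' (Localization.Away ε) ε ^ n * algebraMap A' (Localization.Away ε) ε) * y := by
      ring
    rw [h3] at h2
    exact (Ideal.unit_mul_mem_iff_mem _ hu).mp h2
  · rw [Ideal.map_le_iff_le_comap]
    intro a ha
    rw [Ideal.mem_comap, RingHom.mem_ker, AlgHom.commutes, Ideal.Quotient.algebraMap_eq,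
      Ideal.Quotient.eq_zero_iff_mem]
    exact ha

/-- If an `A`-algebra `B` has an `A`-algebra map `σ : B → A ⧸ I` with kernel `I B`, then
`A ⧸ I → B ⧸ I B` is bijective and `mk ∘ algebraMap = quotientMap ∘ σ`. -/
theorem quotientMap_bijective_of_ker_eq {A : Type*} [CommRing A] (I : Ideal A) {B : Type*}
    [CommRing B] [Algebra A B] (σ : B →ₐ[A] A ⧸ I)
    (hker : RingHom.ker σ = Ideal.map (algebraMap A B) I) :
    Function.Bijective (Ideal.quotientMap (I.map (algebraMap A B)) (algebraMap A B)
      Ideal.le_comap_map) ∧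
    ∀ b : B, Ideal.Quotient.mk (I.map (algebraMap A B)) b =
      Ideal.quotientMap (I.map (algebraMap A B)) (algebraMap A B) Ideal.le_comap_map (σ b) := by
  have hσa : ∀ a : A, σ (algebraMap A B a) = Ideal.Quotient.mk I a := fun a => by
    rw [AlgHom.commutes, Ideal.Quotient.algebraMap_eq]
  have key : ∀ b : B, Ideal.Quotient.mk (I.map (algebraMap A B)) b =
      Ideal.quotientMap (I.map (algebraMap A B)) (algebraMap A B) Ideal.le_comap_map (σ b) := by
    intro b
    obtain ⟨a, ha⟩ := Ideal.Quotient.mk_surjective (σ b)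
    rw [← ha, Ideal.quotientMap_mk, ← sub_eq_zero, ← map_sub, Ideal.Quotient.eq_zero_iff_mem,
      ← hker, RingHom.mem_ker, map_sub, hσa, ha, sub_self]
  refine ⟨⟨?_, ?_⟩, key⟩
  · apply Ideal.quotientMap_injective'
    intro a ha
    rw [Ideal.mem_comap, ← hker, RingHom.mem_ker, hσa, Ideal.Quotient.eq_zero_iff_mem] at ha
    exact ha
  · intro x
    obtain ⟨b, rfl⟩ := Ideal.Quotient.mk_surjective x
    exact ⟨σ b, (key b).symm⟩

end Helper1
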