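import Mathlib

/-!
# Auxiliary lemmas for lifting factorizations over henselian local rings (helper1)
-/

universe u

namespace Helper1

open Polynomial TensorProduct IsLocalRing

/-- `R[X]/(f)` is quasi-finite over `R` as soon as some coefficient of `f` is a unit. -/
theorem quasiFinite_adjoinRoot {R : Type*} [CommRing R] (f : R[X]) (i : ℕ)
    (hi : IsUnit (f.coeff i)) : Algebra.QuasiFinite R (AdjoinRoot f) := by
  refine ⟨fun P _ => ?_⟩
  set K := P.ResidueField with hK
  set fK : K[X] := f.map (algebraMap R K) with hfKdef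
  have hfK : fK ≠ 0 := by
    intro h0
    have h1 : fK.coeff i = 0 := by rw [h0]; simp
    rw [hfKdef, Polynomial.coeff_map] at h1
    exact (hi.map (algebraMap R K)).ne_zero h1
  let x : K ⊗[R] AdjoinRoot f := 1 ⊗ₜ AdjoinRoot.root f
  have hxp : ∀ p : R[X], Polynomial.eval₂ (algebraMap K (K ⊗[R] AdjoinRoot f)) x
      (p.map (algebraMap R K)) = 1 ⊗ₜ AdjoinRoot.mk f p := by
    intro p
    rw [Polynomial.eval₂_map, ← IsScalarTower.algebraMap_eq, ← Polynomial.aeval_def]
    have hx' : x = (Algebra.TensorProduct.includeRight :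
        AdjoinRoot f →ₐ[R] K ⊗[R] AdjoinRoot f) (AdjoinRoot.root f) := rfl
    rw [hx', Polynomial.aeval_algHom_apply, AdjoinRoot.aeval_eq]
    rfl
  have hx : Polynomial.eval₂ (Algebra.ofId K (K ⊗[R] AdjoinRoot f) : K →+* _) x fK = 0 := by
    change Polynomial.eval₂ (algebraMap K (K ⊗[R] AdjoinRoot f)) x fK = 0
    rw [hfKdef, hxp, AdjoinRoot.mk_self, TensorProduct.tmul_zero]
  let ψ : AdjoinRoot fK →ₐ[K] K ⊗[R] AdjoinRoot f :=
    AdjoinRoot.liftAlgHom fK (Algebra.ofId K _) x hx
  have hψ : Function.Surjective ψ := by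
    intro z
    induction z using TensorProduct.induction_on with
    | zero => exact ⟨0, map_zero _⟩
    | tmul c s =>
      obtain ⟨p, rfl⟩ := AdjoinRoot.mk_surjective s
      refine ⟨c • AdjoinRoot.mk fK (p.map (algebraMap R K)), ?_⟩
      rw [map_smul, AdjoinRoot.liftAlgHom_mk]
      change c • Polynomial.eval₂ (algebraMap K (K ⊗[R] AdjoinRoot f)) x
        (p.map (algebraMap R K)) = _
      rw [hxp, TensorProduct.smul_tmul', smul_eq_mul, mul_one]
    | add a b ha hb =>
      obtain ⟨a', rfl⟩ := ha
      obtain ⟨b', rfl⟩ := hb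
      exact ⟨a' + b', map_add _ _ _⟩
  haveI : Module.Finite K (AdjoinRoot fK) := (AdjoinRoot.powerBasis hfK).finite
  exact Module.Finite.of_surjective ψ.toLinearMap hψ

/-- In a module-finite algebra over a local ring, the extension of the maximal ideal lies in the
Jacobson radical. -/
theorem map_maximalIdeal_le_jacobson (R : Type*) [CommRing R] [IsLocalRing R] (C : Type*)
    [CommRing C] [Algebra R C] [Module.Finite R C] :
    Ideal.map (algebraMap R C) (maximalIdeal R) ≤ Ideal.jacobson ⊥ := by
  rw [Ideal.jacobson]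
  refine le_sInf ?_
  rintro M ⟨-, hM⟩
  rw [Ideal.map_le_iff_le_comap]
  haveI : (M.comap (algebraMap R C)).IsMaximal :=
    Ideal.isMaximal_comap_of_isIntegral_of_isMaximal (R := R) M
  exact (IsLocalRing.eq_maximalIdeal this).ge

/-- A polynomial whose reduction vanishes has coefficients in the maximal ideal. -/
theorem mem_map_C_of_map_residue_eq_zero {R : Type*} [CommRing R] [IsLocalRing R] {p : R[X]}
    (hp : p.map (residue R) = 0) : p ∈ Ideal.map (C : R →+* R[X]) (maximalIdeal R) := by
  rw [Ideal.mem_map_C_iff]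
  intro n
  have : (p.map (residue R)).coeff n = 0 := by rw [hp]; simp
  rw [Polynomial.coeff_map] at this
  exact (residue_eq_zero_iff _).mp this

theorem map_residue_eq_zero_of_mem_map_C {R : Type*} [CommRing R] [IsLocalRing R] {p : R[X]}
    (hp : p ∈ Ideal.map (C : R →+* R[X]) (maximalIdeal R)) : p.map (residue R) = 0 := by
  rw [Ideal.mem_map_C_iff] at hp
  ext n
  rw [Polynomial.coeff_map, Polynomial.coeff_zero]
  exact (residue_eq_zero_iff _).mpr (hp n)

/-- The image in `AdjoinRoot g` of a polynomial with coefficients in the maximal ideal lies in the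
extension of the maximal ideal. -/
theorem mk_mem_map_of_mem_map_C {R : Type*} [CommRing R] [IsLocalRing R] (g : R[X]) {p : R[X]}
    (hp : p ∈ Ideal.map (C : R →+* R[X]) (maximalIdeal R)) :
    AdjoinRoot.mk g p ∈ Ideal.map (algebraMap R (AdjoinRoot g)) (maximalIdeal R) := by
  have h : algebraMap R (AdjoinRoot g) = (AdjoinRoot.mk g).comp C := rfl
  rw [h, ← Ideal.map_map]
  exact Ideal.mem_map_of_mem _ hp

end Helper1
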