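import Mathlib
import Groth.Agent.S0501

/-!
# Splitting finite-type algebras over henselian local rings (helper1)
-/

universe u

namespace Helper1

open IsLocalRing TensorProduct

/-- An étale neighbourhood of the closed point of a henselian local ring with trivial residue field
extension has a retraction. -/
theorem exists_retraction_of_etale_of_henselian (R : Type u) [CommRing R] [HenselianLocalRing R]
    (R' : Type u) [CommRing R'] [Algebra R R'] [Algebra.Etale R R'] (P : Ideal R') [P.IsPrime]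
    [P.LiesOver (maximalIdeal R)]
    (hbij : Function.Bijective (Ideal.ResidueField.mapₐ (maximalIdeal R) P (Algebra.ofId _ _)
      (P.over_def (maximalIdeal R)))) :
    ∃ f : R' →ₐ[R] R, Ideal.comap f.toRingHom (maximalIdeal R) = P := by
  have hsurj : Function.Surjective (algebraMap R P.ResidueField) := by
    intro z
    obtain ⟨w, rfl⟩ := hbij.2 z
    obtain ⟨r, rfl⟩ := Ideal.algebraMap_residueField_surjective (maximalIdeal R) w
    exact ⟨r, (AlgHom.commutes _ r).symm⟩
  have hker : RingHom.ker (algebraMap R P.ResidueField) ≤ RingHom.ker (residue R) := by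
    intro r hr
    rw [RingHom.mem_ker] at hr ⊢
    rw [IsScalarTower.algebraMap_apply R R' P.ResidueField,
      Ideal.algebraMap_residueField_eq_zero] at hr
    rw [residue_eq_zero_iff]
    rw [Ideal.over_def P (maximalIdeal R)]
    exact hr
  let τ : P.ResidueField →+* ResidueField R :=
    (algebraMap R P.ResidueField).liftOfRightInverse (Function.surjInv hsurj)
      (Function.rightInverse_surjInv hsurj) ⟨residue R, hker⟩
  have hτ : τ.comp (algebraMap R P.ResidueField) = (residue R).comp (algebraMap R R) := by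
    rw [RingHom.liftOfRightInverse_comp]
    rfl
  obtain ⟨f, ⟨hfP, -⟩, -⟩ := Groth.Agent.S0501.result R R R' P τ hτ
  exact ⟨f, hfP⟩

/-- Near a prime of the closed fibre at which a finite type algebra over a henselian local ring is
quasi-finite, the algebra splits off a module-finite factor. -/
theorem exists_idem_finite_of_quasiFiniteAt (R : Type u) [CommRing R] [HenselianLocalRing R]
    (S : Type u) [CommRing S] [Algebra R S] [Algebra.FiniteType R S]
    (q : Ideal S) [q.IsPrime] [q.LiesOver (maximalIdeal R)] [Algebra.QuasiFiniteAt R q] :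
    ∃ ε : S, IsIdempotentElem ε ∧ ε ∉ q ∧ Module.Finite R (S ⧸ Ideal.span {1 - ε}) := by
  obtain ⟨R', _, _, _, P, _, _, e, he, P', _, _, hP'q, heP', hbij, hfin, -⟩ :=
    Algebra.exists_etale_isIdempotentElem_forall_liesOver_eq (maximalIdeal R) q
  obtain ⟨f, hfP⟩ := exists_retraction_of_etale_of_henselian R R' P hbij
  letI algR'R : Algebra R' R := f.toRingHom.toAlgebra
  letI algR'S : Algebra R' S := ((algebraMap R S).comp f.toRingHom).toAlgebra
  haveI : IsScalarTower R' R S := IsScalarTower.of_algebraMap_eq (fun _ => rfl)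
  haveI : IsScalarTower R R' S := IsScalarTower.of_algebraMap_eq (fun r => by
    show algebraMap R S r = algebraMap R S (f (algebraMap R R' r))
    rw [f.commutes]
    rfl)
  let ψ : R' ⊗[R] S →ₐ[R'] S :=
    Algebra.TensorProduct.lift (Algebra.ofId R' S) (AlgHom.id R S) (fun _ _ => Commute.all _ _)
  have hψr : ∀ s : S, ψ (1 ⊗ₜ s) = s := by
    intro s
    simp [ψ]
  have hψl : ∀ x : R', ψ (algebraMap R' (R' ⊗[R] S) x) = algebraMap R S (f x) := by
    intro x
    rw [AlgHom.commutes]
    rfl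
  have hψsurj : Function.Surjective ψ := fun s => ⟨1 ⊗ₜ s, hψr s⟩
  refine ⟨ψ e, he.map ψ, ?_, ?_⟩
  · intro hmem
    haveI : (q.comap ψ.toRingHom).IsPrime := Ideal.comap_isPrime _ _
    haveI hlies : (q.comap ψ.toRingHom).LiesOver P := by
      refine ⟨?_⟩
      ext x
      rw [Ideal.under, Ideal.mem_comap, Ideal.mem_comap, ← hfP, Ideal.mem_comap]
      change _ ↔ ψ (algebraMap R' (R' ⊗[R] S) x) ∈ q
      rw [hψl, Ideal.over_def q (maximalIdeal R), Ideal.under, Ideal.mem_comap]
      rfl
    have hcomap : (q.comap ψ.toRingHom).comap Algebra.TensorProduct.includeRight.toRingHom =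
        P'.comap Algebra.TensorProduct.includeRight.toRingHom := by
      rw [hP'q]
      ext s
      rw [Ideal.mem_comap, Ideal.mem_comap]
      change ψ (1 ⊗ₜ s) ∈ q ↔ _
      rw [hψr]
    have := Ideal.eq_of_comap_eq_comap_of_bijective_residueFieldMap hbij _ _ hcomap
    apply heP'
    rw [← this]
    exact hmem
  · -- finiteness
    let T := S ⧸ Ideal.span {1 - ψ e}
    let g : R' ⊗[R] S →ₐ[R'] T := (Ideal.Quotient.mkₐ R' _).comp ψ
    have hge : g e = 1 := by
      have h0 : Ideal.Quotient.mk (Ideal.span {1 - ψ e}) (1 - ψ e) = 0 :=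
        Ideal.Quotient.eq_zero_iff_mem.mpr (Ideal.mem_span_singleton_self _)
      rw [map_sub, map_one, sub_eq_zero] at h0
      exact h0.symm
    have hgsurj : Function.Surjective g :=
      Ideal.Quotient.mk_surjective.comp hψsurj
    let g' : Localization.Away e →ₐ[R'] T :=
      IsLocalization.Away.liftAlgHom e (f := g) (by rw [hge]; exact isUnit_one)
    have hg'surj : Function.Surjective g' := by
      intro y
      obtain ⟨b, rfl⟩ := hgsurj y
      refine ⟨algebraMap _ _ b, ?_⟩
      rw [IsLocalization.Away.liftAlgHom_apply, IsLocalization.Away.lift_eq]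
      rfl
    haveI : Module.Finite R' T := Module.Finite.of_surjective g'.toLinearMap hg'surj
    exact Module.Finite.of_restrictScalars_finite R' R T

/-- Join of two idempotents with module-finite associated factors. -/
theorem finite_quotient_join {R S : Type*} [CommRing R] [CommRing S] [Algebra R S] (ε₁ ε₂ : S)
    (h₁ : IsIdempotentElem ε₁) (h₂ : IsIdempotentElem ε₂)
    [Module.Finite R (S ⧸ Ideal.span {1 - ε₁})] [Module.Finite R (S ⧸ Ideal.span {1 - ε₂})] :
    Module.Finite R (S ⧸ Ideal.span {1 - (ε₁ + ε₂ - ε₁ * ε₂)}) := by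
  set I := Ideal.span {1 - (ε₁ + ε₂ - ε₁ * ε₂)} with hI
  let m₁ : S →ₗ[S] S ⧸ I := (Submodule.mkQ I).comp (LinearMap.mulLeft S ε₁)
  let m₂ : S →ₗ[S] S ⧸ I := (Submodule.mkQ I).comp (LinearMap.mulLeft S ((1 - ε₁) * ε₂))
  have hm₁ : Ideal.span {1 - ε₁} ≤ LinearMap.ker m₁ := by
    rw [Ideal.span_le, Set.singleton_subset_iff]
    show m₁ (1 - ε₁) = 0
    show Submodule.Quotient.mk (ε₁ * (1 - ε₁)) = 0
    rw [mul_sub, mul_one, h₁.eq, sub_self]
    rfl
  have hm₂ : Ideal.span {1 - ε₂} ≤ LinearMap.ker m₂ := by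
    rw [Ideal.span_le, Set.singleton_subset_iff]
    show m₂ (1 - ε₂) = 0
    show Submodule.Quotient.mk ((1 - ε₁) * ε₂ * (1 - ε₂)) = 0
    rw [mul_assoc, mul_sub ε₂, mul_one, h₂.eq, sub_self, mul_zero]
    rfl
  let Φ₁ : (S ⧸ Ideal.span {1 - ε₁}) →ₗ[S] S ⧸ I := Submodule.liftQ _ m₁ hm₁
  let Φ₂ : (S ⧸ Ideal.span {1 - ε₂}) →ₗ[S] S ⧸ I := Submodule.liftQ _ m₂ hm₂
  let Φ : ((S ⧸ Ideal.span {1 - ε₁}) × (S ⧸ Ideal.span {1 - ε₂})) →ₗ[S] S ⧸ I := Φ₁.coprod Φ₂
  have hΦ : Function.Surjective Φ := by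
    intro y
    obtain ⟨x, rfl⟩ := Submodule.Quotient.mk_surjective _ y
    refine ⟨(Submodule.Quotient.mk x, Submodule.Quotient.mk x), ?_⟩
    show Φ₁ (Submodule.Quotient.mk x) + Φ₂ (Submodule.Quotient.mk x) = _
    show Submodule.Quotient.mk (ε₁ * x) + Submodule.Quotient.mk ((1 - ε₁) * ε₂ * x) =
      Submodule.Quotient.mk x
    rw [← Submodule.Quotient.mk_add, Submodule.Quotient.eq]
    refine Ideal.mem_span_singleton.mpr ⟨-x, ?_⟩
    ring
  exact Module.Finite.of_surjective (Φ.restrictScalars R) hΦ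

/-- A common idempotent for finitely many primes. -/
theorem exists_idem_finite_of_finset {R S : Type*} [CommRing R] [CommRing S] [Algebra R S]
    (Q : Finset (Ideal S))
    (hQ : ∀ q ∈ Q, ∃ ε : S, IsIdempotentElem ε ∧ ε ∉ q ∧
      Module.Finite R (S ⧸ Ideal.span {1 - ε})) :
    ∃ ε : S, IsIdempotentElem ε ∧ (∀ q ∈ Q, ε ∉ q) ∧
      Module.Finite R (S ⧸ Ideal.span {1 - ε}) := by
  classical
  induction Q using Finset.induction_on with
  | empty =>
    refine ⟨0, IsIdempotentElem.zero, by simp, ?_⟩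
    have : Subsingleton (S ⧸ Ideal.span {(1 : S) - 0}) := by
      rw [sub_zero, Ideal.span_singleton_one]
      exact Ideal.Quotient.subsingleton_iff.mpr rfl
    infer_instance
  | insert q Q hq ih =>
    obtain ⟨ε', hε', hε'Q, hfin'⟩ := ih (fun q' hq' => hQ q' (Finset.mem_insert_of_mem hq'))
    obtain ⟨εq, hεq, hεqq, hfinq⟩ := hQ q (Finset.mem_insert_self q Q)
    refine ⟨ε' + εq - ε' * εq, ?_, ?_, finite_quotient_join ε' εq hε' hεq⟩
    · have e1 : ε' * ε' = ε' := hε'.eq
      have e2 : εq * εq = εq := hεq.eq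
      show (ε' + εq - ε' * εq) * (ε' + εq - ε' * εq) = ε' + εq - ε' * εq
      linear_combination (εq * εq - 2 * εq + 1) * e1 + (1 - ε') * e2
    · intro q' hq' hmem
      rcases Finset.mem_insert.mp hq' with rfl | hq'
      · apply hεqq
        have : εq = εq * (ε' + εq - ε' * εq) := by
          have e2 : εq * εq = εq := hεq.eq
          linear_combination (ε' - 1) * e2
        rw [this]
        exact Ideal.mul_mem_left _ _ hmem
      · apply hε'Q q' hq'
        have : ε' = ε' * (ε' + εq - ε' * εq) := by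
          have e1 : ε' * ε' = ε' := hε'.eq
          linear_combination (εq - 1) * e1
        rw [this]
        exact Ideal.mul_mem_left _ _ hmem

theorem finite_quotient_one_sub_zero (R S : Type*) [CommRing R] [CommRing S] [Algebra R S] :
    Module.Finite R (S ⧸ Ideal.span {(1 : S) - 0}) := by
  have : Subsingleton (S ⧸ Ideal.span {(1 : S) - 0}) := by
    rw [sub_zero, Ideal.span_singleton_one]
    exact Ideal.Quotient.subsingleton_iff.mpr rfl
  infer_instance

/-- Quasi-finiteness at a prime of `S/(ε)` (`ε` idempotent) descends to the preimage prime of `S`. -/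
theorem quasiFiniteAt_comap_quotient_idem {R S : Type*} [CommRing R] [CommRing S] [Algebra R S]
    (ε : S) (hε : IsIdempotentElem ε) (q' : Ideal (S ⧸ Ideal.span {ε})) [q'.IsPrime]
    [Algebra.QuasiFiniteAt R q'] :
    haveI : (q'.comap (algebraMap S (S ⧸ Ideal.span {ε}))).IsPrime := Ideal.comap_isPrime _ _
    Algebra.QuasiFiniteAt R (q'.comap (algebraMap S (S ⧸ Ideal.span {ε}))) := by
  haveI : (q'.comap (algebraMap S (S ⧸ Ideal.span {ε}))).IsPrime := Ideal.comap_isPrime _ _
  haveI hloc : IsLocalization.Away (1 - ε) (S ⧸ Ideal.span {ε}) := by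
    have h := IsLocalization.Away.quotient_of_isIdempotentElem hε.one_sub
    have h2 : (1 : S) - (1 - ε) = ε := sub_sub_cancel 1 ε
    rwa [h2] at h
  haveI : IsLocalization.AtPrime (Localization.AtPrime q')
      (q'.comap (algebraMap S (S ⧸ Ideal.span {ε}))) :=
    IsLocalization.isLocalization_isLocalization_atPrime_isLocalization
      (Submonoid.powers (1 - ε)) (Localization.AtPrime q') q'
  let e : Localization.AtPrime (q'.comap (algebraMap S (S ⧸ Ideal.span {ε}))) ≃ₐ[S]
      Localization.AtPrime q' :=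
    IsLocalization.algEquiv (q'.comap (algebraMap S (S ⧸ Ideal.span {ε}))).primeCompl _ _
  exact (Algebra.QuasiFinite.iff_of_algEquiv (e.restrictScalars R)).mpr inferInstance

/-- Over a henselian local ring, a finite type algebra has an idempotent cutting out a module-finite
factor and avoiding every quasi-finite point of the closed fibre. -/
theorem exists_idem_finite_forall_quasiFiniteAt (R : Type u) [CommRing R] [HenselianLocalRing R]
    (S : Type u) [CommRing S] [Algebra R S] [Algebra.FiniteType R S] :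
    ∃ ε : S, IsIdempotentElem ε ∧ Module.Finite R (S ⧸ Ideal.span {1 - ε}) ∧
      ∀ (q : Ideal S) [q.IsPrime], q.LiesOver (maximalIdeal R) → Algebra.QuasiFiniteAt R q →
        ε ∉ q := by
  classical
  set mS := Ideal.map (algebraMap R S) (maximalIdeal R) with hmS
  haveI : IsNoetherianRing (R ⧸ maximalIdeal R) :=
    inferInstanceAs (IsNoetherianRing (ResidueField R))
  haveI : Algebra.FiniteType (R ⧸ maximalIdeal R) (S ⧸ mS) :=
    Algebra.FiniteType.of_restrictScalars_finiteType R _ _
  haveI : IsNoetherianRing (S ⧸ mS) :=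
    Algebra.FiniteType.isNoetherianRing (R ⧸ maximalIdeal R) (S ⧸ mS)
  let 𝒥 : Set (Ideal (S ⧸ mS)) := {J | ∃ ε : S, IsIdempotentElem ε ∧
    Module.Finite R (S ⧸ Ideal.span {1 - ε}) ∧ J = Ideal.span {Ideal.Quotient.mk mS ε}}
  have hne : 𝒥.Nonempty :=
    ⟨_, 0, IsIdempotentElem.zero, finite_quotient_one_sub_zero R S, rfl⟩
  obtain ⟨J, ⟨ε₀, hε₀, hfin₀, rfl⟩, hmax⟩ :=
    set_has_maximal_iff_noetherian.mpr (inferInstance : IsNoetherianRing (S ⧸ mS)) 𝒥 hne
  refine ⟨ε₀, hε₀, hfin₀, ?_⟩
  intro q _ hlies hqf hmem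
  obtain ⟨εq, hεq, hεqq, hfinq⟩ := exists_idem_finite_of_quasiFiniteAt R S q
  have e1 : ε₀ * ε₀ = ε₀ := hε₀.eq
  have e2 : εq * εq = εq := hεq.eq
  have hε₁ : IsIdempotentElem (ε₀ + εq - ε₀ * εq) := by
    show (ε₀ + εq - ε₀ * εq) * (ε₀ + εq - ε₀ * εq) = ε₀ + εq - ε₀ * εq
    linear_combination (εq * εq - 2 * εq + 1) * e1 + (1 - ε₀) * e2
  have hfin₁ := finite_quotient_join (R := R) ε₀ εq hε₀ hεq
  have hle : Ideal.span {Ideal.Quotient.mk mS ε₀} ≤
      Ideal.span {Ideal.Quotient.mk mS (ε₀ + εq - ε₀ * εq)} := by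
    rw [Ideal.span_singleton_le_span_singleton]
    refine ⟨Ideal.Quotient.mk mS ε₀, ?_⟩
    rw [← map_mul]
    congr 1
    linear_combination (εq - 1) * e1
  have hnlt := hmax _ ⟨ε₀ + εq - ε₀ * εq, hε₁, hfin₁, rfl⟩
  have heq : Ideal.span {Ideal.Quotient.mk mS (ε₀ + εq - ε₀ * εq)} ≤
      Ideal.span {Ideal.Quotient.mk mS ε₀} := by
    by_contra h
    exact hnlt (lt_of_le_not_ge hle h)
  obtain ⟨c', hc'⟩ := Ideal.mem_span_singleton.mp (heq (Ideal.mem_span_singleton_self _))
  obtain ⟨c, rfl⟩ := Ideal.Quotient.mk_surjective c'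
  have h2 : (ε₀ + εq - ε₀ * εq) - ε₀ * c ∈ mS := by
    rw [← Ideal.Quotient.eq_zero_iff_mem, map_sub, map_mul (Ideal.Quotient.mk mS) ε₀ c, ← hc',
      sub_self]
  have hmSq : mS ≤ q := by
    rw [hmS, Ideal.map_le_iff_le_comap]
    exact (Ideal.over_def q (maximalIdeal R)).le
  have hε₁q : ε₀ + εq - ε₀ * εq ∈ q := by
    have := q.add_mem (hmSq h2) (q.mul_mem_right c hmem)
    simpa using this
  apply hεqq
  have : εq = εq * (ε₀ + εq - ε₀ * εq) := by
    linear_combination (ε₀ - 1) * e2
  rw [this]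
  exact Ideal.mul_mem_left _ _ hε₁q

end Helper1
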