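import Mathlib
import Groth.Agent.S0503
import Groth.Agent.Lib.helper1.FactorLift
import Groth.Agent.Lib.helper1.Hensel

/-!
# Lifting factorizations over henselian local rings (helper1)
-/

universe u

namespace Helper1

open Polynomial IsLocalRing

section

variable {R : Type u} [CommRing R] [HenselianLocalRing R]

local notation "𝓢" f:max => AdjoinRoot f
local notation "𝓤" f:max H:max => Localization.Away (AdjoinRoot.mk f H)

theorem factor_lift_of_henselian_aux (f : R[X]) (g₀ h₀ : (ResidueField R)[X]) (hg : g₀.Monic)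
    (hc : IsCoprime g₀ h₀) (hf : f.map (residue R) = g₀ * h₀)
    (hf0 : f.map (residue R) ≠ 0) :
    ∃ g h : R[X], f = g * h ∧ g.Monic ∧ g.map (residue R) = g₀ ∧ h.map (residue R) = h₀ := by
  classical
  have hg0ne : g₀ ≠ 0 := hg.ne_zero
  obtain ⟨i, hi⟩ : ∃ i, IsUnit (f.coeff i) := by
    by_contra hcon
    push Not at hcon
    apply hf0
    ext n
    rw [coeff_map, coeff_zero, residue_eq_zero_iff, mem_maximalIdeal]
    exact hcon n
  haveI := Helper1.quasiFinite_adjoinRoot f i hi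
  obtain ⟨H, hH⟩ := Polynomial.map_surjective (residue R) residue_surjective h₀
  obtain ⟨G, hG, hGdeg, hGmonic⟩ := lifts_and_natDegree_eq_and_monic (f := residue R) (p := g₀)
    ((mem_lifts _).mpr (map_surjective _ residue_surjective g₀)) hg
  have hc' := hc
  obtain ⟨a₀, b₀, hab⟩ := hc'
  obtain ⟨A₀, hA₀⟩ := map_surjective (residue R) residue_surjective a₀
  obtain ⟨B₀, hB₀⟩ := map_surjective (residue R) residue_surjective b₀
  set n := g₀.natDegree with hn
  -- the maps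
  let ι : R[X] →ₐ[R] (𝓤 f H) := aeval (algebraMap (𝓢 f) (𝓤 f H) (AdjoinRoot.root f))
  have hι : ∀ p : R[X], ι p = algebraMap (𝓢 f) (𝓤 f H) (AdjoinRoot.mk f p) := by
    intro p
    show aeval (algebraMap (𝓢 f) (𝓤 f H) (AdjoinRoot.root f)) p = _
    rw [aeval_algebraMap_apply, AdjoinRoot.aeval_eq]
  set mU : Ideal (𝓤 f H) := Ideal.map (algebraMap R (𝓤 f H)) (maximalIdeal R) with hmU
  have hιC : ∀ p ∈ Ideal.map (C : R →+* R[X]) (maximalIdeal R), ι p ∈ mU := by
    intro p hp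
    have h : algebraMap R (𝓤 f H) = (ι : R[X] →+* (𝓤 f H)).comp C := by
      ext r
      simp [ι]
    rw [hmU, h, ← Ideal.map_map]
    exact Ideal.mem_map_of_mem _ hp
  have hιf : ι f = 0 := by rw [hι, AdjoinRoot.mk_self, map_zero]
  have hιH : IsUnit (ι H) := by
    rw [hι]
    exact IsLocalization.Away.algebraMap_isUnit (AdjoinRoot.mk f H)
  let ρ : (𝓤 f H) →+* (𝓤 f H) ⧸ mU := Ideal.Quotient.mk mU
  have hρC : ∀ p : R[X], p.map (residue R) = 0 → ρ (ι p) = 0 := fun p hp =>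
    Ideal.Quotient.eq_zero_iff_mem.mpr (hιC p (Helper1.mem_map_C_of_map_residue_eq_zero hp))
  have hρG : ρ (ι G) = 0 := by
    have h1 : ρ (ι (G * H - f)) = 0 := hρC _ (by
      rw [Polynomial.map_sub, Polynomial.map_mul, hG, hH, hf, sub_self])
    simp only [map_sub, map_mul, hιf, sub_zero] at h1
    exact ((hιH.map ρ).mul_left_eq_zero).mp h1
  have hρBH : ρ (ι B₀) * ρ (ι H) = 1 := by
    have h1 : ρ (ι (A₀ * G + B₀ * H - 1)) = 0 := hρC _ (by
      rw [Polynomial.map_sub, Polynomial.map_add, Polynomial.map_mul, Polynomial.map_mul, hA₀, hG,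
        hB₀, hH, Polynomial.map_one, hab, sub_self])
    simp only [map_sub, map_add, map_mul, map_one, hρG, mul_zero, zero_add] at h1
    exact sub_eq_zero.mp h1
  have hred : ∀ u : (𝓤 f H), ∃ r ∈ degreeLT R n, u - ι r ∈ mU := by
    intro u
    obtain ⟨k, s, hs⟩ := IsLocalization.Away.surj (AdjoinRoot.mk f H) u
    obtain ⟨p, rfl⟩ := AdjoinRoot.mk_surjective s
    refine ⟨(B₀ ^ k * p) %ₘ G, ?_, ?_⟩
    · rw [mem_degreeLT]
      calc _ < G.degree := degree_modByMonic_lt _ hGmonic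
        _ = n := by rw [degree_eq_natDegree hGmonic.ne_zero, hGdeg]
    · rw [← Ideal.Quotient.eq_zero_iff_mem, map_sub, sub_eq_zero]
      have e1 : ρ u * ρ (ι H) ^ k = ρ (ι p) := by
        rw [← map_pow, ← map_mul, hι H, hι p, hs]
      have e2 : B₀ ^ k * p = (B₀ ^ k * p) %ₘ G + G * ((B₀ ^ k * p) /ₘ G) :=
        (modByMonic_add_div _ _).symm
      calc ρ u = ρ u * (ρ (ι B₀) * ρ (ι H)) ^ k := by rw [hρBH, one_pow, mul_one]
        _ = ρ (ι B₀) ^ k * (ρ u * ρ (ι H) ^ k) := by ring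
        _ = ρ (ι (B₀ ^ k * p)) := by rw [e1]; simp only [map_mul, map_pow]
        _ = ρ (ι ((B₀ ^ k * p) %ₘ G + G * ((B₀ ^ k * p) /ₘ G))) :=
          congrArg (fun q => ρ (ι q)) e2
        _ = ρ (ι ((B₀ ^ k * p) %ₘ G)) := by
          simp only [map_add, map_mul, hρG, zero_mul, add_zero]
  -- split off the finite part
  obtain ⟨e, he, hfinA, hB⟩ := Groth.Agent.S0503.result R (𝓤 f H)
  let qA : (𝓤 f H) →ₐ[R] (𝓤 f H) ⧸ Ideal.span {1 - e} := Ideal.Quotient.mkₐ R _
  let ι' : R[X] →ₐ[R] (𝓤 f H) ⧸ Ideal.span {1 - e} := qA.comp ι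
  have hN : (⊤ : Submodule R ((𝓤 f H) ⧸ Ideal.span {1 - e})) ≤
      (degreeLT R n).map ι'.toLinearMap := by
    apply Submodule.le_of_le_smul_of_le_jacobson_bot (I := maximalIdeal R) Module.Finite.fg_top
      (by rw [IsLocalRing.jacobson_eq_maximalIdeal ⊥ bot_ne_top])
    intro y _
    obtain ⟨u, rfl⟩ := Ideal.Quotient.mk_surjective y
    obtain ⟨r, hr, hur⟩ := hred u
    have hsplit : (Ideal.Quotient.mk (Ideal.span {1 - e}) u) = ι' r + qA (u - ι r) := by
      show qA u = qA (ι r) + qA (u - ι r)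
      rw [← map_add]
      congr 1
      ring
    rw [hsplit]
    refine Submodule.add_mem_sup (Submodule.mem_map_of_mem hr) ?_
    have hx : u - ι r ∈ (maximalIdeal R) • (⊤ : Submodule R (𝓤 f H)) := by
      rw [Ideal.smul_top_eq_map]
      exact hur
    have := Submodule.mem_map_of_mem (f := qA.toLinearMap) hx
    rw [Submodule.map_smul''] at this
    exact Submodule.smul_mono le_rfl le_top this
  obtain ⟨r, hr, hrn⟩ : ∃ r ∈ degreeLT R n, ι' r = ι' (X ^ n) := by
    have := hN (Submodule.mem_top : ι' (X ^ n) ∈ ⊤)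
    obtain ⟨r, hr, h⟩ := Submodule.mem_map.mp this
    exact ⟨r, hr, h⟩
  have hgmonic : (X ^ n - r).Monic := monic_X_pow_sub (mem_degreeLT.mp hr)
  have hgdeg : (X ^ n - r).natDegree ≤ n := by
    refine (natDegree_sub_le _ _).trans (max_le (natDegree_X_pow_le n) ?_)
    exact natDegree_le_of_degree_le (le_of_lt (mem_degreeLT.mp hr))
  have hιg : ι (X ^ n - r) * e = 0 := by
    have h0 : ι' (X ^ n - r) = 0 := by rw [map_sub, hrn, sub_self]
    have hmem : ι (X ^ n - r) ∈ Ideal.span {1 - e} := Ideal.Quotient.eq_zero_iff_mem.mp h0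
    obtain ⟨y, hy⟩ := Ideal.mem_span_singleton'.mp hmem
    rw [← hy, mul_assoc, sub_mul, one_mul, he.eq, sub_self, mul_zero]
  -- the complementary factor has empty closed fibre
  obtain ⟨μ', hμ', s, hs⟩ : ∃ μ' ∈ mU, ∃ s, s * e = 1 - μ' := by
    have h1 : (1 : (𝓤 f H) ⧸ Ideal.span {e}) ∈
        Ideal.map (algebraMap R ((𝓤 f H) ⧸ Ideal.span {e})) (maximalIdeal R) := by
      rw [hB]; trivial
    have h2 : algebraMap R ((𝓤 f H) ⧸ Ideal.span {e}) =
        (Ideal.Quotient.mk (Ideal.span {e})).comp (algebraMap R (𝓤 f H)) := rfl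
    rw [h2, ← Ideal.map_map, Ideal.mem_map_iff_of_surjective _ Ideal.Quotient.mk_surjective] at h1
    obtain ⟨μ', hμ', hμ1⟩ := h1
    refine ⟨μ', hμ', ?_⟩
    have : (1 - μ') ∈ Ideal.span {e} := by
      rw [← Ideal.Quotient.eq_zero_iff_mem, map_sub, map_one, hμ1, sub_self]
    exact Ideal.mem_span_singleton'.mp this
  have hkey : ι (X ^ n - r) * (1 - μ') = 0 := by
    rw [← hs, ← mul_assoc, mul_comm (ι (X ^ n - r)) s, mul_assoc, hιg, mul_zero]
  have hmU' : mU = Ideal.map (algebraMap (𝓢 f) (𝓤 f H))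
      (Ideal.map (algebraMap R (𝓢 f)) (maximalIdeal R)) := by
    rw [Ideal.map_map, ← IsScalarTower.algebraMap_eq]
  rw [hmU', IsLocalization.mem_map_algebraMap_iff (Submonoid.powers (AdjoinRoot.mk f H))
    (𝓤 f H)] at hμ'
  obtain ⟨⟨⟨a, ha⟩, ⟨_, k, rfl⟩⟩, hak⟩ := hμ'
  have ha' : a ∈ Ideal.map (AdjoinRoot.mk f) (Ideal.map C (maximalIdeal R)) := by
    rw [Ideal.map_map]
    exact ha
  obtain ⟨μ, hμ, rfl⟩ := (Ideal.mem_map_iff_of_surjective _ AdjoinRoot.mk_surjective).mp ha'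
  have h0 : algebraMap (𝓢 f) (𝓤 f H) (AdjoinRoot.mk f ((X ^ n - r) * (H ^ k - μ))) = 0 := by
    have e1 : algebraMap (𝓢 f) (𝓤 f H) (AdjoinRoot.mk f ((X ^ n - r) * (H ^ k - μ))) =
        ι (X ^ n - r) * (algebraMap (𝓢 f) (𝓤 f H) (AdjoinRoot.mk f H ^ k) -
          algebraMap (𝓢 f) (𝓤 f H) (AdjoinRoot.mk f μ)) := by
      rw [hι, ← map_sub, ← map_mul, ← map_pow, ← map_sub, ← map_mul]
    rw [e1, ← hak]
    dsimp only
    rw [← one_sub_mul, ← mul_assoc, hkey, zero_mul]
  obtain ⟨⟨_, k', rfl⟩, hk'⟩ :=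
    (IsLocalization.map_eq_zero_iff (Submonoid.powers (AdjoinRoot.mk f H)) (𝓤 f H) _).mp h0
  have hdvd : f ∣ H ^ k' * ((X ^ n - r) * (H ^ k - μ)) := by
    rw [← AdjoinRoot.mk_eq_zero, map_mul, map_pow]
    exact hk'
  obtain ⟨w, hw⟩ := hdvd
  have hμ0 : μ.map (residue R) = 0 := Helper1.map_residue_eq_zero_of_mem_map_C hμ
  have hmod : h₀ ^ k' * ((X ^ n - r).map (residue R) * h₀ ^ k) =
      g₀ * h₀ * w.map (residue R) := by
    have := congrArg (Polynomial.map (residue R)) hw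
    simp only [Polynomial.map_mul, Polynomial.map_pow, Polynomial.map_sub, hμ0, sub_zero, hH,
      hf] at this ⊢
    exact this
  have hdvdg : g₀ ∣ (X ^ n - r).map (residue R) := by
    have h1 : g₀ ∣ (X ^ n - r).map (residue R) * h₀ ^ (k' + k) :=
      ⟨h₀ * w.map (residue R), by rw [pow_add]; linear_combination hmod⟩
    exact (hc.pow_right).dvd_of_dvd_mul_right h1
  have hgmap : (X ^ n - r).map (residue R) = g₀ :=
    eq_of_monic_of_dvd_of_natDegree_le hg (hgmonic.map _) hdvdg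
      (by rw [hgmonic.natDegree_map]; exact hgdeg)
  rw [hgmap] at hmod
  have hw' : h₀ ^ (k' + k) = h₀ * w.map (residue R) := by
    apply mul_left_cancel₀ hg0ne
    rw [pow_add]
    linear_combination hmod
  have hcw : IsCoprime g₀ (w.map (residue R)) := by
    have : IsCoprime g₀ (h₀ * w.map (residue R)) := hw' ▸ hc.pow_right
    exact this.of_mul_right_right
  obtain ⟨a₁, b₁, hab₁⟩ := hcw
  obtain ⟨A₁, hA₁⟩ := map_surjective (residue R) residue_surjective a₁
  obtain ⟨B₁, hB₁⟩ := map_surjective (residue R) residue_surjective b₁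
  haveI : Module.Finite R (AdjoinRoot (X ^ n - r)) := hgmonic.finite_adjoinRoot
  have hunitw : IsUnit (AdjoinRoot.mk (X ^ n - r) w) := by
    have hν : (A₁ * (X ^ n - r) + B₁ * w - 1).map (residue R) = 0 := by
      rw [Polynomial.map_sub, Polynomial.map_add, Polynomial.map_mul, Polynomial.map_mul, hA₁,
        hB₁, hgmap, Polynomial.map_one, hab₁, sub_self]
    have hmem := Helper1.mk_mem_map_of_mem_map_C (X ^ n - r)
      (Helper1.mem_map_C_of_map_residue_eq_zero hν)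
    have hjac := Helper1.map_maximalIdeal_le_jacobson R (AdjoinRoot (X ^ n - r)) hmem
    have e1 : AdjoinRoot.mk (X ^ n - r) B₁ * AdjoinRoot.mk (X ^ n - r) w =
        1 + AdjoinRoot.mk (X ^ n - r) (A₁ * (X ^ n - r) + B₁ * w - 1) := by
      have hself : AdjoinRoot.mk (X ^ n - r) (X ^ n - r) = 0 := AdjoinRoot.mk_self
      rw [map_sub, map_add, map_mul, map_mul, map_one, hself, mul_zero, zero_add]
      ring
    have hu : IsUnit (AdjoinRoot.mk (X ^ n - r) B₁ * AdjoinRoot.mk (X ^ n - r) w) := by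
      rw [e1]
      exact Helper1.isUnit_add_of_mem_jacobson_bot isUnit_one hjac
    exact isUnit_of_mul_isUnit_right hu
  have hgf : (X ^ n - r) ∣ f := by
    rw [← AdjoinRoot.mk_eq_zero]
    have : AdjoinRoot.mk (X ^ n - r) f * AdjoinRoot.mk (X ^ n - r) w = 0 := by
      rw [← map_mul, ← hw, AdjoinRoot.mk_eq_zero]
      exact ⟨H ^ k' * (H ^ k - μ), by ring⟩
    exact (hunitw.mul_left_eq_zero).mp this
  obtain ⟨h, hh⟩ := hgf
  refine ⟨X ^ n - r, h, hh, hgmonic, hgmap, ?_⟩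
  apply mul_left_cancel₀ hg0ne
  rw [← hf, hh, Polynomial.map_mul, hgmap]

end

end Helper1
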