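import Mathlib.RingTheory.Flat.FaithfullyFlat.Basic
import Mathlib.RingTheory.Flat.FaithfullyFlat.Algebra
import Mathlib.RingTheory.RingHom.Flat
import Mathlib.RingTheory.RingHom.FaithfullyFlat

/-! Helper lemmas (helper1): flatness descends along a faithfully flat extension on the target. -/

set_option autoImplicit false

namespace Helper1

open TensorProduct

universe u

/-- If `R → S → T` with `T` faithfully flat over `S` and `T` flat over `R`, then `S` is flat over `R`. -/
theorem flat_of_flat_of_faithfullyFlat (R S T : Type u) [CommRing R] [CommRing S] [CommRing T]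
    [Algebra R S] [Algebra S T] [Algebra R T] [IsScalarTower R S T]
    [Module.FaithfullyFlat S T] [Module.Flat R T] : Module.Flat R S := by
  rw [Module.Flat.iff_lTensor_preserves_injective_linearMap]
  intro N P _ _ _ _ f hf
  -- the S-linear version of `lTensor S f`
  let g : S ⊗[R] N →ₗ[S] S ⊗[R] P := f.baseChange S
  have hg : (g : S ⊗[R] N → S ⊗[R] P) = f.lTensor S := by
    ext x; simp [g, LinearMap.baseChange_eq_ltensor]
  rw [← hg]
  rw [← Module.FaithfullyFlat.lTensor_injective_iff_injective S T g]
  have key : ∀ x : T ⊗[S] (S ⊗[R] N),
      (AlgebraTensorModule.cancelBaseChange R S S T P) (g.lTensor T x) =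
        f.lTensor T ((AlgebraTensorModule.cancelBaseChange R S S T N) x) := by
    intro x
    induction x using TensorProduct.induction_on with
    | zero => simp
    | add x y hx hy => simp only [map_add, hx, hy]
    | tmul t y =>
      induction y using TensorProduct.induction_on with
      | zero => simp
      | add y z hy hz => simp only [tmul_add, map_add, hy, hz]
      | tmul s n => simp [g]
  have hinj : Function.Injective (f.lTensor T) :=
    Module.Flat.lTensor_preserves_injective_linearMap f hf
  intro x y hxy
  have h1 := congrArg (AlgebraTensorModule.cancelBaseChange R S S T P) hxy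
  rw [key, key] at h1
  exact (AlgebraTensorModule.cancelBaseChange R S S T N).injective (hinj h1)

/-- Ring hom version. -/
theorem ringHom_flat_of_comp_of_faithfullyFlat {R S T : Type u} [CommRing R] [CommRing S]
    [CommRing T] (f : R →+* S) (g : S →+* T) (hg : g.FaithfullyFlat) (hgf : (g.comp f).Flat) :
    f.Flat := by
  algebraize [f, g, g.comp f]
  exact flat_of_flat_of_faithfullyFlat R S T

end Helper1
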