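import Mathlib

/-!
# Flatness descends along pure (faithfully-flat-dominated) maps (helper1)
-/

universe u

namespace Helper1

open scoped TensorProduct

theorem flat_of_flat_comp_of_faithfullyFlat (A B C D : Type u) [CommRing A] [CommRing B]
    [CommRing C] [CommRing D]
    [Algebra A B] [Algebra B C] [Algebra A C] [IsScalarTower A B C]
    [Algebra C D] [Algebra B D] [IsScalarTower B C D] [Algebra A D] [IsScalarTower A B D]
    [IsScalarTower A C D]
    [Module.Flat A C] [Module.FaithfullyFlat B D] : Module.Flat A B := by
  rw [Module.Flat.iff_lTensor_injective']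
  intro I
  let φ : B →ₗ[A] D := (IsScalarTower.toAlgHom A B D).toLinearMap
  let ψ : B →ₗ[A] C := (IsScalarTower.toAlgHom A B C).toLinearMap
  let χ : C →ₗ[A] D := (IsScalarTower.toAlgHom A C D).toLinearMap
  have hχψ : χ ∘ₗ ψ = φ := by
    apply LinearMap.ext
    intro b
    show algebraMap C D (algebraMap B C b) = algebraMap B D b
    rw [← IsScalarTower.algebraMap_apply]
  have hφinj : Function.Injective (φ.rTensor I) := by
    have h1 : Function.Injective (TensorProduct.mk B D (B ⊗[A] I) 1) :=
      Module.FaithfullyFlat.tensorProduct_mk_injective (A := B) (B := D) (B ⊗[A] I)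
    have h2 : ∀ z, φ.rTensor I z = (TensorProduct.AlgebraTensorModule.cancelBaseChange A B B D I)
        (TensorProduct.mk B D (B ⊗[A] I) 1 z) := by
      intro z
      induction z using TensorProduct.induction_on with
      | zero => simp
      | tmul b i =>
        rw [LinearMap.rTensor_tmul, TensorProduct.mk_apply,
          TensorProduct.AlgebraTensorModule.cancelBaseChange_tmul]
        congr 1
        show algebraMap B D b = b • (1 : D)
        rw [Algebra.smul_def, mul_one]
      | add x y hx hy => rw [map_add, hx, hy, map_add, map_add]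
    intro z z' hzz'
    rw [h2, h2] at hzz'
    exact h1 ((TensorProduct.AlgebraTensorModule.cancelBaseChange A B B D I).injective hzz')
  have hψinj : Function.Injective (ψ.rTensor I) := by
    have h3 : φ.rTensor I = (χ.rTensor I) ∘ₗ (ψ.rTensor I) := by
      rw [← LinearMap.rTensor_comp, hχψ]
    intro z z' h
    apply hφinj
    rw [h3, LinearMap.comp_apply, LinearMap.comp_apply, h]
  have hsq : (ψ.rTensor A) ∘ₗ (I.subtype.lTensor B) = (I.subtype.lTensor C) ∘ₗ (ψ.rTensor I) := by
    rw [LinearMap.rTensor_comp_lTensor, LinearMap.lTensor_comp_rTensor]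
  have hbot : Function.Injective (I.subtype.lTensor C) :=
    Module.Flat.lTensor_preserves_injective_linearMap _ Subtype.val_injective
  intro z z' h
  apply hψinj
  apply hbot
  have h4 := congrArg (ψ.rTensor A) h
  rw [← LinearMap.comp_apply, ← LinearMap.comp_apply, hsq] at h4
  exact h4

theorem ringHom_flat_of_comp {A B C D : Type u} [CommRing A] [CommRing B] [CommRing C]
    [CommRing D] [IsLocalRing B] [IsLocalRing D]
    (a : A →+* B) (b : B →+* C) (c : C →+* D) (h1 : (b.comp a).Flat) (h2 : (c.comp b).Flat)
    [IsLocalHom (c.comp b)] : a.Flat := by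
  letI := a.toAlgebra
  letI := b.toAlgebra
  letI := c.toAlgebra
  letI : Algebra A C := (b.comp a).toAlgebra
  letI : Algebra B D := (c.comp b).toAlgebra
  letI : Algebra A D := (c.comp (b.comp a)).toAlgebra
  haveI : IsScalarTower A B C := IsScalarTower.of_algebraMap_eq (fun _ => rfl)
  haveI : IsScalarTower B C D := IsScalarTower.of_algebraMap_eq (fun _ => rfl)
  haveI : IsScalarTower A B D := IsScalarTower.of_algebraMap_eq (fun _ => rfl)
  haveI : IsScalarTower A C D := IsScalarTower.of_algebraMap_eq (fun _ => rfl)
  haveI : Module.Flat A C := h1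
  haveI : Module.Flat B D := h2
  haveI : IsLocalHom (algebraMap B D) := ‹IsLocalHom (c.comp b)›
  haveI : Module.FaithfullyFlat B D := Module.FaithfullyFlat.of_flat_of_isLocalHom
  exact flat_of_flat_comp_of_faithfullyFlat A B C D

open AlgebraicGeometry CategoryTheory in
theorem flat_of_flat_comp_of_surjective {X Y Z : Scheme.{u}} (f : X ⟶ Y) (q : Y ⟶ Z)
    [Flat f] [Surjective f] [Flat (f ≫ q)] : Flat q := by
  refine Flat.of_stalkMap q (fun y => ?_)
  obtain ⟨x, rfl⟩ := f.surjective y
  have h1 : ((f.stalkMap x).hom.comp (q.stalkMap (f x)).hom).Flat := by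
    have h := Flat.stalkMap (f ≫ q) x
    rw [Scheme.Hom.stalkMap_comp] at h
    exact h
  have h2 : ((RingHom.id _).comp (f.stalkMap x).hom).Flat := by
    rw [RingHom.id_comp]
    exact Flat.stalkMap f x
  exact ringHom_flat_of_comp (q.stalkMap (f x)).hom (f.stalkMap x).hom (RingHom.id _) h1 h2

end Helper1
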