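import Mathlib

/-! `p`-semilinear additive endomorphisms of finite-dimensional vector spaces over an algebraically
closed field of characteristic `p`: `F - id` is surjective. -/

namespace Helper1.FrobSemi
open Polynomial

variable {k V : Type*} [Field k] [IsAlgClosed k] (p : ℕ) [Fact p.Prime] [CharP k p]
  [AddCommGroup V] [Module k V] [FiniteDimensional k V] (F : V →+ V)

include p in
theorem mem_of_sub_mem (hF : ∀ (c : k) (v : V), F (c • v) = c ^ p • F v)
    (I : AddSubgroup V) (hI : ∀ v, F v - v ∈ I) : ∀ w : V, w ∈ I := by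
  classical
  have hp : 0 < p := (Fact.out : p.Prime).pos
  have hA : ∀ (c : k) (v : V), c • v - c ^ p • F v ∈ I := by
    intro c v
    have h := hI (c • v)
    rw [hF] at h
    have h2 := I.neg_mem h
    rwa [neg_sub] at h2
  have hB : ∀ (i : ℕ) (c : k) (v : V), c • v - c ^ (p ^ i) • ((⇑F)^[i] v) ∈ I := by
    intro i
    induction i with
    | zero =>
      intro c v
      rw [pow_zero, pow_one, Function.iterate_zero, id_eq, sub_self]
      exact I.zero_mem
    | succ i ih =>
      intro c v
      have h1 := ih c v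
      have h2 := hA (c ^ (p ^ i)) ((⇑F)^[i] v)
      have h3 := I.add_mem h1 h2
      rw [Function.iterate_succ_apply', pow_succ, pow_mul]
      convert h3 using 1
      abel
  intro w
  obtain ⟨m, hm⟩ := (monotone_stabilizes_iff_noetherian.mpr (inferInstance : IsNoetherian k V))
    (⟨fun j => Submodule.span k (Set.range fun i : Fin j => (⇑F)^[(i : ℕ)] w), fun j j' h =>
      Submodule.span_mono (by
        rintro _ ⟨i, rfl⟩
        exact ⟨⟨i, lt_of_lt_of_le i.2 h⟩, rfl⟩)⟩ : ℕ →o Submodule k V)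
  have hm1 : Submodule.span k (Set.range fun i : Fin m => (⇑F)^[(i : ℕ)] w)
      = Submodule.span k (Set.range fun i : Fin (m + 1) => (⇑F)^[(i : ℕ)] w) :=
    hm (m + 1) (Nat.le_succ m)
  have hmem : (⇑F)^[m] w ∈ Submodule.span k (Set.range fun i : Fin m => (⇑F)^[(i : ℕ)] w) := by
    rw [hm1]
    exact Submodule.subset_span ⟨⟨m, Nat.lt_succ_self m⟩, rfl⟩
  obtain ⟨a, ha⟩ := (Submodule.mem_span_range_iff_exists_fun k).mp hmem
  have hroot : ∀ i : Fin m, ∃ b : k, b ^ (p ^ (i : ℕ)) = a i := fun i =>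
    IsAlgClosed.exists_pow_nat_eq (a i) (pow_pos hp _)
  choose b hb using hroot
  obtain ⟨Q, hQ⟩ : ∃ Q : Polynomial k,
      Q = X - ∑ i : Fin m, C (b i) * X ^ (p ^ (m - (i : ℕ))) - 1 := ⟨_, rfl⟩
  have hQd : derivative Q = 1 := by
    rw [hQ, derivative_sub, derivative_sub, derivative_X, derivative_one, sub_zero,
      derivative_sum, Finset.sum_eq_zero, sub_zero]
    intro i _
    rw [derivative_C_mul_X_pow]
    have h0 : ((p ^ (m - (i : ℕ)) : ℕ) : k) = 0 := by
      rw [Nat.cast_pow, CharP.cast_eq_zero k p, zero_pow]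
      have := i.2
      omega
    rw [h0, mul_zero, C_0, zero_mul]
  have hQdeg : Q.degree ≠ 0 := by
    intro h0
    have h1 := eq_C_of_degree_eq_zero h0
    have h2 : derivative Q = 0 := by rw [h1, derivative_C]
    rw [hQd] at h2
    exact one_ne_zero h2
  obtain ⟨c, hc⟩ := IsAlgClosed.exists_root Q hQdeg
  have hc' : c - ∑ i : Fin m, b i * c ^ (p ^ (m - (i : ℕ))) = 1 := by
    rw [IsRoot.def, hQ] at hc
    simp only [eval_sub, eval_X, eval_finsetSum, eval_mul, eval_C, eval_pow, eval_one] at hc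
    exact sub_eq_zero.mp hc
  have hkey : (c - ∑ i : Fin m, b i * c ^ (p ^ (m - (i : ℕ)))) • w ∈ I := by
    have h1 := hB m c w
    have h2 : ∀ i : Fin m, (b i * c ^ (p ^ (m - (i : ℕ)))) • w
        - (b i * c ^ (p ^ (m - (i : ℕ)))) ^ (p ^ (i : ℕ)) • (⇑F)^[(i : ℕ)] w ∈ I :=
      fun i => hB i _ w
    have h3 := I.sum_mem (fun i _ => h2 i) (t := Finset.univ)
    have h4 := I.sub_mem h1 h3
    convert h4 using 1
    have hpow : ∀ i : Fin m, (b i * c ^ (p ^ (m - (i : ℕ)))) ^ (p ^ (i : ℕ))
        = c ^ (p ^ m) * a i := by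
      intro i
      rw [mul_pow, hb i, ← pow_mul, ← pow_add, Nat.sub_add_cancel (le_of_lt i.2), mul_comm]
    have hFm : c ^ (p ^ m) • (⇑F)^[m] w
        = ∑ i : Fin m, (c ^ (p ^ m) * a i) • (⇑F)^[(i : ℕ)] w := by
      rw [← ha, Finset.smul_sum]
      refine Finset.sum_congr rfl fun i _ => ?_
      rw [smul_smul]
    rw [Finset.sum_sub_distrib, sub_smul, Finset.sum_smul, hFm]
    simp only [hpow]
    abel
  rw [hc', one_smul] at hkey
  exact hkey

include p in
theorem surjective (hF : ∀ (c : k) (v : V), F (c • v) = c ^ p • F v) :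
    Function.Surjective fun v => F v - v := by
  intro w
  have h := mem_of_sub_mem p F hF (F - AddMonoidHom.id V).range
    (fun v => ⟨v, by rw [AddMonoidHom.sub_apply, AddMonoidHom.id_apply]⟩) w
  obtain ⟨x, hx⟩ := AddMonoidHom.mem_range.mp h
  rw [AddMonoidHom.sub_apply, AddMonoidHom.id_apply] at hx
  exact ⟨x, hx⟩

end Helper1.FrobSemi

namespace Helper1.FrobSemi
open Polynomial

variable {k V : Type*} [Field k] [IsAlgClosed k] (p : ℕ) [Fact p.Prime] [CharP k p]
  [AddCommGroup V] [Module k V] [FiniteDimensional k V] (F : V →+ V)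

include p in
theorem fixed_finite (hF : ∀ (c : k) (v : V), F (c • v) = c ^ p • F v) :
    Set.Finite {v : V | F v = v} ∧ Nat.card {v : V | F v = v} ≤ p ^ Module.finrank k V := by
  classical
  have hp1 : 1 < p := (Fact.out : p.Prime).one_lt
  obtain ⟨b, hbΦ, hspan, hli⟩ := exists_linearIndependent k {v : V | F v = v}
  have : Finite ↥b := hli.finite
  haveI : Fintype ↥b := Fintype.ofFinite _
  obtain ⟨P, hP⟩ : ∃ P : Set k, ∀ c, c ∈ P ↔ c ^ p = c := ⟨{c | c ^ p = c}, fun c => Iff.rfl⟩
  have hne : (X ^ p - X : Polynomial k) ≠ 0 := FiniteField.X_pow_card_sub_X_ne_zero k hp1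
  have hPsub : P ⊆ ((X ^ p - X : Polynomial k).roots.toFinset : Set k) := by
    intro c hc
    rw [Finset.mem_coe, Multiset.mem_toFinset, Polynomial.mem_roots hne, Polynomial.IsRoot.def]
    simp only [eval_sub, eval_pow, eval_X]
    rw [(hP c).mp hc, sub_self]
  have hPfin : P.Finite := (Finset.finite_toSet _).subset hPsub
  have hPcard : Nat.card ↥P ≤ p := by
    rw [Nat.card_coe_set_eq]
    calc P.ncard ≤ ((X ^ p - X : Polynomial k).roots.toFinset : Set k).ncard :=
          Set.ncard_le_ncard hPsub (Finset.finite_toSet _)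
      _ = (X ^ p - X : Polynomial k).roots.toFinset.card := Set.ncard_coe_finset _
      _ ≤ Multiset.card (X ^ p - X : Polynomial k).roots := Multiset.toFinset_card_le _
      _ ≤ (X ^ p - X : Polynomial k).natDegree := Polynomial.card_roots' _
      _ = p := FiniteField.X_pow_card_sub_X_natDegree_eq k hp1
  have : Finite ↥P := hPfin.to_subtype
  have hrep : ∀ v : ↥{v : V | F v = v}, ∃ c : ↥b → ↥P,
      ∑ e : ↥b, (c e : k) • (e : V) = (v : V) := by
    rintro ⟨v, hv⟩
    have hv' : F v = v := hv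
    have hvs : v ∈ Submodule.span k (Set.range ((↑) : ↥b → V)) := by
      rw [Subtype.range_coe, hspan]
      exact Submodule.subset_span hv
    obtain ⟨c, hc⟩ := (Submodule.mem_span_range_iff_exists_fun k).mp hvs
    have hFv : F v = ∑ e : ↥b, (c e) ^ p • (e : V) := by
      rw [← hc, map_sum]
      refine Finset.sum_congr rfl fun e _ => ?_
      have hFe : F (e : V) = (e : V) := hbΦ e.2
      rw [hF, hFe]
    have hzero : ∑ e : ↥b, ((c e) ^ p - c e) • (e : V) = 0 := by
      simp only [sub_smul]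
      rw [Finset.sum_sub_distrib, ← hFv, hc]
      exact sub_eq_zero.mpr hv'
    have hall := Fintype.linearIndependent_iff.mp hli _ hzero
    exact ⟨fun e => ⟨c e, (hP _).mpr (sub_eq_zero.mp (hall e))⟩, hc⟩
  choose g hg using hrep
  have hinj : Function.Injective g := by
    intro v v' h
    apply Subtype.ext
    rw [← hg v, ← hg v', h]
  refine ⟨?_, ?_⟩
  · have := Finite.of_injective g hinj
    exact Set.toFinite _
  · calc Nat.card ↥{v : V | F v = v} ≤ Nat.card (↥b → ↥P) :=
          Nat.card_le_card_of_injective g hinj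
      _ = Nat.card ↥P ^ Nat.card ↥b := Nat.card_fun
      _ ≤ p ^ Nat.card ↥b := Nat.pow_le_pow_left hPcard _
      _ ≤ p ^ Module.finrank k V := by
          apply Nat.pow_le_pow_right (by omega)
          rw [Nat.card_eq_fintype_card]
          exact hli.fintype_card_le_finrank

end Helper1.FrobSemi
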