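import Mathlib
import Groth.Agent.Lib.helper1.HenselPair

/-!
# Henselian pairs: lifting sections of étale algebras (helper1)
-/

universe u

namespace Helper1

open Polynomial TensorProduct

/-- Global form of Zariski's main theorem along a section: there is `Δ` integral with `σ Δ = 1`
such that every element becomes integral after multiplication by a power of `Δ`. -/
theorem exists_integral_elem_section {A : Type*} [CommRing A] (I : Ideal A) {S : Type*}
    [CommRing S] [Algebra A S] [Algebra.FiniteType A S] [Algebra.QuasiFinite A S]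
    (σ : S →ₐ[A] A ⧸ I) :
    ∃ Δ : S, σ Δ = 1 ∧ IsIntegral A Δ ∧ ∀ x, ∃ m, IsIntegral A (Δ ^ m * x) := by
  classical
  let J : Ideal (A ⧸ I) :=
    { carrier := {z | ∃ r : S, σ r = z ∧ IsIntegral A r ∧ ∀ x, ∃ m, IsIntegral A (r ^ m * x)}
      zero_mem' := ⟨0, map_zero _, isIntegral_zero, fun x => ⟨1, by simp [isIntegral_zero]⟩⟩
      add_mem' := by
        rintro _ _ ⟨r₁, rfl, hr₁, h₁⟩ ⟨r₂, rfl, hr₂, h₂⟩
        refine ⟨r₁ + r₂, map_add _ _ _, hr₁.add hr₂, fun x => ?_⟩
        obtain ⟨m₁, hm₁⟩ := h₁ x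
        obtain ⟨m₂, hm₂⟩ := h₂ x
        refine ⟨m₁ + m₂, ?_⟩
        rw [add_pow, Finset.sum_mul]
        refine IsIntegral.sum _ fun i hi => ?_
        have hi' : i ≤ m₁ + m₂ := Nat.lt_succ_iff.mp (Finset.mem_range.mp hi)
        have hc : IsIntegral A ((↑((m₁ + m₂).choose i) : S)) := isIntegral_natCast _
        rcases le_or_gt m₁ i with h | h
        · obtain ⟨d, rfl⟩ := Nat.exists_eq_add_of_le h
          have : r₁ ^ (m₁ + d) * r₂ ^ (m₁ + m₂ - (m₁ + d)) * ↑((m₁ + m₂).choose (m₁ + d)) * x =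
              (r₁ ^ d * r₂ ^ (m₁ + m₂ - (m₁ + d)) * ↑((m₁ + m₂).choose (m₁ + d))) *
                (r₁ ^ m₁ * x) := by
            rw [pow_add]; ring
          rw [this]
          exact (((hr₁.pow _).mul (hr₂.pow _)).mul hc).mul hm₁
        · have h3 : m₂ ≤ m₁ + m₂ - i := by omega
          obtain ⟨d, hd⟩ := Nat.exists_eq_add_of_le h3
          have : r₁ ^ i * r₂ ^ (m₁ + m₂ - i) * ↑((m₁ + m₂).choose i) * x =
              (r₁ ^ i * r₂ ^ d * ↑((m₁ + m₂).choose i)) * (r₂ ^ m₂ * x) := by
            rw [hd, pow_add]; ring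
          rw [this]
          exact (((hr₁.pow _).mul (hr₂.pow _)).mul hc).mul hm₂
      smul_mem' := by
        rintro c _ ⟨r, rfl, hr, h⟩
        obtain ⟨a, rfl⟩ := Ideal.Quotient.mk_surjective c
        refine ⟨a • r, ?_, hr.smul a, fun x => ?_⟩
        · rw [map_smul, Algebra.smul_def, smul_eq_mul]; rfl
        · obtain ⟨m, hm⟩ := h x
          refine ⟨m, ?_⟩
          rw [_root_.smul_pow, smul_mul_assoc]
          exact hm.smul _ }
  have hJ : J = ⊤ := by
    by_contra hne
    obtain ⟨𝔪, h𝔪, hle⟩ := Ideal.exists_le_maximal J hne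
    let q : Ideal S := 𝔪.comap σ.toRingHom
    have hq : q.IsPrime := Ideal.comap_isPrime _ _
    have hZ : Algebra.ZariskisMainProperty A q := Algebra.ZariskisMainProperty.of_finiteType q
    obtain ⟨r, hrq, hr, h⟩ := Algebra.zariskisMainProperty_iff.mp hZ
    exact hrq (hle ⟨r, rfl, hr, h⟩)
  have h1 : (1 : A ⧸ I) ∈ J := by rw [hJ]; trivial
  obtain ⟨Δ, hΔ, hΔi, hΔx⟩ := h1
  exact ⟨Δ, hΔ, hΔi, hΔx⟩

/-- A finitely generated (as a module) subalgebra `B` containing `r` with `r ^ N * x ∈ B`. -/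
theorem exists_fg_subalgebra_pow_mul_mem {R S : Type*} [CommRing R] [CommRing S]
    [Algebra R S] [Algebra.FiniteType R S]
    (r : S) (hr : IsIntegral R r) (H : ∀ x, ∃ m, IsIntegral R (r ^ m * x)) :
    ∃ B : Subalgebra R S, r ∈ B ∧ B.toSubmodule.FG ∧ ∀ x : S, ∃ N, r ^ N * x ∈ B := by
  obtain ⟨s, hs⟩ := Algebra.FiniteType.out (R := R) (A := S)
  choose m hm using H
  let t := insert r { r ^ m x * x | x ∈ s }
  have hrB : r ∈ Algebra.adjoin R t := Algebra.subset_adjoin (by simp [t])
  refine ⟨Algebra.adjoin R t, hrB, fg_adjoin_of_finite ?_ ?_, ?_⟩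
  · simp only [t, Set.finite_insert]
    exact s.finite_toSet.image (fun x ↦ r ^ m x * x)
  · rintro a (rfl | ⟨x, hx, rfl⟩); exacts [hr, hm _]
  · intro x
    have hx : x ∈ Algebra.adjoin R (s : Set S) := by rw [hs]; trivial
    induction hx using Algebra.adjoin_induction with
    | mem x hx =>
      exact ⟨m x, Algebra.subset_adjoin (Set.mem_insert_of_mem _ ⟨x, hx, rfl⟩)⟩
    | algebraMap a => exact ⟨0, by simp⟩
    | add x y _ _ hx hy =>
      obtain ⟨Nx, hNx⟩ := hx
      obtain ⟨Ny, hNy⟩ := hy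
      refine ⟨Nx + Ny, ?_⟩
      have : r ^ (Nx + Ny) * (x + y) = r ^ Ny * (r ^ Nx * x) + r ^ Nx * (r ^ Ny * y) := by
        rw [pow_add]; ring
      rw [this]
      exact add_mem (mul_mem (pow_mem hrB _) hNx) (mul_mem (pow_mem hrB _) hNy)
    | mul x y _ _ hx hy =>
      obtain ⟨Nx, hNx⟩ := hx
      obtain ⟨Ny, hNy⟩ := hy
      refine ⟨Nx + Ny, ?_⟩
      have : r ^ (Nx + Ny) * (x * y) = (r ^ Nx * x) * (r ^ Ny * y) := by
        rw [pow_add]; ring
      rw [this]
      exact mul_mem hNx hNy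

theorem isLocalization_away_subalgebra {R S : Type*} [CommRing R] [CommRing S] [Algebra R S]
    (B : Subalgebra R S) (r : B) (hB : ∀ x : S, ∃ N, (r : S) ^ N * x ∈ B)
    (Sr : Type*) [CommRing Sr] [Algebra S Sr] [IsLocalization.Away (r : S) Sr] [Algebra B Sr]
    (halg : ∀ b : B, algebraMap B Sr b = algebraMap S Sr (b : S)) : IsLocalization.Away r Sr := by
  rw [IsLocalization.Away, isLocalization_iff]
  refine ⟨?_, ?_, ?_⟩
  · rintro ⟨_, n, rfl⟩
    rw [halg]
    simp only [SubmonoidClass.coe_pow, map_pow]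
    exact (IsLocalization.Away.algebraMap_isUnit (r : S)).pow n
  · intro z
    obtain ⟨k, x, hx⟩ := IsLocalization.Away.surj (r : S) z
    obtain ⟨N, hN⟩ := hB x
    refine ⟨(⟨(r : S) ^ N * x, hN⟩, ⟨r ^ (k + N), ⟨k + N, rfl⟩⟩), ?_⟩
    simp only
    rw [halg, halg]
    simp only [SubmonoidClass.coe_pow, map_pow, map_mul]
    rw [← hx, pow_add]; ring
  · intro x y hxy
    rw [halg, halg, IsLocalization.eq_iff_exists (Submonoid.powers (r : S))] at hxy
    obtain ⟨⟨_, n, rfl⟩, hc⟩ := hxy
    refine ⟨⟨r ^ n, ⟨n, rfl⟩⟩, Subtype.ext ?_⟩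
    simpa using hc

/-- Sections of étale algebras over `A ⧸ I` lift for a pair satisfying Gabber's condition. -/
theorem exists_algHom_lift_of_etale {A : Type u} [CommRing A] (I : Ideal A) (hG : GabberCond I)
    {S : Type u} [CommRing S] [Algebra A S] [Algebra.Etale A S] (σ : S →ₐ[A] A ⧸ I) :
    ∃ τ : S →ₐ[A] A, ∀ x, Ideal.Quotient.mk I (τ x) = σ x := by
  have hqf : Algebra.QuasiFinite A S := inferInstance
  obtain ⟨Δ, hσΔ, hΔi, hΔx⟩ := exists_integral_elem_section I σ
  obtain ⟨B, hΔB, hBfg, hBx⟩ := exists_fg_subalgebra_pow_mul_mem Δ hΔi hΔx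
  have hBfin : Module.Finite A B := ⟨(Submodule.fg_top _).mpr hBfg⟩
  let r : B := ⟨Δ, hΔB⟩
  have halg : ∀ b : B, algebraMap B (Localization.Away Δ) b =
      algebraMap S (Localization.Away Δ) (b : S) := fun _ => rfl
  have htower : IsScalarTower A B (Localization.Away Δ) := inferInstance
  have hloc : IsLocalization.Away r (Localization.Away Δ) :=
    isLocalization_away_subalgebra B r hBx (Localization.Away Δ) halg
  have hflat : Module.Flat A (Localization.Away Δ) := Algebra.Smooth.flat _ _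
  have hσΔu : IsUnit (σ Δ) := by rw [hσΔ]; exact isUnit_one
  let σ' : Localization.Away Δ →ₐ[A] A ⧸ I := IsLocalization.Away.liftAlgHom Δ (f := σ) hσΔu
  have hσ' : ∀ x : S, σ' (algebraMap S (Localization.Away Δ) x) = σ x := fun x =>
    IsLocalization.Away.lift_eq Δ hσΔu x
  obtain ⟨τB, hτB⟩ := exists_algHom_lift_of_gabber I hG (B := B) r
    (B' := Localization.Away Δ) σ'
  have hτBr : IsUnit (τB.toRingHom r) := by
    apply isUnit_of_isUnit_mk hG.1
    change IsUnit (Ideal.Quotient.mk I (τB r))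
    rw [hτB, halg, hσ', hσΔ]
    exact isUnit_one
  let τt : Localization.Away Δ →+* A := IsLocalization.Away.lift r hτBr
  have hτt : ∀ b : B, τt (algebraMap B (Localization.Away Δ) b) = τB b := fun b =>
    IsLocalization.Away.lift_eq r hτBr b
  have hcomp : (Ideal.Quotient.mk I).comp τt = σ'.toRingHom := by
    apply IsLocalization.ringHom_ext (Submonoid.powers r)
    ext b
    change Ideal.Quotient.mk I (τt (algebraMap B (Localization.Away Δ) b)) =
      σ' (algebraMap B (Localization.Away Δ) b)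
    rw [hτt, hτB]
  let τ : S →ₐ[A] A :=
    { toRingHom := τt.comp (algebraMap S (Localization.Away Δ))
      commutes' := by
        intro a
        change τt (algebraMap S (Localization.Away Δ) (algebraMap A S a)) = _
        have : algebraMap S (Localization.Away Δ) (algebraMap A S a) =
            algebraMap B (Localization.Away Δ) (algebraMap A B a) := rfl
        rw [this, hτt, AlgHom.commutes] }
  refine ⟨τ, fun x => ?_⟩
  change Ideal.Quotient.mk I (τt (algebraMap S (Localization.Away Δ) x)) = _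
  have := congrArg (fun f => f (algebraMap S (Localization.Away Δ) x)) hcomp
  simp only [RingHom.comp_apply] at this
  rw [this]
  exact hσ' x

end Helper1
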