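import Mathlib
import Groth.Agent.Lib.helper1.HenselPair

/-!
# Henselian pairs: lifting idempotents (helper1)
-/

universe u

namespace Helper1

open Polynomial TensorProduct

/-- For an integral extension, `I ≤ rad A` implies `I B ≤ rad B`. -/
theorem map_le_jacobson_of_isIntegral {A : Type*} [CommRing A] (I : Ideal A)
    (hI : I ≤ Ideal.jacobson ⊥) (B : Type*) [CommRing B] [Algebra A B] [Algebra.IsIntegral A B] :
    Ideal.map (algebraMap A B) I ≤ Ideal.jacobson ⊥ := by
  rw [Ideal.jacobson]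
  refine le_sInf ?_
  rintro 𝔫 ⟨-, h𝔫⟩
  rw [Ideal.map_le_iff_le_comap]
  have := h𝔫
  have hmax : (Ideal.comap (algebraMap A B) 𝔫).IsMaximal :=
    Ideal.isMaximal_comap_of_isIntegral_of_isMaximal (R := A) 𝔫
  refine hI.trans ?_
  rw [Ideal.jacobson]
  exact sInf_le ⟨bot_le, hmax⟩

/-- Idempotents congruent modulo the Jacobson radical are equal. -/
theorem idempotent_eq_of_sub_mem_jacobson {B : Type*} [CommRing B] {e e' : B}
    (he : IsIdempotentElem e) (he' : IsIdempotentElem e')
    (h : e - e' ∈ Ideal.jacobson (⊥ : Ideal B)) : e = e' := by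
  have he2 : e * e = e := he
  have he2' : e' * e' = e' := he'
  have h3 : (e - e') * ((e - e') * (-(e - e')) + 1) = 0 := by
    linear_combination (3 * e' - e - 1) * he2 + (e' + 1 - 3 * e) * he2'
  have hu := Ideal.mem_jacobson_bot.mp h (-(e - e'))
  exact sub_eq_zero.mp ((hu.mul_left_eq_zero).mp h3)

/-- A polynomial with coefficients in `I` evaluates into `I B`. -/
theorem aeval_mem_map_of_coeff_mem {A : Type*} [CommRing A] (I : Ideal A)
    {B : Type*} [CommRing B] [Algebra A B] (b : B) (q : A[X]) (hq : ∀ i, q.coeff i ∈ I) :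
    aeval b q ∈ Ideal.map (algebraMap A B) I := by
  rw [aeval_eq_sum_range]
  refine Ideal.sum_mem _ fun i _ => ?_
  rw [Algebra.smul_def]
  exact Ideal.mul_mem_right _ _ (Ideal.mem_map_of_mem _ (hq i))

theorem aeval_mem_map_of_map_eq_zero {A : Type*} [CommRing A] (I : Ideal A)
    {B : Type*} [CommRing B] [Algebra A B] (b : B) (q : A[X])
    (hq : q.map (Ideal.Quotient.mk I) = 0) :
    aeval b q ∈ Ideal.map (algebraMap A B) I := by
  refine aeval_mem_map_of_coeff_mem I b q fun i => ?_
  rw [← Ideal.Quotient.eq_zero_iff_mem, ← coeff_map, hq, coeff_zero]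

/-- Coprimality of monic polynomials can be checked modulo an ideal in the radical. -/
theorem isCoprime_of_isCoprime_map_mk {A : Type*} [CommRing A] (I : Ideal A)
    (hI : I ≤ Ideal.jacobson ⊥) (g h : A[X]) (hg : g.Monic) (hh : h.Monic)
    (hc : IsCoprime (g.map (Ideal.Quotient.mk I)) (h.map (Ideal.Quotient.mk I))) :
    IsCoprime g h := by
  rcases subsingleton_or_nontrivial A with hA | hA
  · exact ⟨0, 0, Subsingleton.elim _ _⟩
  have hItop : I ≠ ⊤ := by
    intro h
    have h1 : (⊥ : Ideal A).jacobson = ⊤ := top_le_iff.mp (h ▸ hI)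
    rw [Ideal.jacobson_eq_top_iff] at h1
    exact bot_ne_top h1
  have : Nontrivial (A ⧸ I) := Ideal.Quotient.nontrivial_iff.mpr hItop
  rw [← isUnit_resultant_iff_isCoprime (hg.map _)] at hc
  rw [← isUnit_resultant_iff_isCoprime hg]
  apply isUnit_of_isUnit_mk hI
  rw [← resultant_map_map]
  rwa [hg.natDegree_map, hh.natDegree_map] at hc

/-- An elementary identity on idempotents. -/
theorem eq_of_idempotent_rel {R : Type*} [CommRing R] {e b u v : R} (N : ℕ)
    (hb : IsIdempotentElem b) (h1 : e = u * b ^ (N + 1)) (h2 : 1 - e = v * (b - 1) ^ (N + 1)) :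
    e = b := by
  have hb2 : b * b = b := hb
  have hb1 : IsIdempotentElem (1 - b) := hb.one_sub
  have h3 : (b - 1) ^ (N + 1) * b = 0 := by
    rw [pow_succ, mul_assoc]
    have : (b - 1) * b = 0 := by linear_combination hb2
    rw [this, mul_zero]
  have h4 : b ^ (N + 1) * (1 - b) = 0 := by
    rw [hb.pow_succ_eq]
    linear_combination -hb2
  have h5 : e * (1 - b) = 0 := by rw [h1, mul_assoc, h4, mul_zero]
  have h6 : (1 - e) * b = 0 := by rw [h2, mul_assoc, h3, mul_zero]
  linear_combination h5 - h6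

/-- Cayley–Hamilton: an element of `I B` in a finite algebra is killed by a monic polynomial
congruent to a power of `X`. -/
theorem exists_monic_aeval_eq_zero_of_mem_map {A : Type*} [CommRing A] (I : Ideal A)
    {B : Type*} [CommRing B] [Algebra A B] [Module.Finite A B] (c : B)
    (hc : c ∈ Ideal.map (algebraMap A B) I) :
    ∃ (N : ℕ) (Q : A[X]), Q.Monic ∧ Q.map (Ideal.Quotient.mk I) = X ^ N ∧ aeval c Q = 0 := by
  set f : Module.End A B := Algebra.lmul A B c with hf
  have hI : LinearMap.range f ≤ I • ⊤ := by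
    rintro _ ⟨x, rfl⟩
    rw [Ideal.smul_top_eq_map]
    change c * x ∈ Ideal.map (algebraMap A B) I
    exact Ideal.mul_mem_right _ _ hc
  obtain ⟨Q, hQm, -, hcoeff, haeval⟩ :=
    LinearMap.exists_monic_and_natDegree_eq_and_coeff_mem_pow_and_aeval_eq_zero A f I hI
  refine ⟨Q.natDegree, Q, hQm, ?_, ?_⟩
  · ext k
    rw [coeff_map, coeff_X_pow]
    split_ifs with hk
    · rw [hk, hQm.coeff_natDegree, map_one]
    · rcases lt_or_gt_of_ne hk with h | h
      · rw [Ideal.Quotient.eq_zero_iff_mem]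
        have h1 := hcoeff k
        have h2 : Q.natDegree - k ≠ 0 := by omega
        exact Ideal.pow_le_self h2 h1
      · rw [coeff_eq_zero_of_natDegree_lt h, map_zero]
  · have h3 : Polynomial.aeval f Q = Algebra.lmul A B (Polynomial.aeval c Q) := by
      rw [hf, Polynomial.aeval_algHom_apply]
    rw [h3] at haeval
    have := congrArg (fun g : Module.End A B => g 1) haeval
    simpa using this

theorem exists_idempotent_of_monic_aeval_eq_zero {A : Type u} [CommRing A] (I : Ideal A)
    (hG : GabberCond I) {B : Type*} [CommRing B] [Algebra A B] (b : B) (N : ℕ) (Q : A[X])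
    (hQm : Q.Monic) (hQmap : Q.map (Ideal.Quotient.mk I) = X ^ N)
    (hQb : aeval (b * b - b) Q = 0) :
    ∃ e u' v' : B, IsIdempotentElem e ∧
      e - u' * b ^ (N + 1) ∈ Ideal.map (algebraMap A B) I ∧
      (1 - e) - v' * (b - 1) ^ (N + 1) ∈ Ideal.map (algebraMap A B) I := by
  rcases subsingleton_or_nontrivial A with hA | hA
  · have : Subsingleton B := Module.subsingleton A B
    exact ⟨0, 0, 0, Subsingleton.elim _ _, by simp, by simp [Subsingleton.elim (1 : B) 0]⟩
  have hXX : (X ^ 2 - X : A[X]) = X * (X - C 1) := by simp; ring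
  have hXXm : (X ^ 2 - X : A[X]).Monic := by
    rw [hXX]; exact monic_X.mul (monic_X_sub_C 1)
  have hXXd : (X ^ 2 - X : A[X]).natDegree ≠ 0 := by
    rw [hXX, Monic.natDegree_mul monic_X (monic_X_sub_C 1), natDegree_X, natDegree_X_sub_C]
    norm_num
  set P : A[X] := (X * Q).comp (X ^ 2 - X) with hP
  have hPm : P.Monic := (monic_X.mul hQm).comp hXXm hXXd
  have hPb : aeval b P = 0 := by
    rw [hP, aeval_comp, map_sub, map_pow, aeval_X, map_mul, aeval_X, pow_two, hQb, mul_zero]
  have hPmap : P.map (Ideal.Quotient.mk I) = X ^ (N + 1) * (X - 1) ^ (N + 1) := by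
    rw [hP, Polynomial.map_comp, Polynomial.map_mul, hQmap, map_X, ← pow_succ', X_pow_comp,
      Polynomial.map_sub, Polynomial.map_pow, map_X, ← mul_pow]
    congr 1; ring
  have hX1m : (X - 1 : (A ⧸ I)[X]).Monic := by simpa using monic_X_sub_C (1 : A ⧸ I)
  have hcop0 : IsCoprime (X : (A ⧸ I)[X]) (X - 1) := ⟨1, -1, by ring⟩
  obtain ⟨g, h, hgm, hhm, hfac, hgmap, hhmap⟩ :=
    monic_factor_lift_of_gabber I hG P hPm (X ^ (N + 1)) ((X - 1) ^ (N + 1)) (monic_X_pow _)
      (hX1m.pow _) (hcop0.pow) hPmap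
  have hcop : IsCoprime g h := by
    apply isCoprime_of_isCoprime_map_mk I hG.1 g h hgm hhm
    rw [hgmap, hhmap]; exact hcop0.pow
  obtain ⟨u, v, huv⟩ := hcop
  have h1 : aeval b (u * g) + aeval b (v * h) = 1 := by
    rw [← map_add, huv, map_one]
  have h2 : aeval b (u * g) * aeval b (v * h) = 0 := by
    have : (u * g) * (v * h) = (u * v) * P := by rw [hfac]; ring
    rw [← map_mul, this, map_mul, hPb, mul_zero]
  refine ⟨aeval b (u * g), aeval b u, aeval b v, ?_, ?_, ?_⟩
  · change aeval b (u * g) * aeval b (u * g) = aeval b (u * g)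
    linear_combination (aeval b (u * g)) * h1 - h2
  · have : aeval b (u * g) - aeval b u * b ^ (N + 1) = aeval b u * aeval b (g - X ^ (N + 1)) := by
      simp only [map_mul, map_sub, map_pow, aeval_X]; ring
    rw [this]
    refine Ideal.mul_mem_left _ _ (aeval_mem_map_of_map_eq_zero I b _ ?_)
    rw [Polynomial.map_sub, hgmap, Polynomial.map_pow, map_X, sub_self]
  · have h3 : 1 - aeval b (u * g) = aeval b (v * h) := by linear_combination (-1 : B) * h1
    have : 1 - aeval b (u * g) - aeval b v * (b - 1) ^ (N + 1) =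
        aeval b v * aeval b (h - (X - 1) ^ (N + 1)) := by
      rw [h3]
      simp only [map_mul, map_sub, map_pow, aeval_X, map_one]; ring
    rw [this]
    refine Ideal.mul_mem_left _ _ (aeval_mem_map_of_map_eq_zero I b _ ?_)
    rw [Polynomial.map_sub, hhmap, Polynomial.map_pow, Polynomial.map_sub, map_X,
      Polynomial.map_one, sub_self]

/-- Idempotents lift along `B → B / I B` for a finite algebra over a pair satisfying
Gabber's condition. -/
theorem exists_idempotent_lift_of_gabber {A : Type u} [CommRing A] (I : Ideal A)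
    (hG : GabberCond I) {B : Type*} [CommRing B] [Algebra A B] [Module.Finite A B] (b : B)
    (hb : b * b - b ∈ Ideal.map (algebraMap A B) I) :
    ∃ e : B, IsIdempotentElem e ∧ e - b ∈ Ideal.map (algebraMap A B) I := by
  obtain ⟨N, Q, hQm, hQmap, hQb⟩ := exists_monic_aeval_eq_zero_of_mem_map I (b * b - b) hb
  obtain ⟨e, u', v', he, h1, h2⟩ := exists_idempotent_of_monic_aeval_eq_zero I hG b N Q hQm hQmap hQb
  refine ⟨e, he, ?_⟩
  set π := Ideal.Quotient.mk (Ideal.map (algebraMap A B) I) with hπ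
  have hπb : IsIdempotentElem (π b) := by
    change π b * π b = π b
    rw [← sub_eq_zero, ← map_mul, ← map_sub, hπ, Ideal.Quotient.eq_zero_iff_mem]
    exact hb
  have h1' : π e = π u' * π b ^ (N + 1) := by
    rw [← sub_eq_zero, ← map_pow, ← map_mul, ← map_sub, hπ, Ideal.Quotient.eq_zero_iff_mem]
    exact h1
  have h2' : 1 - π e = π v' * (π b - 1) ^ (N + 1) := by
    rw [← sub_eq_zero, ← map_one π, ← map_sub, ← map_sub, ← map_pow, ← map_mul, ← map_sub, hπ,
      Ideal.Quotient.eq_zero_iff_mem]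
    exact h2
  have := eq_of_idempotent_rel N hπb h1' h2'
  rw [← sub_eq_zero, ← map_sub, hπ, Ideal.Quotient.eq_zero_iff_mem] at this
  exact this

/-- If `I ≤ rad A` and idempotents lift along `B → B/IB` for `B = A[X]/(f)`, `f` monic, then
`(A, I)` is a henselian pair. -/
theorem henselianRing_of_idempotent_lift {A : Type*} [CommRing A] (I : Ideal A)
    (hI : I ≤ Ideal.jacobson ⊥)
    (hlift : ∀ f : A[X], f.Monic → ∀ b : AdjoinRoot f,
      b * b - b ∈ Ideal.map (algebraMap A (AdjoinRoot f)) I →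
      ∃ e : AdjoinRoot f, IsIdempotentElem e ∧
        e - b ∈ Ideal.map (algebraMap A (AdjoinRoot f)) I) :
    HenselianRing A I := by
  refine ⟨hI, ?_⟩
  intro f hf a₀ h₁ h₂
  have hfin : Module.Finite A (AdjoinRoot f) := hf.finite_adjoinRoot
  have hfree : Module.Free A (AdjoinRoot f) := hf.free_adjoinRoot
  set t : AdjoinRoot f := AdjoinRoot.root f with ht
  set IB : Ideal (AdjoinRoot f) := Ideal.map (algebraMap A (AdjoinRoot f)) I with hIB
  set ā := Ideal.Quotient.mk I a₀ with hā
  have hmkeval : ∀ q : A[X], aeval ā q = Ideal.Quotient.mk I (q.eval a₀) := by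
    intro q
    rw [aeval_def, Ideal.Quotient.algebraMap_eq, hā, eval₂_at_apply]
  have hroot0 : f.eval₂ (Algebra.ofId A (A ⧸ I)) ā = 0 := by
    have := hmkeval f
    rw [aeval_def] at this
    rw [show ((Algebra.ofId A (A ⧸ I) : A →ₐ[A] A ⧸ I) : A →+* A ⧸ I) = algebraMap A (A ⧸ I) from rfl,
      this, Ideal.Quotient.eq_zero_iff_mem]
    exact h₁
  let σ : AdjoinRoot f →ₐ[A] A ⧸ I := AdjoinRoot.liftAlgHom f (Algebra.ofId A (A ⧸ I)) ā hroot0
  have hσt : σ t = ā := AdjoinRoot.liftAlgHom_root _ _ _ _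
  have hσq : ∀ q : A[X], σ (aeval t q) = Ideal.Quotient.mk I (q.eval a₀) := by
    intro q
    rw [← aeval_algHom_apply, hσt, hmkeval]
  have hσIB : ∀ x ∈ IB, σ x = 0 := by
    intro x hx
    have : IB ≤ RingHom.ker σ.toRingHom := by
      rw [hIB, Ideal.map_le_iff_le_comap]
      intro a ha
      rw [Ideal.mem_comap, RingHom.mem_ker]
      change σ (algebraMap A _ a) = 0
      rw [AlgHom.commutes, Ideal.Quotient.algebraMap_eq, Ideal.Quotient.eq_zero_iff_mem]
      exact ha
    exact this hx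
  set fb := f.map (Ideal.Quotient.mk I) with hfb
  have hroot : fb.IsRoot ā := by
    change fb.eval ā = 0
    rw [hfb, hā, eval_map, eval₂_at_apply, Ideal.Quotient.eq_zero_iff_mem]
    exact h₁
  set h₀ := fb /ₘ (X - C ā) with hh₀
  have hfac : (X - C ā) * h₀ = fb := mul_divByMonic_eq_iff_isRoot.mpr hroot
  have hder0 : h₀.eval ā = fb.derivative.eval ā := by
    rw [← hfac, derivative_mul]; simp
  have hder : h₀.eval ā = Ideal.Quotient.mk I (f.derivative.eval a₀) := by
    rw [hder0, hfb, derivative_map, eval_map, hā, eval₂_at_apply]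
  obtain ⟨H, hH⟩ := map_surjective (Ideal.Quotient.mk I) Ideal.Quotient.mk_surjective h₀
  obtain ⟨vb, hvb⟩ := h₂.exists_left_inv
  obtain ⟨w, rfl⟩ := Ideal.Quotient.mk_surjective vb
  set TH := aeval t H with hTH
  have htf : aeval t f = 0 := by rw [AdjoinRoot.aeval_eq, AdjoinRoot.mk_self]
  have hi : (t - algebraMap A _ a₀) * TH ∈ IB := by
    have h1 : (t - algebraMap A _ a₀) * TH = aeval t ((X - C a₀) * H - f) := by
      rw [map_sub, htf, sub_zero, map_mul, map_sub, aeval_X, aeval_C]
    rw [h1]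
    refine aeval_mem_map_of_map_eq_zero I t _ ?_
    rw [Polynomial.map_sub, Polynomial.map_mul, Polynomial.map_sub, map_X, map_C, hH, ← hā, hfac,
      sub_self]
  have hii : ∀ q : A[X], aeval t q * TH - q.eval a₀ • TH ∈ IB := by
    intro q
    obtain ⟨q', hq'⟩ := X_sub_C_dvd_sub_C_eval (a := a₀) (p := q)
    have h1 : aeval t q - algebraMap A _ (q.eval a₀) = (t - algebraMap A _ a₀) * aeval t q' := by
      have := congrArg (aeval t) hq'
      simpa using this
    have h2 : aeval t q * TH - q.eval a₀ • TH = aeval t q' * ((t - algebraMap A _ a₀) * TH) := by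
      rw [Algebra.smul_def, ← sub_mul, h1]; ring
    rw [h2]
    exact Ideal.mul_mem_left _ _ hi
  have hHa : Ideal.Quotient.mk I (H.eval a₀) = h₀.eval ā := by
    rw [← hH, eval_map, hā, eval₂_at_apply]
  have hwH : w * H.eval a₀ - 1 ∈ I := by
    rw [← Ideal.Quotient.eq_zero_iff_mem, map_sub, map_mul, hHa, hder, hvb, map_one, sub_self]
  have hidem : (w • TH) * (w • TH) - w • TH ∈ IB := by
    have h1 : (w • TH) * (w • TH) - w • TH =
        algebraMap A _ (w * w) * (TH * TH - H.eval a₀ • TH) +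
          algebraMap A _ (w * H.eval a₀ - 1) * (w • TH) := by
      simp only [Algebra.smul_def, map_mul, map_sub, map_one]; ring
    rw [h1]
    exact add_mem (Ideal.mul_mem_left _ _ (hii H))
      (Ideal.mul_mem_right _ _ (Ideal.mem_map_of_mem _ hwH))
  obtain ⟨e, he, hee⟩ := hlift f hf (w • TH) hidem
  have hσe : σ e = 1 := by
    have h1 : σ (e - w • TH) = 0 := hσIB _ hee
    rw [map_sub, sub_eq_zero] at h1
    rw [h1, map_smul, hTH, hσq, Algebra.smul_def, Ideal.Quotient.algebraMap_eq, hHa, hder, hvb]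
  have hker : ∀ j : AdjoinRoot f, σ ((AlgHom.id A _) j) = 0 →
      ∃ w' ∈ Ideal.map (algebraMap A (AdjoinRoot f)) I, j * e = w' * e := by
    intro j hj
    refine ⟨j * e, ?_, by rw [mul_assoc, he.eq]⟩
    obtain ⟨q, rfl⟩ := AdjoinRoot.mk_surjective j
    rw [AlgHom.id_apply, ← AdjoinRoot.aeval_eq, ← ht, hσq, Ideal.Quotient.eq_zero_iff_mem] at hj
    rw [← AdjoinRoot.aeval_eq, ← ht]
    have h1 : aeval t q * e = aeval t q * (e - w • TH) +
        algebraMap A _ w * (aeval t q * TH - q.eval a₀ • TH) +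
        algebraMap A _ (q.eval a₀) * (w • TH) := by
      simp only [Algebra.smul_def]; ring
    rw [h1]
    exact add_mem (add_mem (Ideal.mul_mem_left _ _ hee) (Ideal.mul_mem_left _ _ (hii q)))
      (Ideal.mul_mem_right _ _ (Ideal.mem_map_of_mem _ hj))
  obtain ⟨τ, -, hτ⟩ := exists_algHom_of_idempotent I hI (AlgHom.id A (AdjoinRoot f)) σ e he hσe hker
  refine ⟨τ t, ?_, ?_⟩
  · change f.eval (τ t) = 0
    rw [← coe_aeval_eq_eval, aeval_algHom_apply, htf, map_zero]
  · rw [← Ideal.Quotient.eq_zero_iff_mem, map_sub, hτ, AlgHom.id_apply, hσt, sub_self]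

end Helper1
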