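import Mathlib
import Groth.Agent.Lib.helper1.HenselIdem

universe u

namespace Helper1

open Polynomial TensorProduct

/-- An element of `I B` already lies in `I S` for a finitely generated subalgebra `S`. -/
theorem exists_fg_subalgebra_mem_smul {A : Type*} [CommRing A] (I : Ideal A)
    {B : Type*} [CommRing B] [Algebra A B] (c : B)
    (hc : c ∈ Ideal.map (algebraMap A B) I) :
    ∃ S : Subalgebra A B, S.FG ∧ c ∈ I • (Subalgebra.toSubmodule S) := by
  have hc' : c ∈ (I • (⊤ : Submodule A B)) := by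
    rw [Ideal.smul_top_eq_map]; exact hc
  induction hc' using Submodule.smul_induction_on' with
  | smul r hr n hn =>
    refine ⟨Algebra.adjoin A {n}, by simpa using Subalgebra.fg_adjoin_finset (R := A) ({n} : Finset B), ?_⟩
    exact Submodule.smul_mem_smul hr (Algebra.subset_adjoin (Set.mem_singleton n))
  | add x hx y hy ihx ihy =>
    have hx' : x ∈ Ideal.map (algebraMap A B) I := by
      have := hx; rw [Ideal.smul_top_eq_map] at this; exact this
    have hy' : y ∈ Ideal.map (algebraMap A B) I := by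
      have := hy; rw [Ideal.smul_top_eq_map] at this; exact this
    obtain ⟨S₁, h1, h1'⟩ := ihx hx'
    obtain ⟨S₂, h2, h2'⟩ := ihy hy'
    refine ⟨S₁ ⊔ S₂, h1.sup h2, ?_⟩
    exact add_mem (Submodule.smul_mono (le_refl I) (show Subalgebra.toSubmodule S₁ ≤
      Subalgebra.toSubmodule (S₁ ⊔ S₂) from fun z hz => (le_sup_left : S₁ ≤ S₁ ⊔ S₂) hz) h1')
      (Submodule.smul_mono (le_refl I) (show Subalgebra.toSubmodule S₂ ≤
      Subalgebra.toSubmodule (S₁ ⊔ S₂) from fun z hz => (le_sup_right : S₂ ≤ S₁ ⊔ S₂) hz) h2')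

/-- Idempotents lift along `B → B / I B` for an integral algebra over a pair satisfying
Gabber's condition. -/
theorem exists_idempotent_lift_of_gabber_of_isIntegral {A : Type u} [CommRing A] (I : Ideal A)
    (hG : GabberCond I) {B : Type*} [CommRing B] [Algebra A B] [Algebra.IsIntegral A B] (b : B)
    (hb : b * b - b ∈ Ideal.map (algebraMap A B) I) :
    ∃ e : B, IsIdempotentElem e ∧ e - b ∈ Ideal.map (algebraMap A B) I := by
  obtain ⟨S₀, hS₀, hcS₀⟩ := exists_fg_subalgebra_mem_smul I _ hb
  set S : Subalgebra A B := S₀ ⊔ Algebra.adjoin A {b} with hS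
  have hSfg : S.FG := hS₀.sup (by simpa using Subalgebra.fg_adjoin_finset ({b} : Finset B))
  have hbS : b ∈ S := (le_sup_right : Algebra.adjoin A {b} ≤ S) (Algebra.subset_adjoin rfl)
  have hcS : b * b - b ∈ I • (Subalgebra.toSubmodule S) :=
    Submodule.smul_mono (le_refl I) (show Subalgebra.toSubmodule S₀ ≤
      Subalgebra.toSubmodule S from fun z hz => (le_sup_left : S₀ ≤ S) hz) hcS₀
  have : Algebra.FiniteType A S := (Subalgebra.fg_iff_finiteType S).mp hSfg
  have : Algebra.IsIntegral A S :=
    Algebra.IsIntegral.of_injective S.val Subtype.val_injective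
  have : Module.Finite A S := Algebra.IsIntegral.finite
  let b₀ : S := ⟨b, hbS⟩
  have hb₀ : b₀ * b₀ - b₀ ∈ Ideal.map (algebraMap A S) I := by
    have h1 : Subalgebra.toSubmodule S = Submodule.map S.val.toLinearMap ⊤ := by
      rw [Submodule.map_top]
      ext z
      simp
    rw [h1, ← Submodule.map_smul''] at hcS
    obtain ⟨c₀, hc₀, hc₀'⟩ := hcS
    have h2 : c₀ = b₀ * b₀ - b₀ := Subtype.ext hc₀'
    rw [← h2]
    have h3 := hc₀
    rw [SetLike.mem_coe, Ideal.smul_top_eq_map] at h3
    exact h3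
  obtain ⟨e₀, he₀, hee₀⟩ := exists_idempotent_lift_of_gabber I hG b₀ hb₀
  refine ⟨(e₀ : B), ?_, ?_⟩
  · have := congrArg (Subtype.val) he₀.eq
    exact this
  · have h4 := Ideal.mem_map_of_mem S.val.toRingHom hee₀
    rw [Ideal.map_map] at h4
    have h5 : S.val.toRingHom.comp (algebraMap A S) = algebraMap A B := by
      ext a; rfl
    rw [h5] at h4
    exact h4

end Helper1
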