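import Mathlib
import Groth.Agent.Lib.helper1.HenselEtale
import Groth.Agent.Lib.helper1.HenselIdem
import Groth.Agent.S0526

universe u

namespace Helper1

open Polynomial TensorProduct

/-- Two algebra maps out of an unramified algebra which agree modulo an ideal contained in the
Jacobson radical are equal. -/
theorem algHom_eq_of_sub_mem_jacobson {A : Type*} [CommRing A] {B₁ B₂ : Type*} [CommRing B₁]
    [CommRing B₂] [Algebra A B₁] [Algebra A B₂] [Algebra.FormallyUnramified A B₁]
    [Algebra.EssFiniteType A B₁] (J : Ideal B₂) (hJ : J ≤ Ideal.jacobson ⊥)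
    (φ ψ : B₁ →ₐ[A] B₂) (h : ∀ b, φ b - ψ b ∈ J) : φ = ψ := by
  let Θ : B₁ ⊗[A] B₁ →ₐ[A] B₂ := Algebra.TensorProduct.productMap φ ψ
  have hΘ : ∀ z : B₁ ⊗[A] B₁, Θ z - φ (Algebra.TensorProduct.lmul' A z) ∈ J := by
    intro z
    induction z using TensorProduct.induction_on with
    | zero => simp
    | tmul x y =>
      have : Θ (x ⊗ₜ y) - φ (Algebra.TensorProduct.lmul' A (x ⊗ₜ y)) = -(φ x * (φ y - ψ y)) := by
        simp only [Θ, Algebra.TensorProduct.productMap_apply_tmul,
          Algebra.TensorProduct.lmul'_apply_tmul, map_mul]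
        ring
      rw [this]
      exact neg_mem (Ideal.mul_mem_left _ _ (h y))
    | add x y hx hy =>
      have : Θ (x + y) - φ (Algebra.TensorProduct.lmul' A (x + y)) =
          (Θ x - φ (Algebra.TensorProduct.lmul' A x)) +
            (Θ y - φ (Algebra.TensorProduct.lmul' A y)) := by
        simp only [map_add]; ring
      rw [this]
      exact add_mem hx hy
  set t := Algebra.FormallyUnramified.elem A B₁ with ht
  have h1 : Θ t - 1 ∈ J := by
    have := hΘ t
    rwa [Algebra.FormallyUnramified.lmul_elem, map_one] at this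
  have hu : IsUnit (Θ t) := by
    have h2 := Ideal.mem_jacobson_bot.mp (hJ h1) 1
    simpa using h2
  ext s
  have h3 := congrArg Θ (Algebra.FormallyUnramified.one_tmul_mul_elem (R := A) (S := B₁) s)
  rw [map_mul, map_mul] at h3
  simp only [Θ, Algebra.TensorProduct.productMap_apply_tmul, map_one, one_mul, mul_one] at h3
  exact (hu.mul_left_inj.mp h3).symm

/-- Lifting algebra maps from an étale algebra to a finite (integral) algebra over a henselian
pair. -/
theorem exists_algHom_lift_of_etale_of_isIntegral {A : Type u} [CommRing A] (I : Ideal A)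
    [HenselianRing A I] {B₁ B₂ : Type u} [CommRing B₁] [CommRing B₂] [Algebra A B₁] [Algebra A B₂]
    [Algebra.Etale A B₁] [Algebra.IsIntegral A B₂]
    (ψ : B₁ →ₐ[A] B₂ ⧸ Ideal.map (algebraMap A B₂) I) :
    ∃ φ : B₁ →ₐ[A] B₂, ∀ b, Ideal.Quotient.mk (Ideal.map (algebraMap A B₂) I) (φ b) = ψ b := by
  have hB₂ : HenselianRing B₂ (Ideal.map (algebraMap A B₂) I) := Groth.Agent.S0526.result A I B₂
  let σ : B₂ ⊗[A] B₁ →ₐ[B₂] B₂ ⧸ Ideal.map (algebraMap A B₂) I :=
    Algebra.TensorProduct.lift (Algebra.ofId B₂ _) ψ (fun _ _ => Commute.all _ _)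
  obtain ⟨τ, hτ⟩ := exists_algHom_lift_of_etale (Ideal.map (algebraMap A B₂) I)
    (gabberCond_of_henselianRing _) σ
  refine ⟨(τ.restrictScalars A).comp Algebra.TensorProduct.includeRight, fun b => ?_⟩
  change Ideal.Quotient.mk _ (τ (1 ⊗ₜ b)) = _
  rw [hτ]
  simp [σ]

end Helper1
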