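import Mathlib
import Groth.Agent.Lib.helper1.EtaleNbhd
import Groth.Agent.Lib.helper1.HenselEtale
import Groth.Agent.Lib.helper1.HenselFEt

/-!
# Sections modulo an ideal and localization at the units of the section (helper1)

For an `A`-algebra `E` with an `A`-algebra map `σ : E → A ⧸ I` we localize `E` at the elements
which `σ` maps to units; the result has `I · Loc` inside its Jacobson radical.
-/

universe u

namespace Helper1

open Polynomial TensorProduct

section SectionLoc

variable {A : Type*} [CommRing A] (I : Ideal A) {E : Type*} [CommRing E] [Algebra A E]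
  (σ : E →ₐ[A] A ⧸ I)

/-- If `ker σ = I E` then any two `A`-algebra maps from `E` to an algebra killed by `I` agree. -/
theorem algHom_eq_of_ker_eq (hker : RingHom.ker σ = I.map (algebraMap A E)) {D : Type*}
    [CommRing D] [Algebra A D] (hD : ∀ a ∈ I, algebraMap A D a = 0) (χ χ' : E →ₐ[A] D) :
    χ = χ' := by
  have h2 : ∀ (ψ : E →ₐ[A] D) x, x ∈ I.map (algebraMap A E) → ψ x = 0 := by
    intro ψ x hx
    have hle : I.map (algebraMap A E) ≤ RingHom.ker (ψ : E →+* D) := by
      rw [Ideal.map_le_iff_le_comap]
      intro a ha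
      rw [Ideal.mem_comap, RingHom.mem_ker]
      change ψ (algebraMap A E a) = 0
      rw [AlgHom.commutes]
      exact hD a ha
    exact hle hx
  ext e
  obtain ⟨a, ha⟩ := Ideal.Quotient.mk_surjective (σ e)
  have h1 : e - algebraMap A E a ∈ I.map (algebraMap A E) := by
    rw [← hker, RingHom.mem_ker, map_sub, AlgHom.commutes, Ideal.Quotient.algebraMap_eq, ha,
      sub_self]
  have e1 := h2 χ _ h1
  have e2 := h2 χ' _ h1
  rw [map_sub, AlgHom.commutes, sub_eq_zero] at e1 e2
  rw [e1, e2]

/-- The submonoid of elements which the section maps to units. -/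
def unitsSub : Submonoid E where
  carrier := {x | IsUnit (σ x)}
  one_mem' := by
    change IsUnit (σ 1)
    rw [map_one]
    exact isUnit_one
  mul_mem' := by
    intro a b ha hb
    change IsUnit (σ (a * b))
    rw [map_mul]
    exact IsUnit.mul ha hb

theorem mem_unitsSub {x : E} : x ∈ unitsSub I σ ↔ IsUnit (σ x) := Iff.rfl

/-- The localization of `E` at the elements whose image under the section is a unit. -/
abbrev Loc : Type _ := Localization (unitsSub I σ)

/-- The extension of the section to the localization. -/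
noncomputable def locSection : Loc I σ →ₐ[A] A ⧸ I :=
  IsLocalization.liftAlgHom (M := unitsSub I σ) (f := σ)
    (fun y => (mem_unitsSub I σ).mp y.2)

@[simp]
theorem locSection_algebraMap (x : E) :
    locSection I σ (algebraMap E (Loc I σ) x) = σ x :=
  IsLocalization.lift_eq _ x

theorem isUnit_of_isUnit_locSection (z : Loc I σ) (hz : IsUnit (locSection I σ z)) :
    IsUnit z := by
  obtain ⟨⟨e, m⟩, h⟩ := IsLocalization.surj (unitsSub I σ) z
  have h0 := congrArg (locSection I σ) h
  rw [map_mul, locSection_algebraMap, locSection_algebraMap] at h0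
  have h1 : IsUnit (σ e) := by
    rw [← h0]
    exact hz.mul ((mem_unitsSub I σ).mp m.2)
  have h2 : IsUnit (algebraMap E (Loc I σ) e) :=
    IsLocalization.map_units _ (⟨e, (mem_unitsSub I σ).mpr h1⟩ : unitsSub I σ)
  rw [← h] at h2
  exact isUnit_of_mul_isUnit_left h2

theorem ker_locSection (hker : RingHom.ker σ = I.map (algebraMap A E)) :
    RingHom.ker (locSection I σ) = I.map (algebraMap A (Loc I σ)) := by
  apply le_antisymm
  · intro z hz
    rw [RingHom.mem_ker] at hz
    obtain ⟨⟨e, m⟩, h⟩ := IsLocalization.surj (unitsSub I σ) z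
    have h0 := congrArg (locSection I σ) h
    rw [map_mul, locSection_algebraMap, locSection_algebraMap, hz, zero_mul] at h0
    have he' : e ∈ I.map (algebraMap A E) := by
      rw [← hker, RingHom.mem_ker]
      exact h0.symm
    have h3 : algebraMap E (Loc I σ) e ∈ I.map (algebraMap A (Loc I σ)) := by
      have := Ideal.mem_map_of_mem (algebraMap E (Loc I σ)) he'
      rwa [Ideal.map_map, ← IsScalarTower.algebraMap_eq] at this
    rw [← h] at h3
    exact (Ideal.mul_unit_mem_iff_mem _ (IsLocalization.map_units _ m)).mp h3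
  · rw [Ideal.map_le_iff_le_comap]
    intro a ha
    rw [Ideal.mem_comap, RingHom.mem_ker, AlgHom.commutes, Ideal.Quotient.algebraMap_eq,
      Ideal.Quotient.eq_zero_iff_mem]
    exact ha

theorem ker_locSection_le_jacobson :
    RingHom.ker (locSection I σ) ≤ Ideal.jacobson ⊥ := by
  intro x hx
  rw [RingHom.mem_ker] at hx
  rw [Ideal.mem_jacobson_bot]
  intro y
  apply isUnit_of_isUnit_locSection
  rw [map_add, map_mul, hx, zero_mul, zero_add, map_one]
  exact isUnit_one

theorem locSection_surjective : Function.Surjective (locSection I σ) := by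
  intro z
  obtain ⟨a, rfl⟩ := Ideal.Quotient.mk_surjective z
  exact ⟨algebraMap A _ a, by rw [AlgHom.commutes, Ideal.Quotient.algebraMap_eq]⟩

variable {E' : Type*} [CommRing E'] [Algebra A E'] (σ' : E' →ₐ[A] A ⧸ I)

/-- A map `E → Loc σ'` compatible with sections induces a map of localizations. -/
noncomputable def locMap (ψ : E →ₐ[A] Loc I σ')
    (hψ : ∀ x, locSection I σ' (ψ x) = σ x) : Loc I σ →ₐ[A] Loc I σ' :=
  IsLocalization.liftAlgHom (M := unitsSub I σ) (f := ψ)
    (fun y => isUnit_of_isUnit_locSection I σ' _ (by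
      rw [hψ]
      exact (mem_unitsSub I σ).mp y.2))

@[simp]
theorem locMap_algebraMap (ψ : E →ₐ[A] Loc I σ')
    (hψ : ∀ x, locSection I σ' (ψ x) = σ x) (x : E) :
    locMap I σ σ' ψ hψ (algebraMap E (Loc I σ) x) = ψ x :=
  IsLocalization.lift_eq _ x

/-- Compatibility with sections is automatic when `ker σ = I E`. -/
theorem locSection_comp_eq (hker : RingHom.ker σ = I.map (algebraMap A E))
    (ψ : E →ₐ[A] Loc I σ') (x : E) : locSection I σ' (ψ x) = σ x := by
  have := algHom_eq_of_ker_eq I σ hker (D := A ⧸ I)
    (fun a ha => by rw [Ideal.Quotient.algebraMap_eq]; exact Ideal.Quotient.eq_zero_iff_mem.mpr ha)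
    ((locSection I σ').comp ψ) σ
  exact AlgHom.congr_fun this x

/-- Any `A`-algebra map `Loc σ → A ⧸ I` is the extended section, when `ker σ = I E`. -/
theorem algHom_loc_eq_locSection (hker : RingHom.ker σ = I.map (algebraMap A E))
    (χ : Loc I σ →ₐ[A] A ⧸ I) : χ = locSection I σ := by
  apply IsLocalization.algHom_ext (unitsSub I σ)
  exact algHom_eq_of_ker_eq I σ hker
    (fun a ha => by rw [Ideal.Quotient.algebraMap_eq]; exact Ideal.Quotient.eq_zero_iff_mem.mpr ha)
    _ _

theorem loc_algHom_subsingleton [Algebra.FormallyUnramified A E] [Algebra.EssFiniteType A E]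
    (hker : RingHom.ker σ = I.map (algebraMap A E)) (φ ψ : Loc I σ →ₐ[A] Loc I σ') : φ = ψ := by
  apply IsLocalization.algHom_ext (unitsSub I σ)
  apply algHom_eq_of_sub_mem_jacobson (RingHom.ker (locSection I σ'))
    (ker_locSection_le_jacobson I σ')
  intro b
  rw [RingHom.mem_ker, map_sub, sub_eq_zero]
  have := algHom_eq_of_ker_eq I σ hker (D := A ⧸ I)
    (fun a ha => by rw [Ideal.Quotient.algebraMap_eq]; exact Ideal.Quotient.eq_zero_iff_mem.mpr ha)
    ((locSection I σ').comp (φ.comp (Algebra.algHom A E (Loc I σ))))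
    ((locSection I σ').comp (ψ.comp (Algebra.algHom A E (Loc I σ))))
  exact AlgHom.congr_fun this b

end SectionLoc

end Helper1
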