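import Mathlib
import Groth.Agent.Lib.helper1.HensLoc

/-!
# Étale neighbourhoods: universal property, roots of Gabber polynomials (helper1)
-/

universe u

namespace Helper1

open Polynomial TensorProduct

section Universal

variable {A : Type u} [CommRing A] (I : Ideal A) {E : Type u} [CommRing E] [Algebra A E]
  [Algebra.Etale A E] (σ : E →ₐ[A] A ⧸ I)

theorem exists_algHom_loc_of_henselian (C : Type u) [CommRing C] [Algebra A C] (J : Ideal C)
    [HenselianRing C J] (hIJ : I.map (algebraMap A C) ≤ J) : Nonempty (Loc I σ →ₐ[A] C) := by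
  have hJjac : J ≤ Ideal.jacobson ⊥ := HenselianRing.jac
  let φbar : A ⧸ I →ₐ[A] C ⧸ J := Ideal.Quotient.liftₐ I (Algebra.ofId A (C ⧸ J)) (by
    intro a ha
    change algebraMap A (C ⧸ J) a = 0
    rw [IsScalarTower.algebraMap_apply A C (C ⧸ J), Ideal.Quotient.algebraMap_eq,
      Ideal.Quotient.eq_zero_iff_mem]
    exact hIJ (Ideal.mem_map_of_mem _ ha))
  let s : C ⊗[A] E →ₐ[C] C ⧸ J :=
    Algebra.TensorProduct.lift (Algebra.ofId C (C ⧸ J)) (φbar.comp σ) (fun _ _ => Commute.all _ _)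
  obtain ⟨τ, hτ⟩ := exists_algHom_lift_of_etale J (gabberCond_of_henselianRing J) s
  let g₀ : E →ₐ[A] C := (τ.restrictScalars A).comp Algebra.TensorProduct.includeRight
  have hg₀ : ∀ e, Ideal.Quotient.mk J (g₀ e) = φbar (σ e) := by
    intro e
    change Ideal.Quotient.mk J (τ (1 ⊗ₜ e)) = _
    rw [hτ]
    simp [s]
  have hunit : ∀ y : unitsSub I σ, IsUnit (g₀ y) := by
    intro y
    apply isUnit_of_isUnit_mk hJjac
    rw [hg₀]
    exact ((mem_unitsSub I σ).mp y.2).map φbar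
  exact ⟨IsLocalization.liftAlgHom (M := unitsSub I σ) (f := g₀) hunit⟩

theorem algHom_loc_eq_of_henselian (hker : RingHom.ker σ = I.map (algebraMap A E))
    (C : Type u) [CommRing C] [Algebra A C] (J : Ideal C)
    [HenselianRing C J] (hIJ : I.map (algebraMap A C) ≤ J) (g g' : Loc I σ →ₐ[A] C) : g = g' := by
  apply IsLocalization.algHom_ext (unitsSub I σ)
  apply algHom_eq_of_sub_mem_jacobson J HenselianRing.jac
  intro b
  rw [← Ideal.Quotient.eq]
  have := algHom_eq_of_ker_eq I σ hker (D := C ⧸ J)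
    (fun a ha => by
      rw [IsScalarTower.algebraMap_apply A C (C ⧸ J), Ideal.Quotient.algebraMap_eq,
        Ideal.Quotient.eq_zero_iff_mem]
      exact hIJ (Ideal.mem_map_of_mem _ ha))
    ((Ideal.Quotient.mkₐ A J).comp (g.comp (Algebra.algHom A E (Loc I σ))))
    ((Ideal.Quotient.mkₐ A J).comp (g'.comp (Algebra.algHom A E (Loc I σ))))
  exact AlgHom.congr_fun this b

end Universal

section Factor

theorem of_section (A : Type u) [CommRing A] (I : Ideal A) (R' : Type u) [CommRing R']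
    [Algebra A R'] [Algebra.Etale A R'] (σ' : R' →ₐ[A] A ⧸ I) (a_u : A)
    (hau : IsUnit (Ideal.Quotient.mk I a_u)) :
    ∃ (A' : Type u) (_ : CommRing A') (_ : Algebra A A') (_ : Algebra.Etale A A')
      (φ : R' →ₐ[A] A') (σ : A' →ₐ[A] A ⧸ I), (∀ x, σ (φ x) = σ' x) ∧
      RingHom.ker σ = I.map (algebraMap A A') ∧ IsUnit (algebraMap A A' a_u) := by
  obtain ⟨ε₀, hε₀1, hε₀2⟩ := Helper1.exists_elem_of_unramified I σ'
  have hε1 : IsUnit (σ' (ε₀ * algebraMap A R' a_u)) := by
    rw [map_mul, hε₀1, one_mul, AlgHom.commutes, Ideal.Quotient.algebraMap_eq]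
    exact hau
  have hε2 : ∀ s, σ' s = 0 → s * (ε₀ * algebraMap A R' a_u) ∈ Ideal.map (algebraMap A R') I := by
    intro s hs
    rw [← mul_assoc]
    exact Ideal.mul_mem_right _ _ (hε₀2 s hs)
  obtain ⟨σ'', hσ'', hker⟩ := Helper1.exists_section_localization I σ' _ hε1 hε2
  have hau' : IsUnit (algebraMap A (Localization.Away (ε₀ * algebraMap A R' a_u)) a_u) := by
    have h1 := IsLocalization.Away.algebraMap_isUnit
      (S := Localization.Away (ε₀ * algebraMap A R' a_u)) (ε₀ * algebraMap A R' a_u)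
    rw [map_mul, ← IsScalarTower.algebraMap_apply] at h1
    exact isUnit_of_mul_isUnit_right h1
  exact ⟨Localization.Away (ε₀ * algebraMap A R' a_u), inferInstance, inferInstance,
    Algebra.Etale.comp A R' _, IsScalarTower.toAlgHom A R' _, σ'', fun x => hσ'' x, hker, hau'⟩

theorem monic_case (A : Type u) [CommRing A] (I : Ideal A) [Nontrivial (A ⧸ I)] (f : A[X])
    (hf : f.Monic) (g₁ h₁ : (A ⧸ I)[X]) (hg₁ : g₁.Monic) (hh₁ : h₁.Monic)
    (hfac : f.map (Ideal.Quotient.mk I) = g₁ * h₁) (hcop : IsCoprime g₁ h₁)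
    (a_u : A) (hau : IsUnit (Ideal.Quotient.mk I a_u)) :
    ∃ (A' : Type u) (_ : CommRing A') (_ : Algebra A A') (_ : Algebra.Etale A A')
      (σ : A' →ₐ[A] A ⧸ I), RingHom.ker σ = I.map (algebraMap A A') ∧
      IsUnit (algebraMap A A' a_u) ∧
      ∃ g' h' : A'[X], g'.Monic ∧ h'.Monic ∧ f.map (algebraMap A A') = g' * h' ∧
        g'.map (σ : A' →+* A ⧸ I) = g₁ ∧ h'.map (σ : A' →+* A ⧸ I) = h₁ := by
  have hn : f.natDegree = g₁.natDegree + h₁.natDegree := by
    rw [← hf.natDegree_map (Ideal.Quotient.mk I), hfac, hg₁.natDegree_mul hh₁]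
  let p : MonicDegreeEq A f.natDegree := .mk f hf rfl
  let σ' : UniversalCoprimeFactorizationRing g₁.natDegree h₁.natDegree hn p →ₐ[A] A ⧸ I :=
    (UniversalCoprimeFactorizationRing.homEquiv (A ⧸ I) _ _ hn p).symm
      ⟨(.mk g₁ hg₁ rfl, .mk h₁ hh₁ rfl), hfac.symm, hcop⟩
  have hσ' : UniversalCoprimeFactorizationRing.homEquiv (A ⧸ I) _ _ hn p σ' =
      ⟨(.mk g₁ hg₁ rfl, .mk h₁ hh₁ rfl), hfac.symm, hcop⟩ := Equiv.apply_symm_apply _ _
  have hf1 : (UniversalCoprimeFactorizationRing.factor₁ _ _ hn p).1.map (σ' : _ →+* A ⧸ I) =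
      g₁ := by
    have h2 : (UniversalCoprimeFactorizationRing.homEquiv (A ⧸ I) _ _ hn p σ').1.1.1 = g₁ :=
      congrArg (fun z => z.1.1.1) hσ'
    refine Eq.trans ?_ h2
    change ((UniversalFactorizationRing.factor₁ _ _ hn p).1.map (algebraMap _ _)).map _ = _
    rw [Polynomial.map_map]
    rfl
  have hf2 : (UniversalCoprimeFactorizationRing.factor₂ _ _ hn p).1.map (σ' : _ →+* A ⧸ I) =
      h₁ := by
    have h2 : (UniversalCoprimeFactorizationRing.homEquiv (A ⧸ I) _ _ hn p σ').1.2.1 = h₁ :=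
      congrArg (fun z => z.1.2.1) hσ'
    refine Eq.trans ?_ h2
    change ((UniversalFactorizationRing.factor₂ _ _ hn p).1.map (algebraMap _ _)).map _ = _
    rw [Polynomial.map_map]
    rfl
  have h3 : (UniversalCoprimeFactorizationRing.factor₁ _ _ hn p).1 *
      (UniversalCoprimeFactorizationRing.factor₂ _ _ hn p).1 =
      f.map (algebraMap A (UniversalCoprimeFactorizationRing _ _ hn p)) :=
    UniversalCoprimeFactorizationRing.factor₁_mul_factor₂ _ _ hn p
  obtain ⟨A', i1, i2, i3, φ, σ, hσ, hker, hau'⟩ := of_section A I _ σ' a_u hau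
  have hσφ : (σ : A' →+* A ⧸ I).comp (φ : _ →+* A') = (σ' : _ →+* A ⧸ I) :=
    RingHom.ext fun x => hσ x
  refine ⟨A', i1, i2, i3, σ, hker, hau',
    (UniversalCoprimeFactorizationRing.factor₁ _ _ hn p).1.map (φ : _ →+* A'),
    (UniversalCoprimeFactorizationRing.factor₂ _ _ hn p).1.map (φ : _ →+* A'),
    (UniversalCoprimeFactorizationRing.factor₁ _ _ hn p).monic.map _,
    (UniversalCoprimeFactorizationRing.factor₂ _ _ hn p).monic.map _, ?_, ?_, ?_⟩
  · rw [← Polynomial.map_mul, h3, Polynomial.map_map, AlgHom.comp_algebraMap]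
  · rw [Polynomial.map_map, hσφ]
    exact hf1
  · rw [Polynomial.map_map, hσφ]
    exact hf2

/-- A root of a Gabber polynomial `X^n (X - 1) + p` (coefficients of `p` in `I`) congruent to `1`
exists in an étale neighbourhood. -/
theorem exists_etale_root (A : Type u) [CommRing A] (I : Ideal A) [Nontrivial (A ⧸ I)] (n : ℕ)
    (p : A[X]) (hp : p.natDegree ≤ n) (hpc : ∀ k, p.coeff k ∈ I) :
    ∃ (A' : Type u) (_ : CommRing A') (_ : Algebra A A') (_ : Algebra.Etale A A')
      (σ : A' →ₐ[A] A ⧸ I), RingHom.ker σ = I.map (algebraMap A A') ∧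
      ∃ α : A', σ α = 1 ∧ ((X ^ n * (X - 1) + p).map (algebraMap A A')).IsRoot α := by
  obtain ⟨hm, -, -⟩ := gabber_poly_facts I n p hp hpc
  have hpmap : p.map (Ideal.Quotient.mk I) = 0 := by
    ext i
    rw [coeff_map, coeff_zero, Ideal.Quotient.eq_zero_iff_mem]
    exact hpc i
  have hfac : (X ^ n * (X - 1) + p).map (Ideal.Quotient.mk I) =
      (X ^ n : (A ⧸ I)[X]) * (X - C 1) := by
    rw [Polynomial.map_add, hpmap, add_zero, Polynomial.map_mul, Polynomial.map_pow, map_X,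
      Polynomial.map_sub, map_X, Polynomial.map_one, C_1]
  have hcop : IsCoprime (X ^ n : (A ⧸ I)[X]) (X - C 1) := by
    apply IsCoprime.pow_left
    exact ⟨1, -1, by rw [C_1]; ring⟩
  obtain ⟨A', i1, i2, i3, σ, hker, -, g', h', hg'm, hh'm, hmul, hg', hh'⟩ :=
    monic_case A I _ hm _ _ (monic_X_pow n) (monic_X_sub_C 1) hfac hcop 1
      (by rw [map_one]; exact isUnit_one)
  refine ⟨A', i1, i2, i3, σ, hker, -h'.coeff 0, ?_, ?_⟩
  · have h1 : (h'.map (σ : A' →+* A ⧸ I)).coeff 0 = -1 := by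
      rw [hh']
      simp
    rw [coeff_map] at h1
    rw [map_neg]
    change -(σ : A' →+* A ⧸ I) (h'.coeff 0) = 1
    rw [h1, neg_neg]
  · have hdeg : h'.natDegree = 1 := by
      have := hh'm.natDegree_map (σ : A' →+* A ⧸ I)
      rw [hh', natDegree_X_sub_C] at this
      exact this.symm
    have hh'eq : h' = X + C (h'.coeff 0) := hh'm.eq_X_add_C hdeg
    rw [hmul, IsRoot.def, eval_mul]
    have : h'.eval (-h'.coeff 0) = 0 := by
      conv_lhs => rw [hh'eq]
      simp
    rw [this, mul_zero]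

end Factor

end Helper1
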