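import Mathlib
import Groth.Agent.Lib.helper1.HensLoc2

/-!
# Roots of Gabber polynomials over the localization of an étale neighbourhood (helper1)
-/

universe u

namespace Helper1

open Polynomial TensorProduct

theorem exists_nbhd_root {A : Type u} [CommRing A] (I : Ideal A) {E : Type u} [CommRing E]
    [Algebra A E] [Algebra.Etale A E] (σ : E →ₐ[A] A ⧸ I)
    (hker : RingHom.ker σ = I.map (algebraMap A E)) (n : ℕ) (p : (Loc I σ)[X])
    (hp : p.natDegree ≤ n) (hpc : ∀ k, p.coeff k ∈ RingHom.ker (locSection I σ)) :
    ∃ (E' : Type u) (_ : CommRing E') (_ : Algebra A E') (_ : Algebra.Etale A E')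
      (σ' : E' →ₐ[A] A ⧸ I) (_ : RingHom.ker σ' = I.map (algebraMap A E'))
      (Λ : Loc I σ →ₐ[A] Loc I σ') (α : Loc I σ'), locSection I σ' α = 1 ∧
      ((X ^ n * (X - 1) + p).map (Λ : Loc I σ →+* Loc I σ')).IsRoot α := by
  classical
  rcases subsingleton_or_nontrivial (A ⧸ I) with hsub | hnt
  · have hL : Subsingleton (Loc I σ) := by
      have : IsUnit (0 : Loc I σ) :=
        isUnit_of_isUnit_locSection I σ 0 (isUnit_of_subsingleton _)
      exact subsingleton_of_zero_eq_one (isUnit_zero_iff.mp this)
    refine ⟨E, inferInstance, inferInstance, inferInstance, σ, hker, AlgHom.id A _, 1,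
      map_one _, ?_⟩
    exact Subsingleton.elim _ _
  · obtain ⟨b, hb⟩ := IsLocalization.exist_integer_multiples (unitsSub I σ)
      (Finset.range (n + 1)) (fun k => p.coeff k)
    have hb' : ∀ k ∈ Finset.range (n + 1), ∃ e : E,
        algebraMap E (Loc I σ) e = algebraMap E (Loc I σ) (b : E) * p.coeff k := by
      intro k hk
      obtain ⟨e, he⟩ := hb k hk
      exact ⟨e, by rw [he, Algebra.smul_def]⟩
    choose! c hc using hb'
    have hbu : IsUnit (σ (b : E)) := (mem_unitsSub I σ).mp b.2
    have hcI : ∀ k ∈ Finset.range (n + 1), c k ∈ I.map (algebraMap A E) := by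
      intro k hk
      rw [← hker, RingHom.mem_ker]
      have h0 := congrArg (locSection I σ) (hc k hk)
      rw [map_mul, locSection_algebraMap, locSection_algebraMap,
        RingHom.mem_ker.mp (hpc k), mul_zero] at h0
      exact h0
    obtain ⟨σ₁, hσ₁, hker₁⟩ := exists_section_localization I σ (b : E) hbu (fun s hs => by
      have : s ∈ I.map (algebraMap A E) := by
        rw [← hker, RingHom.mem_ker]
        exact hs
      exact Ideal.mul_mem_right _ _ this)
    set invb : Localization.Away (b : E) := IsLocalization.Away.invSelf (b : E) with hinvb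
    have hinv : algebraMap E (Localization.Away (b : E)) (b : E) * invb = 1 :=
      IsLocalization.Away.mul_invSelf (b : E)
    set p₁ : (Localization.Away (b : E))[X] := ∑ k ∈ Finset.range (n + 1),
      monomial k (invb * algebraMap E (Localization.Away (b : E)) (c k)) with hp₁
    have hp₁deg : p₁.natDegree ≤ n :=
      natDegree_sum_le_of_forall_le _ _ (fun k hk =>
        (natDegree_monomial_le _).trans (Finset.mem_range_succ_iff.mp hk))
    have hp₁coeff : ∀ k, p₁.coeff k = if k ∈ Finset.range (n + 1) then
        invb * algebraMap E (Localization.Away (b : E)) (c k) else 0 := by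
      intro k
      rw [hp₁, finsetSum_coeff]
      simp only [coeff_monomial]
      rw [Finset.sum_ite_eq']
    have hp₁c : ∀ k, p₁.coeff k ∈ I.map (algebraMap A (Localization.Away (b : E))) := by
      intro k
      rw [hp₁coeff]
      split_ifs with hk
      · refine Ideal.mul_mem_left _ _ ?_
        have := Ideal.mem_map_of_mem (algebraMap E (Localization.Away (b : E))) (hcI k hk)
        rwa [Ideal.map_map, ← IsScalarTower.algebraMap_eq] at this
      · exact zero_mem _
    obtain ⟨hbij, -⟩ := quotientMap_bijective_of_ker_eq I σ₁ hker₁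
    haveI : Nontrivial (Localization.Away (b : E) ⧸
        I.map (algebraMap A (Localization.Away (b : E)))) := hbij.1.nontrivial
    obtain ⟨A', iA'1, iA'2, iA'3, τ, hkerτ, α, hτα, hroot⟩ :=
      exists_etale_root (Localization.Away (b : E))
        (I.map (algebraMap A (Localization.Away (b : E)))) n p₁ hp₁deg hp₁c
    letI algA' : Algebra A A' :=
      ((algebraMap (Localization.Away (b : E)) A').comp
        (algebraMap A (Localization.Away (b : E)))).toAlgebra
    haveI : IsScalarTower A (Localization.Away (b : E)) A' :=
      IsScalarTower.of_algebraMap_eq (fun _ => rfl)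
    haveI : Algebra.Etale A (Localization.Away (b : E)) := Algebra.Etale.comp A E _
    haveI : Algebra.Etale A A' := Algebra.Etale.comp A (Localization.Away (b : E)) A'
    let σ₁bar : (Localization.Away (b : E) ⧸ I.map (algebraMap A (Localization.Away (b : E))))
        →ₐ[A] A ⧸ I :=
      Ideal.Quotient.liftₐ _ σ₁ (fun x hx => by
        rw [← RingHom.mem_ker, hker₁]
        exact hx)
    have hσ₁bar_inj : Function.Injective σ₁bar := by
      rw [injective_iff_map_eq_zero]
      intro z hz
      obtain ⟨y, rfl⟩ := Ideal.Quotient.mk_surjective z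
      have : σ₁ y = 0 := hz
      rw [Ideal.Quotient.eq_zero_iff_mem, ← hker₁, RingHom.mem_ker]
      exact this
    let σ' : A' →ₐ[A] A ⧸ I := σ₁bar.comp (τ.restrictScalars A)
    have hker' : RingHom.ker σ' = I.map (algebraMap A A') := by
      ext x
      rw [RingHom.mem_ker]
      change σ₁bar (τ x) = 0 ↔ _
      rw [map_eq_zero_iff _ hσ₁bar_inj, ← RingHom.mem_ker, hkerτ, Ideal.map_map,
        ← IsScalarTower.algebraMap_eq]
    let ψ : E →ₐ[A] Loc I σ' := (Algebra.algHom A A' (Loc I σ')).comp
      ((Algebra.algHom A (Localization.Away (b : E)) A').comp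
        (Algebra.algHom A E (Localization.Away (b : E))))
    let Λ : Loc I σ →ₐ[A] Loc I σ' := locMap I σ σ' ψ (locSection_comp_eq I σ σ' hker ψ)
    let θ : Localization.Away (b : E) →+* Loc I σ' :=
      (algebraMap A' (Loc I σ')).comp (algebraMap (Localization.Away (b : E)) A')
    have hψθ : ∀ x : E, ψ x = θ (algebraMap E (Localization.Away (b : E)) x) := fun x => rfl
    have hθinv : θ invb * ψ (b : E) = 1 := by
      rw [hψθ, ← map_mul, mul_comm, hinv, map_one]
    have hcoeff : ∀ k, Λ (p.coeff k) = θ (p₁.coeff k) := by
      intro k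
      rw [hp₁coeff]
      split_ifs with hk
      · have h0 := congrArg Λ (hc k hk)
        rw [map_mul, locMap_algebraMap, locMap_algebraMap] at h0
        calc Λ (p.coeff k) = (θ invb * ψ (b : E)) * Λ (p.coeff k) := by rw [hθinv, one_mul]
          _ = θ invb * (ψ (b : E) * Λ (p.coeff k)) := by ring
          _ = θ invb * ψ (c k) := by rw [h0]
          _ = θ (invb * algebraMap E (Localization.Away (b : E)) (c k)) := by
            rw [map_mul, hψθ]
      · have hk' : n < k := by
          rw [Finset.mem_range] at hk
          omega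
        rw [coeff_eq_zero_of_natDegree_lt (lt_of_le_of_lt hp hk'), map_zero, map_zero]
    have hpmap : p.map (Λ : Loc I σ →+* Loc I σ') = p₁.map θ := by
      ext k
      rw [coeff_map, coeff_map]
      exact hcoeff k
    refine ⟨A', iA'1, algA', inferInstance, σ', hker', Λ, algebraMap A' (Loc I σ') α, ?_, ?_⟩
    · rw [locSection_algebraMap]
      change σ₁bar (τ α) = 1
      rw [hτα, map_one]
    · have h1 := hroot.map (f := algebraMap A' (Loc I σ'))
      have h2 : ((X ^ n * (X - 1) + p₁).map
          (algebraMap (Localization.Away (b : E)) A')).map (algebraMap A' (Loc I σ')) =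
          (X ^ n * (X - 1) + p).map (Λ : Loc I σ →+* Loc I σ') := by
        rw [Polynomial.map_map]
        simp only [Polynomial.map_add, Polynomial.map_mul, Polynomial.map_pow, Polynomial.map_X,
          Polynomial.map_sub, Polynomial.map_one]
        rw [hpmap]
      rw [h2] at h1
      exact h1
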