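import Mathlib
import Groth.Agent.Lib.helper1.HenselIdem2

/-!
# Henselian pairs: Gabber's criterion as an iff, and integral variants (helper1)
-/

universe u

namespace Helper1

open Polynomial

theorem henselianRing_iff_gabberCond {A : Type u} [CommRing A] (I : Ideal A) :
    HenselianRing A I ↔ GabberCond I := by
  constructor
  · intro h
    exact gabberCond_of_henselianRing I
  · intro hG
    refine henselianRing_of_idempotent_lift I hG.1 ?_
    intro f hf b hb
    haveI : Module.Finite A (AdjoinRoot f) := hf.finite_adjoinRoot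
    exact exists_idempotent_lift_of_gabber I hG b hb

theorem exists_monic_aeval_eq_zero_of_mem_map_of_isIntegral {A : Type*} [CommRing A] (I : Ideal A)
    {B : Type*} [CommRing B] [Algebra A B] [Algebra.IsIntegral A B] (c : B)
    (hc : c ∈ Ideal.map (algebraMap A B) I) :
    ∃ (N : ℕ) (Q : A[X]), Q.Monic ∧ Q.map (Ideal.Quotient.mk I) = X ^ N ∧ aeval c Q = 0 := by
  obtain ⟨S, hSfg, hcS⟩ := exists_fg_subalgebra_mem_smul I c hc
  have hcmem : c ∈ S := by
    have h1 : I • Subalgebra.toSubmodule S ≤ Subalgebra.toSubmodule S := Submodule.smul_le_right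
    exact h1 hcS
  have : Algebra.FiniteType A S := (Subalgebra.fg_iff_finiteType S).mp hSfg
  have : Algebra.IsIntegral A S := Algebra.IsIntegral.of_injective S.val Subtype.val_injective
  have : Module.Finite A S := Algebra.IsIntegral.finite
  let c₀ : S := ⟨c, hcmem⟩
  have hc₀ : c₀ ∈ Ideal.map (algebraMap A S) I := by
    have h1 : Subalgebra.toSubmodule S = Submodule.map S.val.toLinearMap ⊤ := by
      rw [Submodule.map_top]
      ext z
      simp
    rw [h1, ← Submodule.map_smul''] at hcS
    obtain ⟨c', hc', hc''⟩ := hcS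
    have h2 : c' = c₀ := Subtype.ext hc''
    rw [← h2]
    have h3 := hc'
    rw [SetLike.mem_coe, Ideal.smul_top_eq_map] at h3
    exact h3
  obtain ⟨N, Q, hQm, hQmap, hQ⟩ := exists_monic_aeval_eq_zero_of_mem_map I c₀ hc₀
  refine ⟨N, Q, hQm, hQmap, ?_⟩
  have h4 := congrArg (Subtype.val) hQ
  rw [aeval_subalgebra_coe] at h4
  exact h4

end Helper1
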