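import Mathlib
import Groth.Agent.Lib.helper1.HensLoc3
import Groth.Agent.Lib.helper1.HenselIdem3

/-!
# Directed colimits of rings with sections modulo an ideal (helper1)
-/

universe u

namespace Helper1

open Polynomial

section Colim

variable {A : Type u} [CommRing A] (I : Ideal A)
  {ι : Type u} [Preorder ι] [IsDirected ι (· ≤ ·)] [Nonempty ι]
  (G : ι → Type u) [∀ i, CommRing (G i)] [∀ i, Algebra A (G i)]
  (f : ∀ i j, i ≤ j → G i →+* G j) [DirectedSystem G fun i j h => f i j h]

/-- The `A`-algebra structure on the colimit (through an arbitrary index). -/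
@[reducible] noncomputable def colimAlgebra :
    Algebra A (Ring.DirectLimit G fun i j h => f i j h) :=
  ((Ring.DirectLimit.of G (fun i j h => f i j h) (Classical.arbitrary ι)).comp
    (algebraMap A (G (Classical.arbitrary ι)))).toAlgebra

attribute [local instance] colimAlgebra

variable (hfA : ∀ i j h a, f i j h (algebraMap A (G i) a) = algebraMap A (G j) a)

include hfA in
theorem colim_of_algebraMap (i : ι) (a : A) :
    Ring.DirectLimit.of G (fun i j h => f i j h) i (algebraMap A (G i) a) =
      algebraMap A (Ring.DirectLimit G fun i j h => f i j h) a := by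
  obtain ⟨k, hik, h0k⟩ := exists_ge_ge i (Classical.arbitrary ι)
  change _ = Ring.DirectLimit.of G _ (Classical.arbitrary ι) (algebraMap A _ a)
  rw [← Ring.DirectLimit.of_f hik, ← Ring.DirectLimit.of_f h0k, hfA, hfA]

include hfA in
theorem colim_flat [∀ i, Module.Flat A (G i)] :
    Module.Flat A (Ring.DirectLimit G fun i j h => f i j h) := by
  rw [Module.Flat.iff_forall_isTrivialRelation]
  intro l a x hx
  choose k y hy using fun i => Ring.DirectLimit.exists_of (x i)
  obtain ⟨M, hM⟩ := Finite.exists_le k
  let y' : Fin l → G M := fun i => f (k i) M (hM i) (y i)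
  have hy' : ∀ i, Ring.DirectLimit.of G (fun i j h => f i j h) M (y' i) = x i := fun i => by
    rw [Ring.DirectLimit.of_f, hy]
  have h0 : Ring.DirectLimit.of G (fun i j h => f i j h) M (∑ i, a i • y' i) = 0 := by
    rw [map_sum, ← hx]
    refine Finset.sum_congr rfl fun i _ => ?_
    rw [Algebra.smul_def, map_mul, colim_of_algebraMap G f hfA, hy', Algebra.smul_def]
  obtain ⟨j, hMj, hj⟩ := Ring.DirectLimit.of.zero_exact h0
  obtain ⟨m, c, z, hz1, hz2⟩ := Module.Flat.isTrivialRelation_of_sum_smul_eq_zero
    (R := A) (M := G j) (f := a) (x := fun i => f M j hMj (y' i)) (by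
      rw [← hj, map_sum]
      refine Finset.sum_congr rfl fun i _ => ?_
      rw [Algebra.smul_def, Algebra.smul_def, map_mul, hfA])
  refine ⟨m, c, fun t => Ring.DirectLimit.of G (fun i j h => f i j h) j (z t), fun i => ?_, hz2⟩
  have hz1' : f M j hMj (y' i) = ∑ t, c i t • z t := hz1 i
  rw [← hy', ← Ring.DirectLimit.of_f hMj, hz1', map_sum]
  refine Finset.sum_congr rfl fun t _ => ?_
  rw [Algebra.smul_def, map_mul, colim_of_algebraMap G f hfA, Algebra.smul_def]

variable (σ : ∀ i, G i →+* A ⧸ I) (hσf : ∀ i j h x, σ j (f i j h x) = σ i x)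

/-- The section on the colimit. -/
noncomputable def colimSection : (Ring.DirectLimit G fun i j h => f i j h) →+* A ⧸ I :=
  Ring.DirectLimit.lift G (fun i j h => f i j h) (A ⧸ I) σ (fun i j h x => hσf i j h x)

@[simp]
theorem colimSection_of (i : ι) (x : G i) :
    colimSection I G f σ hσf (Ring.DirectLimit.of G (fun i j h => f i j h) i x) = σ i x :=
  Ring.DirectLimit.lift_of _ _ _ _ _

variable (hσA : ∀ i a, σ i (algebraMap A (G i) a) = Ideal.Quotient.mk I a)

include hfA hσA in
theorem colimSection_algebraMap (a : A) :
    colimSection I G f σ hσf (algebraMap A _ a) = Ideal.Quotient.mk I a := by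
  rw [← colim_of_algebraMap G f hfA (Classical.arbitrary ι), colimSection_of, hσA]

variable (hker : ∀ i, RingHom.ker (σ i) = I.map (algebraMap A (G i)))

include hfA hσA hker in
theorem colim_ker : RingHom.ker (colimSection I G f σ hσf) =
    I.map (algebraMap A (Ring.DirectLimit G fun i j h => f i j h)) := by
  apply le_antisymm
  · intro x hx
    rw [RingHom.mem_ker] at hx
    induction x using Ring.DirectLimit.induction_on with
    | ih i y =>
      rw [colimSection_of] at hx
      have hy : y ∈ I.map (algebraMap A (G i)) := by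
        rw [← hker, RingHom.mem_ker]
        exact hx
      have h1 := Ideal.mem_map_of_mem (Ring.DirectLimit.of G (fun i j h => f i j h) i) hy
      rw [Ideal.map_map] at h1
      have h2 : (Ring.DirectLimit.of G (fun i j h => f i j h) i).comp (algebraMap A (G i)) =
          algebraMap A (Ring.DirectLimit G fun i j h => f i j h) :=
        RingHom.ext fun a => colim_of_algebraMap G f hfA i a
      rw [h2] at h1
      exact h1
  · rw [Ideal.map_le_iff_le_comap]
    intro a ha
    rw [Ideal.mem_comap, RingHom.mem_ker, colimSection_algebraMap I G f hfA σ hσf hσA,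
      Ideal.Quotient.eq_zero_iff_mem]
    exact ha

variable (hunit : ∀ i x, IsUnit (σ i x) → IsUnit x)

include hunit in
theorem colim_isUnit (x : Ring.DirectLimit G fun i j h => f i j h)
    (hx : IsUnit (colimSection I G f σ hσf x)) : IsUnit x := by
  induction x using Ring.DirectLimit.induction_on with
  | ih i y =>
    rw [colimSection_of] at hx
    exact (hunit i y hx).map _

include hunit in
theorem colim_ker_le_jacobson :
    RingHom.ker (colimSection I G f σ hσf) ≤ Ideal.jacobson ⊥ := by
  intro x hx
  rw [RingHom.mem_ker] at hx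
  rw [Ideal.mem_jacobson_bot]
  intro y
  apply colim_isUnit I G f σ hσf hunit
  rw [map_add, map_mul, hx, zero_mul, zero_add, map_one]
  exact isUnit_one

include hfA hσf hσA hker hunit in
theorem colim_henselian
    (hd : ∀ i (n : ℕ), 0 < n → ∀ p : (G i)[X], p.natDegree ≤ n →
      (∀ k, p.coeff k ∈ RingHom.ker (σ i)) →
      ∃ j, ∃ h : i ≤ j, ∃ α : G j, σ j α = 1 ∧
        ((X ^ n * (X - 1) + p).map (f i j h)).IsRoot α) :
    HenselianRing (Ring.DirectLimit G fun i j h => f i j h)
      (I.map (algebraMap A (Ring.DirectLimit G fun i j h => f i j h))) := by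
  have hkerD := colim_ker I G f hfA σ hσf hσA hker
  rw [henselianRing_iff_gabberCond]
  refine ⟨?_, ?_⟩
  · rw [← hkerD]
    exact colim_ker_le_jacobson I G f σ hσf hunit
  · intro n hn p hp hpc
    obtain ⟨i, q, hq⟩ := Ring.DirectLimit.Polynomial.exists_of p
    set q' : (G i)[X] := ∑ k ∈ Finset.range (n + 1), monomial k (q.coeff k) with hq'def
    have hq'deg : q'.natDegree ≤ n :=
      natDegree_sum_le_of_forall_le _ _ (fun k hk =>
        (natDegree_monomial_le _).trans (Finset.mem_range_succ_iff.mp hk))
    have hq'coeff : ∀ k, q'.coeff k = if k ∈ Finset.range (n + 1) then q.coeff k else 0 := by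
      intro k
      rw [hq'def, finsetSum_coeff]
      simp only [coeff_monomial]
      rw [Finset.sum_ite_eq']
    have hq'map : q'.map (Ring.DirectLimit.of G (fun i j h => f i j h) i) = p := by
      ext k
      rw [coeff_map, hq'coeff]
      split_ifs with hk
      · rw [← hq, coeff_map]
      · have hk' : n < k := by
          rw [Finset.mem_range] at hk
          omega
        rw [map_zero, coeff_eq_zero_of_natDegree_lt (lt_of_le_of_lt hp hk')]
    have hq'c : ∀ k, q'.coeff k ∈ RingHom.ker (σ i) := by
      intro k
      rw [RingHom.mem_ker, ← colimSection_of I G f σ hσf, ← coeff_map, hq'map, ← RingHom.mem_ker,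
        hkerD]
      exact hpc k
    obtain ⟨j, hij, α, hα1, hαroot⟩ := hd i n hn q' hq'deg hq'c
    refine ⟨Ring.DirectLimit.of G (fun i j h => f i j h) j α, ?_, ?_⟩
    · rw [← hkerD, RingHom.mem_ker, map_sub, colimSection_of, hα1, map_one, sub_self]
    · have h1 := hαroot.map (f := Ring.DirectLimit.of G (fun i j h => f i j h) j)
      rw [Polynomial.map_map] at h1
      have h2 : (Ring.DirectLimit.of G (fun i j h => f i j h) j).comp (f i j hij) =
          Ring.DirectLimit.of G (fun i j h => f i j h) i :=
        RingHom.ext fun x => Ring.DirectLimit.of_f hij x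
      rw [h2] at h1
      have h3 : (X ^ n * (X - 1) + q').map (Ring.DirectLimit.of G (fun i j h => f i j h) i) =
          X ^ n * (X - 1) + p := by
        simp only [Polynomial.map_add, Polynomial.map_mul, Polynomial.map_pow, Polynomial.map_X,
          Polynomial.map_sub, Polynomial.map_one]
        rw [hq'map]
      rw [h3] at h1
      exact h1

end Colim

end Helper1
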