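import Mathlib

/-!
# Flat algebras which are isomorphisms modulo `I` are isomorphisms modulo `I ^ n` (helper1)
-/

universe u

namespace Helper1

theorem flat_quotient_pow {A : Type u} [CommRing A] (I : Ideal A) (B : Type u) [CommRing B]
    [Algebra A B] [Module.Flat A B]
    (hs : ∀ b : B, ∃ a : A, b - algebraMap A B a ∈ I.map (algebraMap A B))
    (hk : ∀ a : A, algebraMap A B a ∈ I.map (algebraMap A B) → a ∈ I) (n : ℕ) :
    (∀ b : B, ∃ a : A, b - algebraMap A B a ∈ (I ^ n).map (algebraMap A B)) ∧
    (∀ a : A, algebraMap A B a ∈ (I ^ n).map (algebraMap A B) → a ∈ I ^ n) := by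
  induction n with
  | zero =>
    refine ⟨fun b => ⟨0, ?_⟩, fun a _ => ?_⟩
    · rw [pow_zero, Ideal.one_eq_top, Ideal.map_top]
      trivial
    · rw [pow_zero, Ideal.one_eq_top]
      trivial
  | succ n ih =>
    obtain ⟨ihs, ihk⟩ := ih
    have hP : ∀ w ∈ (I ^ n).map (algebraMap A B), ∃ a ∈ I ^ n,
        w - algebraMap A B a ∈ (I ^ (n + 1)).map (algebraMap A B) := by
      intro w hw
      refine Submodule.span_induction
        (p := fun w _ => ∃ a ∈ I ^ n, w - algebraMap A B a ∈ (I ^ (n + 1)).map (algebraMap A B))
        ?_ ?_ ?_ ?_ hw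
      · rintro _ ⟨c, hc, rfl⟩
        exact ⟨c, hc, by rw [sub_self]; exact zero_mem _⟩
      · exact ⟨0, zero_mem _, by rw [map_zero, sub_zero]; exact zero_mem _⟩
      · rintro x y _ _ ⟨a₁, ha₁, h₁⟩ ⟨a₂, ha₂, h₂⟩
        refine ⟨a₁ + a₂, add_mem ha₁ ha₂, ?_⟩
        have : x + y - algebraMap A B (a₁ + a₂) =
            (x - algebraMap A B a₁) + (y - algebraMap A B a₂) := by
          rw [map_add]
          ring
        rw [this]
        exact add_mem h₁ h₂
      · rintro t w hw ⟨a, ha, hv⟩
        obtain ⟨at', hat⟩ := hs t
        refine ⟨at' * a, Ideal.mul_mem_left _ _ ha, ?_⟩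
        have e : t • w - algebraMap A B (at' * a) =
            algebraMap A B at' * (w - algebraMap A B a) + (t - algebraMap A B at') * w := by
          rw [smul_eq_mul, map_mul]
          ring
        rw [e]
        refine add_mem (Ideal.mul_mem_left _ _ hv) ?_
        rw [pow_succ', Ideal.map_mul]
        exact Ideal.mul_mem_mul hat hw
    constructor
    · intro b
      obtain ⟨a₀, ha₀⟩ := ihs b
      obtain ⟨a, -, ha⟩ := hP _ ha₀
      refine ⟨a₀ + a, ?_⟩
      have : b - algebraMap A B (a₀ + a) = (b - algebraMap A B a₀) - algebraMap A B a := by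
        rw [map_add]
        ring
      rw [this]
      exact ha
    · intro a ha
      have han : a ∈ I ^ n :=
        ihk a (Ideal.map_mono (Ideal.pow_le_pow_right (Nat.le_succ n)) ha)
      obtain ⟨m, t, g, hg⟩ := (Submodule.mem_span_set').mp ha
      have hgc : ∀ i : Fin m, ∃ c ∈ I ^ (n + 1), algebraMap A B c = (g i : B) := fun i => (g i).2
      choose c hcI hc using hgc
      let F : Option (Fin m) → A := fun o => Option.elim o a (fun i => -c i)
      let Xf : Option (Fin m) → B := fun o => Option.elim o 1 (fun i => t i)
      obtain ⟨k, α, y, hy1, hy2⟩ := Module.Flat.isTrivialRelation_of_sum_smul_eq_zero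
        (R := A) (M := B) (f := F) (x := Xf) (by
          rw [Fintype.sum_option]
          simp only [F, Xf, Option.elim_none, Option.elim_some]
          rw [Algebra.smul_def, mul_one, ← hg, ← Finset.sum_add_distrib]
          refine Finset.sum_eq_zero fun i _ => ?_
          rw [← hc i, smul_eq_mul, Algebra.smul_def, map_neg]
          ring)
      have h1 : ∀ j, a * α none j ∈ I ^ (n + 1) := by
        intro j
        have h := hy2 j
        rw [Fintype.sum_option] at h
        simp only [F, Option.elim_none, Option.elim_some] at h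
        have e : a * α none j = ∑ i, c i * α (some i) j := by
          rw [add_eq_zero_iff_eq_neg, ← Finset.sum_neg_distrib] at h
          rw [h]
          exact Finset.sum_congr rfl fun i _ => by ring
        rw [e]
        exact Ideal.sum_mem _ fun i _ => Ideal.mul_mem_right _ _ (hcI i)
      choose aj haj using fun j => hs (y j)
      have h2 : (1 : A) - ∑ j, α none j * aj j ∈ I := by
        apply hk
        have e : algebraMap A B (1 - ∑ j, α none j * aj j) =
            ∑ j, algebraMap A B (α none j) * (y j - algebraMap A B (aj j)) := by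
          have h1' : (1 : B) = ∑ j, α none j • y j := hy1 none
          rw [map_sub, map_one, map_sum]
          conv_lhs => rw [h1']
          rw [← Finset.sum_sub_distrib]
          refine Finset.sum_congr rfl fun j _ => ?_
          rw [Algebra.smul_def, map_mul]
          ring
        rw [e]
        exact Ideal.sum_mem _ fun j _ => Ideal.mul_mem_left _ _ (haj j)
      have e3 : a = a * (1 - ∑ j, α none j * aj j) + ∑ j, (a * α none j) * aj j := by
        rw [mul_sub, mul_one, Finset.mul_sum]
        have : ∑ j, a * (α none j * aj j) = ∑ j, a * α none j * aj j :=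
          Finset.sum_congr rfl fun j _ => by ring
        rw [this]
        ring
      rw [e3]
      refine add_mem ?_ (Ideal.sum_mem _ fun j _ => Ideal.mul_mem_right _ _ (h1 j))
      rw [pow_succ]
      exact Ideal.mul_mem_mul han h2

end Helper1
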