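import Mathlib
import Groth.Agent.Lib.helper1.HensColim
import Groth.Agent.Lib.helper1.HensQuot

/-!
# The henselization of a pair as a directed colimit of local-étale neighbourhoods (helper1)
-/

universe u

namespace Helper1

open Polynomial TensorProduct

/-- An étale neighbourhood of `(A, I)`, given by a presentation. -/
structure Nbhd (A : Type u) [CommRing A] (I : Ideal A) : Type u where
  n : ℕ
  K : Ideal (MvPolynomial (Fin n) A)
  etale : Algebra.Etale A (MvPolynomial (Fin n) A ⧸ K)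
  σ : (MvPolynomial (Fin n) A ⧸ K) →ₐ[A] A ⧸ I
  hker : RingHom.ker σ = I.map (algebraMap A (MvPolynomial (Fin n) A ⧸ K))

namespace Nbhd

variable {A : Type u} [CommRing A] {I : Ideal A}

/-- The étale algebra of a neighbourhood. -/
abbrev E (i : Nbhd A I) : Type u := MvPolynomial (Fin i.n) A ⧸ i.K

instance (i : Nbhd A I) : Algebra.Etale A i.E := i.etale

/-- The localization of the étale algebra at the units of the section. -/
abbrev L (i : Nbhd A I) : Type u := Loc I i.σ

theorem exists_nbhd (A' : Type u) [CommRing A'] [Algebra A A'] [Algebra.Etale A A']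
    (σ' : A' →ₐ[A] A ⧸ I) (hker : RingHom.ker σ' = I.map (algebraMap A A')) :
    ∃ (k : Nbhd A I) (e : k.E ≃ₐ[A] A'), ∀ x, σ' (e x) = k.σ x := by
  obtain ⟨n, π, hπ⟩ := Algebra.FiniteType.iff_quotient_mvPolynomial''.mp
    (inferInstance : Algebra.FiniteType A A')
  let e : (MvPolynomial (Fin n) A ⧸ RingHom.ker π) ≃ₐ[A] A' :=
    Ideal.quotientKerAlgEquivOfSurjective hπ
  haveI : Algebra.Etale A (MvPolynomial (Fin n) A ⧸ RingHom.ker π) :=
    Algebra.Etale.of_equiv e.symm
  refine ⟨⟨n, RingHom.ker π, inferInstance, σ'.comp e.toAlgHom, ?_⟩, e, fun x => rfl⟩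
  ext x
  rw [RingHom.mem_ker]
  change σ' (e x) = 0 ↔ _
  rw [← RingHom.mem_ker, hker]
  constructor
  · intro hx
    have h1 := Ideal.mem_map_of_mem e.symm.toAlgHom.toRingHom hx
    rw [Ideal.map_map] at h1
    have h2 : e.symm.toAlgHom.toRingHom.comp (algebraMap A A') = algebraMap A _ := by
      ext a
      simp
    rw [h2] at h1
    simpa using h1
  · intro hx
    have h1 := Ideal.mem_map_of_mem e.toAlgHom.toRingHom hx
    rw [Ideal.map_map] at h1
    have h2 : e.toAlgHom.toRingHom.comp (algebraMap A _) = algebraMap A A' := by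
      ext a
      simp
    rw [h2] at h1
    exact h1

instance : Preorder (Nbhd A I) where
  le i j := Nonempty (i.L →ₐ[A] j.L)
  le_refl i := ⟨AlgHom.id A _⟩
  le_trans i j k := fun ⟨f⟩ ⟨g⟩ => ⟨g.comp f⟩

theorem le_def (i j : Nbhd A I) : i ≤ j ↔ Nonempty (i.L →ₐ[A] j.L) := Iff.rfl

instance (i j : Nbhd A I) : Subsingleton (i.L →ₐ[A] j.L) :=
  ⟨fun φ ψ => loc_algHom_subsingleton I i.σ j.σ i.hker φ ψ⟩

/-- The transition maps. -/
noncomputable def tr (i j : Nbhd A I) (h : i ≤ j) : i.L →ₐ[A] j.L := h.some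

/-- The transition maps as ring homomorphisms. -/
noncomputable def trR (i j : Nbhd A I) (h : i ≤ j) : i.L →+* j.L := (tr i j h).toRingHom

theorem trR_eq (i j : Nbhd A I) (h : i ≤ j) (φ : i.L →ₐ[A] j.L) (x : i.L) :
    trR i j h x = φ x := by
  have : tr i j h = φ := Subsingleton.elim _ _
  rw [← this]
  rfl

instance : DirectedSystem (fun i : Nbhd A I => i.L) (fun i j h => trR i j h) where
  map_self i x := trR_eq i i le_rfl (AlgHom.id A _) x
  map_map k j i hij hjk x := by
    rw [trR_eq i j hij (tr i j hij), trR_eq j k hjk (tr j k hjk),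
      trR_eq i k (hij.trans hjk) ((tr j k hjk).comp (tr i j hij))]
    rfl

theorem le_of_algHom (i j : Nbhd A I) (ψ : i.E →ₐ[A] j.L) : i ≤ j :=
  ⟨locMap I i.σ j.σ ψ (locSection_comp_eq I i.σ j.σ i.hker ψ)⟩

instance : IsDirected (Nbhd A I) (· ≤ ·) := ⟨fun i j => by
  haveI : Algebra.Etale A (i.E ⊗[A] j.E) := Algebra.Etale.comp A i.E _
  let σ₂ : i.E ⊗[A] j.E →ₐ[A] A ⧸ I := Algebra.TensorProduct.productMap i.σ j.σ
  obtain ⟨A', _, _, _, φ, σ', hσ', hker', -⟩ :=
    of_section A I (i.E ⊗[A] j.E) σ₂ 1 (by rw [map_one]; exact isUnit_one)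
  obtain ⟨k, e, he⟩ := exists_nbhd A' σ' hker'
  refine ⟨k, le_of_algHom i k ?_, le_of_algHom j k ?_⟩
  · exact (Algebra.algHom A k.E k.L).comp
      (e.symm.toAlgHom.comp (φ.comp Algebra.TensorProduct.includeLeft))
  · exact (Algebra.algHom A k.E k.L).comp
      (e.symm.toAlgHom.comp (φ.comp Algebra.TensorProduct.includeRight))⟩

instance : Nonempty (Nbhd A I) := by
  obtain ⟨k, -, -⟩ := exists_nbhd (I := I) A (Ideal.Quotient.mkₐ A I) (by
    rw [Algebra.algebraMap_self, Ideal.map_id]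
    ext x
    rw [RingHom.mem_ker, Ideal.Quotient.mkₐ_eq_mk, Ideal.Quotient.eq_zero_iff_mem])
  exact ⟨k⟩

end Nbhd

end Helper1
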