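import Mathlib
import Groth.Agent.Lib.helper1.Henselization

/-!
# The henselization of a pair: main properties (helper1)
-/

universe u

namespace Helper1

open Polynomial TensorProduct

variable (A : Type u) [CommRing A] (I : Ideal A)

/-- The henselization of the pair `(A, I)`. -/
abbrev Hens : Type u :=
  Ring.DirectLimit (fun i : Nbhd A I => i.L) (fun i j h => Nbhd.trR i j h)

noncomputable instance Hens.algebra : Algebra A (Hens A I) :=
  colimAlgebra (fun i : Nbhd A I => i.L) (fun i j h => Nbhd.trR i j h)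

namespace Hens

variable {A I}

theorem hfA (i j : Nbhd A I) (h : i ≤ j) (a : A) :
    Nbhd.trR i j h (algebraMap A i.L a) = algebraMap A j.L a :=
  (Nbhd.tr i j h).commutes a

/-- The sections, as ring homomorphisms. -/
noncomputable def sec (i : Nbhd A I) : i.L →+* A ⧸ I := (locSection I i.σ).toRingHom

theorem hσf (i j : Nbhd A I) (h : i ≤ j) (x : i.L) : sec j (Nbhd.trR i j h x) = sec i x := by
  have := algHom_loc_eq_locSection I i.σ i.hker ((locSection I j.σ).comp (Nbhd.tr i j h))
  exact AlgHom.congr_fun this x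

theorem hσA (i : Nbhd A I) (a : A) : sec i (algebraMap A i.L a) = Ideal.Quotient.mk I a := by
  change locSection I i.σ (algebraMap A i.L a) = _
  rw [AlgHom.commutes, Ideal.Quotient.algebraMap_eq]

theorem hker (i : Nbhd A I) : RingHom.ker (sec i) = I.map (algebraMap A i.L) :=
  ker_locSection I i.σ i.hker

theorem hunit (i : Nbhd A I) (x : i.L) (hx : IsUnit (sec i x)) : IsUnit x :=
  isUnit_of_isUnit_locSection I i.σ x hx

instance (i : Nbhd A I) : Module.Flat A i.L := Module.Flat.trans A i.E i.L

variable (A I)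

/-- The canonical map from a stage to the henselization. -/
noncomputable def of (i : Nbhd A I) : i.L →ₐ[A] Hens A I :=
  { Ring.DirectLimit.of (fun i : Nbhd A I => i.L) (fun i j h => Nbhd.trR i j h) i with
    commutes' := fun a => colim_of_algebraMap _ _ hfA i a }

theorem flat : Module.Flat A (Hens A I) :=
  colim_flat (fun i : Nbhd A I => i.L) (fun i j h => Nbhd.trR i j h) hfA

/-- The section of the henselization. -/
noncomputable def section' : Hens A I →ₐ[A] A ⧸ I :=
  { colimSection I (fun i : Nbhd A I => i.L) (fun i j h => Nbhd.trR i j h) sec hσf with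
    commutes' := fun a => by
      rw [Ideal.Quotient.algebraMap_eq]
      exact colimSection_algebraMap I _ _ hfA sec hσf hσA a }

theorem ker_section : RingHom.ker (section' A I) = I.map (algebraMap A (Hens A I)) :=
  colim_ker I _ _ hfA sec hσf hσA hker

theorem isUnit_of_isUnit_section (x : Hens A I) (hx : IsUnit (section' A I x)) : IsUnit x :=
  colim_isUnit I _ _ sec hσf hunit x hx

theorem henselian : HenselianRing (Hens A I) (I.map (algebraMap A (Hens A I))) := by
  refine colim_henselian I _ _ hfA sec hσf hσA hker hunit ?_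
  intro i n _ p hp hpc
  obtain ⟨E', _, _, _, σ', hker', Λ, α, hα1, hroot⟩ :=
    exists_nbhd_root I i.σ i.hker n p hp hpc
  obtain ⟨k, e, he⟩ := Nbhd.exists_nbhd E' σ' hker'
  let ψ : E' →ₐ[A] k.L := (Algebra.algHom A k.E k.L).comp e.symm.toAlgHom
  let Φ : Loc I σ' →ₐ[A] k.L := locMap I σ' k.σ ψ (locSection_comp_eq I σ' k.σ hker' ψ)
  have hik : i ≤ k := ⟨Φ.comp Λ⟩
  refine ⟨k, hik, Φ α, ?_, ?_⟩
  · have := algHom_loc_eq_locSection I σ' hker' ((locSection I k.σ).comp Φ)
    have h2 := AlgHom.congr_fun this α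
    rw [hα1] at h2
    exact h2
  · have h1 := hroot.map (f := (Φ : Loc I σ' →+* k.L))
    rw [Polynomial.map_map] at h1
    have h2 : (Φ : Loc I σ' →+* k.L).comp (Λ : i.L →+* Loc I σ') = Nbhd.trR i k hik :=
      RingHom.ext fun x => (Nbhd.trR_eq i k hik (Φ.comp Λ) x).symm
    rw [h2] at h1
    exact h1

theorem universal (C : Type u) [CommRing C] (J : Ideal C) (f : A →+* C) [HenselianRing C J]
    (hIJ : I.map f ≤ J) : ∃! g : Hens A I →+* C, g.comp (algebraMap A (Hens A I)) = f := by
  letI := f.toAlgebra
  have hIJ' : I.map (algebraMap A C) ≤ J := hIJ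
  have hex : ∀ i : Nbhd A I, Nonempty (i.L →ₐ[A] C) :=
    fun i => exists_algHom_loc_of_henselian I i.σ C J hIJ'
  let g : ∀ i : Nbhd A I, i.L →ₐ[A] C := fun i => (hex i).some
  have huniq : ∀ (i : Nbhd A I) (φ ψ : i.L →ₐ[A] C), φ = ψ :=
    fun i φ ψ => algHom_loc_eq_of_henselian I i.σ i.hker C J hIJ' φ ψ
  let G : Hens A I →+* C :=
    Ring.DirectLimit.lift _ _ C (fun i => (g i).toRingHom) (fun i j h x => by
      have := huniq i ((g j).comp (Nbhd.tr i j h)) (g i)
      exact AlgHom.congr_fun this x)
  refine ⟨G, ?_, ?_⟩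
  · ext a
    change G (algebraMap A (Hens A I) a) = f a
    rw [← colim_of_algebraMap _ _ hfA (Classical.arbitrary (Nbhd A I)) a]
    change G (Ring.DirectLimit.of _ _ _ _) = _
    rw [Ring.DirectLimit.lift_of]
    exact (g _).commutes a
  · intro G' hG'
    apply Ring.DirectLimit.hom_ext
    intro i
    let φ : i.L →ₐ[A] C :=
      { G'.comp (Ring.DirectLimit.of _ _ i) with
        commutes' := fun a => by
          change G' (Ring.DirectLimit.of _ _ i (algebraMap A i.L a)) = f a
          rw [colim_of_algebraMap _ _ hfA i a, ← hG']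
          rfl }
    have h1 := huniq i φ (g i)
    ext x
    have h2 := AlgHom.congr_fun h1 x
    change G' (Ring.DirectLimit.of _ _ i x) = G (Ring.DirectLimit.of _ _ i x)
    rw [Ring.DirectLimit.lift_of]
    exact h2

end Hens

end Helper1
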