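import Mathlib
import Groth.Prelude.Def_Hens2
import Groth.Agent.Lib.helper1.Henselization2

/-!
# Henselization of pairs and of local rings: existence, uniqueness, basic properties (helper1)
-/

universe u

namespace Helper1

open Polynomial

section Pair

variable (A : Type u) [CommRing A] (I : Ideal A)

theorem isPairHenselization_hens : Hens2.IsPairHenselization A I (Hens A I) :=
  ⟨Hens.henselian A I, fun C _ J f hC hIJ => by
    haveI := hC
    exact Hens.universal A I C J f hIJ⟩

variable {A I}

/-- Any two henselizations of a pair are isomorphic. -/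
theorem nonempty_algEquiv_of_isPairHenselization (B B' : Type u) [CommRing B] [Algebra A B]
    [CommRing B'] [Algebra A B'] (hB : Hens2.IsPairHenselization A I B)
    (hB' : Hens2.IsPairHenselization A I B') : Nonempty (B ≃ₐ[A] B') := by
  obtain ⟨g, hg, -⟩ := hB.2 B' (I.map (algebraMap A B')) (algebraMap A B') hB'.1 le_rfl
  obtain ⟨g', hg', -⟩ := hB'.2 B (I.map (algebraMap A B)) (algebraMap A B) hB.1 le_rfl
  obtain ⟨i, -, hi⟩ := hB.2 B (I.map (algebraMap A B)) (algebraMap A B) hB.1 le_rfl
  obtain ⟨i', -, hi'⟩ := hB'.2 B' (I.map (algebraMap A B')) (algebraMap A B') hB'.1 le_rfl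
  have h1 : g'.comp g = RingHom.id B := by
    rw [hi (g'.comp g) (by
        change (g'.comp g).comp (algebraMap A B) = algebraMap A B
        rw [RingHom.comp_assoc, hg, hg']),
      hi (RingHom.id B) (RingHom.id_comp _)]
  have h2 : g.comp g' = RingHom.id B' := by
    rw [hi' (g.comp g') (by
        change (g.comp g').comp (algebraMap A B') = algebraMap A B'
        rw [RingHom.comp_assoc, hg', hg]),
      hi' (RingHom.id B') (RingHom.id_comp _)]
  exact ⟨{ toFun := g, invFun := g', left_inv := fun x => RingHom.congr_fun h1 x,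
           right_inv := fun x => RingHom.congr_fun h2 x, map_mul' := g.map_mul,
           map_add' := g.map_add, commutes' := fun a => RingHom.congr_fun hg a }⟩

theorem quotientMap_bijective_of {A : Type*} [CommRing A] (J : Ideal A) {B : Type*} [CommRing B]
    [Algebra A B] (hs : ∀ b : B, ∃ a : A, b - algebraMap A B a ∈ J.map (algebraMap A B))
    (hk : ∀ a : A, algebraMap A B a ∈ J.map (algebraMap A B) → a ∈ J) :
    Function.Bijective (Ideal.quotientMap (J.map (algebraMap A B)) (algebraMap A B)
      Ideal.le_comap_map) := by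
  constructor
  · apply Ideal.quotientMap_injective'
    intro a ha
    exact hk a ha
  · intro x
    obtain ⟨b, rfl⟩ := Ideal.Quotient.mk_surjective x
    obtain ⟨a, ha⟩ := hs b
    refine ⟨Ideal.Quotient.mk J a, ?_⟩
    rw [Ideal.quotientMap_mk]
    exact (Ideal.Quotient.eq.mpr ha).symm

variable (A I)

theorem hens_hs (b : Hens A I) :
    ∃ a : A, b - algebraMap A _ a ∈ I.map (algebraMap A (Hens A I)) := by
  obtain ⟨a, ha⟩ := Ideal.Quotient.mk_surjective (Hens.section' A I b)
  refine ⟨a, ?_⟩
  rw [← Hens.ker_section, RingHom.mem_ker, map_sub, AlgHom.commutes,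
    Ideal.Quotient.algebraMap_eq, ha, sub_self]

theorem hens_hk (a : A) (h : algebraMap A (Hens A I) a ∈ I.map (algebraMap A (Hens A I))) :
    a ∈ I := by
  rw [← Hens.ker_section, RingHom.mem_ker, AlgHom.commutes, Ideal.Quotient.algebraMap_eq,
    Ideal.Quotient.eq_zero_iff_mem] at h
  exact h

variable {A I}

theorem map_map_algEquiv {B B' : Type u} [CommRing B] [Algebra A B] [CommRing B'] [Algebra A B']
    (e : B ≃ₐ[A] B') (J : Ideal A) :
    (J.map (algebraMap A B)).map e.toAlgHom.toRingHom = J.map (algebraMap A B') := by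
  rw [Ideal.map_map]
  congr 1
  ext a
  exact e.commutes a

theorem pairHenselization_flat_and_quotient (B : Type u) [CommRing B] [Algebra A B]
    (hB : Hens2.IsPairHenselization A I B) (n : ℕ) :
    Module.Flat A B ∧
      (∀ b : B, ∃ a : A, b - algebraMap A B a ∈ (I ^ n).map (algebraMap A B)) ∧
      (∀ a : A, algebraMap A B a ∈ (I ^ n).map (algebraMap A B) → a ∈ I ^ n) := by
  obtain ⟨e⟩ := nonempty_algEquiv_of_isPairHenselization (Hens A I) B
    (isPairHenselization_hens A I) hB
  haveI := Hens.flat A I
  have hflat : Module.Flat A B := Module.Flat.of_linearEquiv e.symm.toLinearEquiv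
  obtain ⟨hs, hk⟩ := flat_quotient_pow I (Hens A I) (hens_hs A I) (hens_hk A I) n
  refine ⟨hflat, fun b => ?_, fun a ha => ?_⟩
  · obtain ⟨a, ha⟩ := hs (e.symm b)
    refine ⟨a, ?_⟩
    have h : e (e.symm b - algebraMap A _ a) ∈
        ((I ^ n).map (algebraMap A (Hens A I))).map e.toAlgHom.toRingHom :=
      Ideal.mem_map_of_mem e.toAlgHom.toRingHom ha
    rw [map_map_algEquiv, map_sub, e.apply_symm_apply, e.commutes] at h
    exact h
  · apply hk
    have h : e.symm (algebraMap A B a) ∈
        ((I ^ n).map (algebraMap A B)).map e.symm.toAlgHom.toRingHom :=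
      Ideal.mem_map_of_mem e.symm.toAlgHom.toRingHom ha
    rw [map_map_algEquiv, e.symm.commutes] at h
    exact h

end Pair

end Helper1
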