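import Mathlib
import Groth.Prelude.Def_Hens2
import Groth.Agent.Lib.helper1.HensPair
import Groth.Agent.Lib.helper1.Hensel

/-!
# Henselization of a local ring (helper1)
-/

universe u

namespace Helper1

open Polynomial IsLocalRing

section Transfer

theorem eval_map_apply' {R S : Type*} [CommRing R] [CommRing S] (f : R →+* S) (p : R[X]) (r : R) :
    (p.map f).eval (f r) = f (p.eval r) := by
  rw [eval_map, eval₂_at_apply]

theorem henselianRing_map_ringEquiv {R S : Type*} [CommRing R] [CommRing S] (e : R ≃+* S)
    (I : Ideal R) [h : HenselianRing R I] : HenselianRing S (I.map (e : R →+* S)) := by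
  have hcomp : (e.symm : S →+* R).comp (e : R →+* S) = RingHom.id R := by
    ext x
    simp
  have hcomp' : (e : R →+* S).comp (e.symm : S →+* R) = RingHom.id S := by
    ext x
    simp
  have hback : ∀ s : S, s ∈ I.map (e : R →+* S) → e.symm s ∈ I := by
    intro s hs
    have := Ideal.mem_map_of_mem (e.symm : S →+* R) hs
    rw [Ideal.map_map, hcomp, Ideal.map_id] at this
    exact this
  refine ⟨?_, ?_⟩
  · rw [Ideal.map_le_iff_le_comap]
    intro y hy
    rw [Ideal.mem_comap, Ideal.mem_jacobson_bot]
    intro z
    have h1 := Ideal.mem_jacobson_bot.mp (h.jac hy) (e.symm z)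
    have h2 := h1.map (e : R →+* S)
    simpa using h2
  · intro f hf a₀ h₁ h₂
    have hunit : IsUnit (Ideal.Quotient.mk I ((f.map (e.symm : S →+* R)).derivative.eval
        (e.symm a₀))) := by
      rw [derivative_map]
      have e1 : (f.derivative.map (e.symm : S →+* R)).eval (e.symm a₀) =
          e.symm (f.derivative.eval a₀) := eval_map_apply' (e.symm : S →+* R) _ a₀
      rw [e1]
      obtain ⟨c, hc⟩ := isUnit_iff_exists_inv.mp h₂
      obtain ⟨c, rfl⟩ := Ideal.Quotient.mk_surjective c
      rw [← map_mul, ← map_one (Ideal.Quotient.mk _), Ideal.Quotient.eq] at hc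
      have h3 := hback _ hc
      rw [map_sub, map_mul, map_one] at h3
      apply IsUnit.of_mul_eq_one (Ideal.Quotient.mk I (e.symm c))
      rw [← map_mul, ← map_one (Ideal.Quotient.mk I), Ideal.Quotient.eq]
      exact h3
    obtain ⟨a, ha, haa⟩ := h.is_henselian (f.map (e.symm : S →+* R)) (hf.map _) (e.symm a₀)
      (by
        have e1 : (f.map (e.symm : S →+* R)).eval (e.symm a₀) = e.symm (f.eval a₀) :=
          eval_map_apply' (e.symm : S →+* R) _ a₀
        rw [e1]
        exact hback _ h₁) hunit
    refine ⟨e a, ?_, ?_⟩
    · have h4 := ha.map (f := (e : R →+* S))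
      rw [Polynomial.map_map, hcomp', Polynomial.map_id] at h4
      exact h4
    · have h5 := Ideal.mem_map_of_mem (e : R →+* S) haa
      simpa using h5

variable {A : Type u} [CommRing A] {I : Ideal A}

theorem isPairHenselization_of_algEquiv {B B' : Type u} [CommRing B] [Algebra A B] [CommRing B']
    [Algebra A B'] (e : B ≃ₐ[A] B') (hB : Hens2.IsPairHenselization A I B) :
    Hens2.IsPairHenselization A I B' := by
  refine ⟨?_, ?_⟩
  · haveI := hB.1
    have := henselianRing_map_ringEquiv e.toRingEquiv (I.map (algebraMap A B))
    have h2 : (I.map (algebraMap A B)).map (e.toRingEquiv : B →+* B') =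
        I.map (algebraMap A B') := map_map_algEquiv e I
    rw [h2] at this
    exact this
  · intro C _ J f hC hIJ
    obtain ⟨G, hG, hGu⟩ := hB.2 C J f hC hIJ
    refine ⟨G.comp e.symm.toAlgHom.toRingHom, ?_, ?_⟩
    · ext a
      change G (e.symm (algebraMap A B' a)) = f a
      rw [e.symm.commutes, ← hG]
      rfl
    · intro g' hg'
      have h1 : g'.comp e.toAlgHom.toRingHom = G := by
        apply hGu
        ext a
        change g' (e (algebraMap A B a)) = f a
        rw [e.commutes, ← hg']
        rfl
      ext x
      change g' x = G (e.symm x)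
      rw [← h1]
      change g' x = g' (e (e.symm x))
      rw [e.apply_symm_apply]

end Transfer

section Local

variable (R : Type u) [CommRing R] [IsLocalRing R]

/-- The henselization of a local ring. -/
abbrev HensL : Type u := Hens R (maximalIdeal R)

instance : Nontrivial (HensL R) :=
  (Hens.section' R (maximalIdeal R)).toRingHom.domain_nontrivial

noncomputable local instance : Field (R ⧸ maximalIdeal R) := Ideal.Quotient.field _

theorem hensL_isUnit_iff (x : HensL R) :
    IsUnit x ↔ Hens.section' R (maximalIdeal R) x ≠ 0 := by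
  constructor
  · intro h
    exact (h.map (Hens.section' R (maximalIdeal R))).ne_zero
  · intro h
    exact Hens.isUnit_of_isUnit_section R _ x (Ne.isUnit h)

instance : IsLocalRing (HensL R) := IsLocalRing.of_isUnit_or_isUnit_one_sub_self (fun x => by
  by_cases h : Hens.section' R (maximalIdeal R) x = 0
  · right
    rw [hensL_isUnit_iff, map_sub, map_one, h, sub_zero]
    exact one_ne_zero
  · left
    exact (hensL_isUnit_iff R x).mpr h)

theorem hensL_maximalIdeal :
    maximalIdeal (HensL R) = (maximalIdeal R).map (algebraMap R (HensL R)) := by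
  rw [← Hens.ker_section]
  ext x
  rw [mem_maximalIdeal, mem_nonunits_iff, hensL_isUnit_iff, not_not, RingHom.mem_ker]

instance : IsLocalHom (algebraMap R (HensL R)) := ⟨fun a ha => by
  rw [hensL_isUnit_iff, AlgHom.commutes, Ideal.Quotient.algebraMap_eq] at ha
  by_contra h
  exact ha (Ideal.Quotient.eq_zero_iff_mem.mpr ((mem_maximalIdeal a).mpr h))⟩

instance : HenselianLocalRing (HensL R) where
  is_henselian f hf a₀ h₁ h₂ := by
    haveI := Hens.henselian R (maximalIdeal R)
    rw [hensL_maximalIdeal] at h₁ ⊢
    exact HenselianRing.is_henselian f hf a₀ h₁ (h₂.map _)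

theorem map_maximalIdeal_le_of_isLocalHom {T : Type*} [CommRing T] [IsLocalRing T] (f : R →+* T)
    (hf : IsLocalHom f) : (maximalIdeal R).map f ≤ maximalIdeal T := by
  rw [Ideal.map_le_iff_le_comap]
  intro a ha
  rw [Ideal.mem_comap, mem_maximalIdeal, mem_nonunits_iff]
  intro hu
  exact ((mem_maximalIdeal a).mp ha) (hf.map_nonunit a hu)

instance : Hensel.IsHenselization R (HensL R) where
  henselian := inferInstance
  universal T _ _ f hf := by
    haveI : HenselianRing T (maximalIdeal T) := inferInstance
    exact Hens.universal R (maximalIdeal R) T (maximalIdeal T) f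
      (map_maximalIdeal_le_of_isLocalHom R f hf)

theorem nonempty_algEquiv_hensL (S : Type u) [CommRing S] [IsLocalRing S] [Algebra R S]
    [IsLocalHom (algebraMap R S)] [hS : Hensel.IsHenselization R S] :
    Nonempty (HensL R ≃ₐ[R] S) := by
  haveI : HenselianLocalRing S := hS.henselian
  have hH : Hensel.IsHenselization R (HensL R) := inferInstance
  obtain ⟨g, hg, -⟩ := hH.universal S (algebraMap R S) inferInstance
  obtain ⟨g', hg', -⟩ := hS.universal (HensL R) (algebraMap R (HensL R)) inferInstance
  obtain ⟨i, -, hi⟩ := hH.universal (HensL R) (algebraMap R (HensL R)) inferInstance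
  obtain ⟨i', -, hi'⟩ := hS.universal S (algebraMap R S) inferInstance
  have h1 : g'.comp g = RingHom.id (HensL R) := by
    rw [hi (g'.comp g) (by
        change (g'.comp g).comp (algebraMap R (HensL R)) = algebraMap R (HensL R)
        rw [RingHom.comp_assoc, hg, hg']),
      hi (RingHom.id _) (RingHom.id_comp _)]
  have h2 : g.comp g' = RingHom.id S := by
    rw [hi' (g.comp g') (by
        change (g.comp g').comp (algebraMap R S) = algebraMap R S
        rw [RingHom.comp_assoc, hg', hg]),
      hi' (RingHom.id S) (RingHom.id_comp _)]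
  exact ⟨{ toFun := g, invFun := g', left_inv := fun x => RingHom.congr_fun h1 x,
           right_inv := fun x => RingHom.congr_fun h2 x, map_mul' := g.map_mul,
           map_add' := g.map_add, commutes' := fun a => RingHom.congr_fun hg a }⟩

theorem isPairHenselization_of_isHenselization (S : Type u) [CommRing S] [IsLocalRing S]
    [Algebra R S] [IsLocalHom (algebraMap R S)] [Hensel.IsHenselization R S] :
    Hens2.IsPairHenselization R (maximalIdeal R) S := by
  obtain ⟨e⟩ := nonempty_algEquiv_hensL R S
  exact isPairHenselization_of_algEquiv e (isPairHenselization_hens R (maximalIdeal R))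

/-- For a local algebra with local structure map which is surjective modulo `m`, the maximal ideal
is the extension of `m`. -/
theorem maximalIdeal_eq_map_of (S : Type u) [CommRing S] [IsLocalRing S] [Algebra R S]
    [IsLocalHom (algebraMap R S)]
    (hs : ∀ b : S, ∃ a : R, b - algebraMap R S a ∈ (maximalIdeal R).map (algebraMap R S)) :
    (maximalIdeal R).map (algebraMap R S) = maximalIdeal S := by
  have hle : (maximalIdeal R).map (algebraMap R S) ≤ maximalIdeal S :=
    map_maximalIdeal_le_of_isLocalHom R (algebraMap R S) inferInstance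
  apply le_antisymm hle
  intro x hx
  obtain ⟨a, ha⟩ := hs x
  by_cases hau : IsUnit a
  · exfalso
    have h1 : IsUnit (algebraMap R S a) := hau.map _
    have h2 : x - algebraMap R S a ∈ maximalIdeal S := hle ha
    have h3 : algebraMap R S a ∈ maximalIdeal S := by
      have : algebraMap R S a = x - (x - algebraMap R S a) := by ring
      rw [this]
      exact Ideal.sub_mem _ hx h2
    exact ((mem_maximalIdeal _).mp h3) h1
  · have h1 : a ∈ maximalIdeal R := (mem_maximalIdeal a).mpr hau
    have : x = (x - algebraMap R S a) + algebraMap R S a := by ring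
    rw [this]
    exact Ideal.add_mem _ ha (Ideal.mem_map_of_mem _ h1)

theorem isHenselization_of_isPairHenselization (S : Type u) [CommRing S] [IsLocalRing S]
    [Algebra R S] [IsLocalHom (algebraMap R S)]
    (hS : Hens2.IsPairHenselization R (maximalIdeal R) S) : Hensel.IsHenselization R S := by
  obtain ⟨-, hs, -⟩ := pairHenselization_flat_and_quotient S hS 1
  rw [pow_one] at hs
  have hmax := maximalIdeal_eq_map_of R S hs
  haveI := hS.1
  refine ⟨⟨?_⟩, ?_⟩
  · intro f hf a₀ h₁ h₂
    rw [← hmax] at h₁ ⊢
    exact HenselianRing.is_henselian f hf a₀ h₁ (h₂.map _)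
  · intro T _ _ f hf
    exact hS.2 T (maximalIdeal T) f inferInstance (map_maximalIdeal_le_of_isLocalHom R f hf)

end Local

end Helper1
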