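import Mathlib
import Groth.Agent.Lib.helper1.HensLocal
import Groth.Agent.Lib.helper5.SmoothReduced

/-!
# Further properties of the henselization (helper1)
-/

universe u

namespace Helper1

open Polynomial TensorProduct IsLocalRing

variable (A : Type u) [CommRing A] (I : Ideal A)

theorem Hens.of_trR (i j : Nbhd A I) (h : i ≤ j) (x : i.L) :
    Hens.of A I j (Nbhd.trR i j h x) = Hens.of A I i x :=
  Ring.DirectLimit.of_f h x

instance Nbhd.formallyEtale_L (i : Nbhd A I) : Algebra.FormallyEtale A i.L := by
  haveI : Algebra.FormallyEtale A i.E := inferInstance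
  infer_instance

theorem hens_formallyEtale : Algebra.FormallyEtale A (Hens A I) := by
  rw [Algebra.FormallyEtale.iff_comp_bijective]
  intro B _ _ J hJ
  constructor
  · intro g1 g2 h
    have key : ∀ i : Nbhd A I, g1.comp (Hens.of A I i) = g2.comp (Hens.of A I i) := by
      intro i
      apply (Algebra.FormallyEtale.comp_bijective A i.L J hJ).1
      change (Ideal.Quotient.mkₐ A J).comp (g1.comp (Hens.of A I i)) =
        (Ideal.Quotient.mkₐ A J).comp (g2.comp (Hens.of A I i))
      rw [← AlgHom.comp_assoc, ← AlgHom.comp_assoc]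
      exact congrArg (fun φ => φ.comp (Hens.of A I i)) h
    apply AlgHom.coe_ringHom_injective
    apply Ring.DirectLimit.hom_ext
    intro i
    refine RingHom.ext fun x => ?_
    exact AlgHom.congr_fun (key i) x
  · intro g
    have hl : ∀ i : Nbhd A I, ∃ gi : i.L →ₐ[A] B,
        (Ideal.Quotient.mkₐ A J).comp gi = g.comp (Hens.of A I i) :=
      fun i => (Algebra.FormallyEtale.comp_bijective A i.L J hJ).2 _
    choose G hG using hl
    have hcompat : ∀ (i j : Nbhd A I) (h : i ≤ j) (x : i.L),
        (G j).toRingHom (Nbhd.trR i j h x) = (G i).toRingHom x := by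
      intro i j h x
      have : (G j).comp (Nbhd.tr i j h) = G i := by
        apply (Algebra.FormallyEtale.comp_bijective A i.L J hJ).1
        change (Ideal.Quotient.mkₐ A J).comp ((G j).comp (Nbhd.tr i j h)) =
          (Ideal.Quotient.mkₐ A J).comp (G i)
        rw [← AlgHom.comp_assoc, hG j, hG i, AlgHom.comp_assoc]
        congr 1
        refine AlgHom.ext fun x => ?_
        exact Ring.DirectLimit.of_f h x
      exact AlgHom.congr_fun this x
    let Gr : Hens A I →+* B :=
      Ring.DirectLimit.lift _ _ B (fun i => (G i).toRingHom) hcompat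
    have hGr : ∀ (i : Nbhd A I) (x : i.L), Gr (Hens.of A I i x) = G i x := fun i x =>
      Ring.DirectLimit.lift_of _ _ _ _ _
    let Ga : Hens A I →ₐ[A] B :=
      { Gr with
        commutes' := fun a => by
          have h1 : algebraMap A (Hens A I) a =
              Hens.of A I (Classical.arbitrary _) (algebraMap A _ a) :=
            ((Hens.of A I _).commutes a).symm
          change Gr (algebraMap A (Hens A I) a) = _
          rw [h1, hGr]
          exact (G _).commutes a }
    refine ⟨Ga, ?_⟩
    apply AlgHom.coe_ringHom_injective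
    apply Ring.DirectLimit.hom_ext
    intro i
    refine RingHom.ext fun x => ?_
    change Ideal.Quotient.mk J (Gr (Hens.of A I i x)) = g (Hens.of A I i x)
    rw [hGr]
    exact AlgHom.congr_fun (hG i) x

theorem hens_isReduced [IsReduced A] : IsReduced (Hens A I) := by
  have hL : ∀ i : Nbhd A I, IsReduced i.L := by
    intro i
    haveI : IsReduced i.E := Groth.Agent.Lib.helper5.h5_isReduced_of_smooth A i.E
    infer_instance
  refine ⟨fun x hx => ?_⟩
  obtain ⟨n, hn⟩ := hx
  obtain ⟨i, y, rfl⟩ := Ring.DirectLimit.exists_of x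
  rw [← map_pow] at hn
  obtain ⟨j, hij, hj⟩ := Ring.DirectLimit.of.zero_exact hn
  rw [map_pow] at hj
  haveI := hL j
  have h0 : Nbhd.trR i j hij y = 0 := IsReduced.eq_zero _ ⟨n, hj⟩
  rw [← Ring.DirectLimit.of_f hij y, h0, map_zero]

end Helper1
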