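import Mathlib
import Groth.Agent.Lib.helper1.Henselization2
import Groth.Agent.Lib.helper1.HensProps

/-!
# Finite data in the henselization of a pair descend to an étale neighbourhood (helper1)
-/

universe u

namespace Helper1

open Polynomial TensorProduct

section LocAway

variable {E : Type*} [CommRing E] (M : Submonoid E)

/-- The canonical map `E_s → M⁻¹E` for `s ∈ M`. -/
noncomputable def awayToLoc (s : E) (hs : s ∈ M) : Localization.Away s →ₐ[E] Localization M :=
  IsLocalization.liftAlgHom (M := Submonoid.powers s) (f := Algebra.ofId E (Localization M))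
    (by
      rintro ⟨_, n, rfl⟩
      exact IsLocalization.map_units (Localization M) (⟨s ^ n, pow_mem hs n⟩ : M))

/-- The canonical map `E_s → E_{su}`. -/
noncomputable def awayMul (s u : E) : Localization.Away s →ₐ[E] Localization.Away (s * u) :=
  IsLocalization.liftAlgHom (M := Submonoid.powers s)
    (f := Algebra.ofId E (Localization.Away (s * u)))
    (by
      rintro ⟨_, n, rfl⟩
      have h1 : IsUnit (algebraMap E (Localization.Away (s * u)) (s * u)) :=
        IsLocalization.Away.algebraMap_isUnit (s * u)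
      rw [map_mul] at h1
      show IsUnit (algebraMap E (Localization.Away (s * u)) (s ^ n))
      rw [map_pow]
      exact (isUnit_of_mul_isUnit_left h1).pow n)

theorem awayToLoc_awayMul (s u : E) (hs : s ∈ M) (hu : u ∈ M) (x : Localization.Away s) :
    awayToLoc M (s * u) (mul_mem hs hu) (awayMul s u x) = awayToLoc M s hs x := by
  haveI := IsLocalization.algHom_subsingleton (R := E) (S := Localization.Away s)
    (P := Localization M) (Submonoid.powers s)
  have h : (awayToLoc M (s * u) (mul_mem hs hu)).comp (awayMul s u) = awayToLoc M s hs :=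
    Subsingleton.elim _ _
  exact AlgHom.congr_fun h x

theorem exists_awayMul_eq_zero (s : E) (hs : s ∈ M) (w : Localization.Away s)
    (hw : awayToLoc M s hs w = 0) : ∃ u ∈ M, ∀ u' : E, awayMul s (u * u') w = 0 := by
  obtain ⟨e, sN, rfl⟩ := IsLocalization.exists_mk'_eq (Submonoid.powers s) w
  have h1 := IsLocalization.mk'_spec (Localization.Away s) e sN
  have h2 := congrArg (awayToLoc M s hs) h1
  rw [map_mul, hw, zero_mul, AlgHom.commutes] at h2
  obtain ⟨u, hu⟩ := (IsLocalization.map_eq_zero_iff M (Localization M) e).mp h2.symm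
  refine ⟨u, u.2, fun u' => ?_⟩
  have h3 := congrArg (awayMul s (u * u')) h1
  rw [map_mul, AlgHom.commutes, AlgHom.commutes] at h3
  have h5 : IsUnit (algebraMap E (Localization.Away (s * (u * u'))) (s * (u * u'))) :=
    IsLocalization.Away.algebraMap_isUnit _
  have h4 : algebraMap E (Localization.Away (s * (u * u'))) e = 0 := by
    have hunit : IsUnit (algebraMap E (Localization.Away (s * (u * u'))) (u : E)) := by
      have h6 : s * (u * u') = (u : E) * (s * u') := by ring
      have h5' : IsUnit (algebraMap E (Localization.Away (s * (u * u'))) (u : E) *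
          algebraMap E (Localization.Away (s * (u * u'))) (s * u')) := by
        rw [← map_mul, ← h6]
        exact h5
      exact isUnit_of_mul_isUnit_left h5'
    have h7 : algebraMap E (Localization.Away (s * (u * u'))) (u : E) *
        algebraMap E (Localization.Away (s * (u * u'))) e = 0 := by
      rw [← map_mul, hu, map_zero]
    exact (hunit.mul_right_eq_zero).mp h7
  rw [h4] at h3
  have hunit2 : IsUnit (algebraMap E (Localization.Away (s * (u * u'))) (sN : E)) := by
    obtain ⟨N, hN⟩ := sN.2
    have hN' : s ^ N = (sN : E) := hN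
    rw [← hN', map_pow]
    rw [map_mul] at h5
    exact (isUnit_of_mul_isUnit_left h5).pow N
  exact (hunit2.mul_left_eq_zero).mp h3

end LocAway

section Stage

variable (A : Type u) [CommRing A] (I : Ideal A)

/-- Finitely many elements of the henselization, subject to finitely many polynomial relations,
come from an étale neighbourhood of `(A, I)` where the relations already hold. -/
theorem exists_stage {κ : Type} [Fintype κ] (z : κ → Hens A I) {ν : Type} [Fintype ν]
    (r : ν → MvPolynomial κ A) (hr : ∀ l, MvPolynomial.aeval z (r l) = 0) :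
    ∃ (A' : Type u) (_ : CommRing A') (_ : Algebra A A'), Algebra.Etale A A' ∧
      ∃ (σ' : A' →ₐ[A] A ⧸ I) (ι : A' →ₐ[A] Hens A I) (z' : κ → A'),
        RingHom.ker σ' = I.map (algebraMap A A') ∧ (∀ x, Hens.section' A I (ι x) = σ' x) ∧
        (∀ k, ι (z' k) = z k) ∧ ∀ l, MvPolynomial.aeval z' (r l) = 0 := by
  classical
  -- Step 1: a common stage for the elements
  have h1 : ∀ k, ∃ (i : Nbhd A I) (y : i.L), Hens.of A I i y = z k :=
    fun k => Ring.DirectLimit.exists_of (z k)
  choose i₀ y₀ hy₀ using h1
  obtain ⟨i, hi⟩ := Finset.exists_le (Finset.univ.image i₀)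
  have hi' : ∀ k, i₀ k ≤ i := fun k => hi _ (Finset.mem_image_of_mem _ (Finset.mem_univ k))
  let y : κ → i.L := fun k => Nbhd.trR (i₀ k) i (hi' k) (y₀ k)
  have hy : ∀ k, Hens.of A I i (y k) = z k := fun k => by
    rw [← hy₀ k]
    exact Hens.of_trR A I (i₀ k) i (hi' k) (y₀ k)
  -- Step 2: a later stage where the relations hold
  have h2 : ∀ l, ∃ (j : Nbhd A I) (hij : i ≤ j),
      Nbhd.trR i j hij (MvPolynomial.aeval y (r l)) = 0 := by
    intro l
    have h0 : Hens.of A I i (MvPolynomial.aeval y (r l)) = 0 := by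
      rw [MvPolynomial.comp_aeval_apply]
      have : (fun k => Hens.of A I i (y k)) = z := funext hy
      rw [this]
      exact hr l
    exact Ring.DirectLimit.of.zero_exact (f' := fun i j h => Nbhd.trR i j h) h0
  choose j₀ hij₀ hj₀ using h2
  obtain ⟨j, hj⟩ := Finset.exists_le (insert i (Finset.univ.image j₀))
  have hj' : ∀ l, j₀ l ≤ j := fun l =>
    hj _ (Finset.mem_insert_of_mem (Finset.mem_image_of_mem _ (Finset.mem_univ l)))
  have hij : i ≤ j := hj _ (Finset.mem_insert_self _ _)
  let y' : κ → j.L := fun k => Nbhd.trR i j hij (y k)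
  have hy' : ∀ k, Hens.of A I j (y' k) = z k := fun k => by
    rw [← hy k]
    exact Hens.of_trR A I i j hij (y k)
  have hrel : ∀ l, MvPolynomial.aeval y' (r l) = 0 := by
    intro l
    have e1 : MvPolynomial.aeval y' (r l) = Nbhd.tr i j hij (MvPolynomial.aeval y (r l)) := by
      rw [MvPolynomial.comp_aeval_apply]
      rfl
    rw [e1]
    have e2 : Nbhd.trR i j hij (MvPolynomial.aeval y (r l)) =
        Nbhd.trR (j₀ l) j (hj' l) (Nbhd.trR i (j₀ l) (hij₀ l) (MvPolynomial.aeval y (r l))) := by
      rw [Nbhd.trR_eq i j hij ((Nbhd.tr (j₀ l) j (hj' l)).comp (Nbhd.tr i (j₀ l) (hij₀ l)))]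
      rfl
    show Nbhd.trR i j hij (MvPolynomial.aeval y (r l)) = 0
    rw [e2, hj₀ l, map_zero]
  -- Step 3: common denominator
  set M := unitsSub I j.σ with hM
  obtain ⟨b, hb⟩ := IsLocalization.exist_integer_multiples M (Finset.univ : Finset κ) y'
  have hb' : ∀ k, ∃ e : j.E, algebraMap j.E j.L e = algebraMap j.E j.L (b : j.E) * y' k := by
    intro k
    obtain ⟨e, he⟩ := hb k (Finset.mem_univ k)
    exact ⟨e, by rw [he, Algebra.smul_def]⟩
  choose e he using hb'
  let bp : Submonoid.powers (b : j.E) := ⟨b, 1, pow_one _⟩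
  let z₁ : κ → Localization.Away (b : j.E) := fun k => IsLocalization.mk' _ (e k) bp
  have hbunit : IsUnit (algebraMap j.E j.L (b : j.E)) := IsLocalization.map_units j.L b
  have hz₁ : ∀ k, awayToLoc M (b : j.E) b.2 (z₁ k) = y' k := by
    intro k
    have h3 := IsLocalization.mk'_spec (Localization.Away (b : j.E)) (e k) bp
    have h4 := congrArg (awayToLoc M (b : j.E) b.2) h3
    rw [map_mul, AlgHom.commutes, AlgHom.commutes, he k, mul_comm] at h4
    exact hbunit.mul_left_cancel h4
  -- Step 4: kill the relations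
  let lam₁ : Localization.Away (b : j.E) →ₐ[A] j.L := (awayToLoc M (b : j.E) b.2).restrictScalars A
  have hw : ∀ l, awayToLoc M (b : j.E) b.2 (MvPolynomial.aeval z₁ (r l)) = 0 := by
    intro l
    show lam₁ (MvPolynomial.aeval z₁ (r l)) = 0
    rw [MvPolynomial.comp_aeval_apply]
    have : (fun k => lam₁ (z₁ k)) = y' := funext hz₁
    rw [this]
    exact hrel l
  have h5 : ∀ l, ∃ u ∈ M, ∀ u' : j.E,
      awayMul (b : j.E) (u * u') (MvPolynomial.aeval z₁ (r l)) = 0 :=
    fun l => exists_awayMul_eq_zero M (b : j.E) b.2 _ (hw l)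
  choose u hu hukill using h5
  set U : j.E := ∏ l, u l with hU
  have hUM : U ∈ M := Submonoid.prod_mem _ fun l _ => hu l
  set t : j.E := (b : j.E) * U with ht
  have htM : t ∈ M := mul_mem b.2 hUM
  let μ : Localization.Away (b : j.E) →ₐ[A] Localization.Away t :=
    (awayMul (b : j.E) U).restrictScalars A
  let z' : κ → Localization.Away t := fun k => μ (z₁ k)
  have hkill : ∀ l, MvPolynomial.aeval z' (r l) = 0 := by
    intro l
    have e1 : MvPolynomial.aeval z' (r l) = μ (MvPolynomial.aeval z₁ (r l)) := by
      rw [MvPolynomial.comp_aeval_apply]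
    rw [e1]
    have e2 : U = u l * ∏ l' ∈ Finset.univ.erase l, u l' := by
      rw [hU, Finset.mul_prod_erase _ _ (Finset.mem_univ l)]
    have e3 := hukill l (∏ l' ∈ Finset.univ.erase l, u l')
    rw [← e2] at e3
    exact e3
  -- Step 5: the section and the map to the henselization
  have ht1 : IsUnit (j.σ t) := (mem_unitsSub I j.σ).mp htM
  have ht2 : ∀ s, j.σ s = 0 → s * t ∈ Ideal.map (algebraMap A j.E) I := by
    intro s hs
    have : s ∈ RingHom.ker j.σ := hs
    rw [j.hker] at this
    exact Ideal.mul_mem_right _ _ this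
  obtain ⟨σ'', hσ'', hkerσ''⟩ := exists_section_localization I j.σ t ht1 ht2
  let ι : Localization.Away t →ₐ[A] Hens A I :=
    (Hens.of A I j).comp ((awayToLoc M t htM).restrictScalars A)
  haveI : Algebra.Etale A (Localization.Away t) := Algebra.Etale.comp A j.E _
  refine ⟨Localization.Away t, inferInstance, inferInstance, inferInstance, σ'', ι, z', hkerσ'',
    ?_, ?_, hkill⟩
  · intro x
    have := algHom_eq_of_ker_eq I σ'' hkerσ'' (D := A ⧸ I)
      (fun a ha => by
        rw [Ideal.Quotient.algebraMap_eq]; exact Ideal.Quotient.eq_zero_iff_mem.mpr ha)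
      ((Hens.section' A I).comp ι) σ''
    exact AlgHom.congr_fun this x
  · intro k
    show Hens.of A I j (awayToLoc M t htM (awayMul (b : j.E) U (z₁ k))) = z k
    rw [awayToLoc_awayMul M (b : j.E) U b.2 hUM, hz₁ k, hy' k]

end Stage

end Helper1
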