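import Mathlib
import Groth.Agent.Lib.helper1.HensStage

/-!
# Spreading out homomorphisms and isomorphisms of local rings of finitely presented algebras
(helper1)
-/

namespace Helper1.Spread

open Helper1

section NoBase

variable {T : Type*} [CommRing T]

theorem exists_num_of_isUnit (q : Ideal T) [q.IsPrime] (s : T) (hs : s ∈ q.primeCompl)
    (c : Localization.Away s) (hc : IsUnit (awayToLoc q.primeCompl s hs c)) :
    ∃ a ∈ q.primeCompl, ∃ k : ℕ,
      c * algebraMap T (Localization.Away s) (s ^ k) = algebraMap T (Localization.Away s) a := by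
  obtain ⟨e, sN, rfl⟩ := IsLocalization.exists_mk'_eq (Submonoid.powers s) c
  obtain ⟨k, hk⟩ := sN.2
  have hk' : s ^ k = (sN : T) := hk
  have h1 := IsLocalization.mk'_spec (Localization.Away s) e sN
  refine ⟨e, ?_, k, ?_⟩
  · have h2 := congrArg (awayToLoc q.primeCompl s hs) h1
    rw [map_mul, AlgHom.commutes, AlgHom.commutes] at h2
    have h3 : IsUnit (algebraMap T (Localization q.primeCompl) e) := by
      rw [← h2]
      refine hc.mul ?_
      have h4 : (sN : T) ∈ q.primeCompl := by rw [← hk']; exact pow_mem hs k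
      exact IsLocalization.map_units (Localization q.primeCompl) (⟨sN, h4⟩ : q.primeCompl)
    exact (IsLocalization.AtPrime.isUnit_to_map_iff (Localization.AtPrime q) q e).mp h3
  · rw [hk']
    exact h1

theorem isUnit_awayMul_of_num (s a : T) (c : Localization.Away s) (k : ℕ)
    (h : c * algebraMap T (Localization.Away s) (s ^ k) = algebraMap T (Localization.Away s) a) :
    IsUnit (awayMul s a c) := by
  have h1 := congrArg (awayMul s a) h
  rw [map_mul, AlgHom.commutes, AlgHom.commutes] at h1
  have h5 : IsUnit (algebraMap T (Localization.Away (s * a)) (s * a)) :=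
    IsLocalization.Away.algebraMap_isUnit (s * a)
  rw [map_mul] at h5
  have h6 : IsUnit (algebraMap T (Localization.Away (s * a)) a) := isUnit_of_mul_isUnit_right h5
  rw [← h1] at h6
  exact isUnit_of_mul_isUnit_left h6

end NoBase

section Base

variable (R : Type*) [CommRing R] {T : Type*} [CommRing T] [Algebra R T]

/-- canonical map `T → T_s` as an `R`-algebra hom -/
noncomputable def canR (s : T) : T →ₐ[R] Localization.Away s :=
  IsScalarTower.toAlgHom R T (Localization.Away s)

/-- canonical map `T → M⁻¹T` as an `R`-algebra hom -/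
noncomputable def locR (M : Submonoid T) : T →ₐ[R] Localization M :=
  IsScalarTower.toAlgHom R T (Localization M)

/-- canonical map `T_s → M⁻¹T` as an `R`-algebra hom -/
noncomputable def toLocR (M : Submonoid T) (s : T) (hs : s ∈ M) :
    Localization.Away s →ₐ[R] Localization M :=
  (awayToLoc M s hs).restrictScalars R

/-- canonical map `T_s → T_{su}` as an `R`-algebra hom -/
noncomputable def mulR (s u : T) : Localization.Away s →ₐ[R] Localization.Away (s * u) :=
  (awayMul s u).restrictScalars R

theorem canR_apply (s x : T) : canR R s x = algebraMap T (Localization.Away s) x := rfl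

theorem locR_apply (M : Submonoid T) (x : T) :
    locR R M x = algebraMap T (Localization M) x := rfl

theorem toLocR_canR (M : Submonoid T) (s : T) (hs : s ∈ M) (x : T) :
    toLocR R M s hs (canR R s x) = locR R M x :=
  (awayToLoc M s hs).commutes x

theorem mulR_canR (s u x : T) : mulR R s u (canR R s x) = canR R (s * u) x :=
  (awayMul s u).commutes x

theorem toLocR_mulR (M : Submonoid T) (s u : T) (hs : s ∈ M) (hu : u ∈ M)
    (x : Localization.Away s) :
    toLocR R M (s * u) (mul_mem hs hu) (mulR R s u x) = toLocR R M s hs x :=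
  awayToLoc_awayMul M s u hs hu x

theorem ext_away {B : Type*} [CommRing B] [Algebra R B] (s : T)
    (f g : Localization.Away s →ₐ[R] B) (h : ∀ x : T, f (canR R s x) = g (canR R s x)) :
    f = g := by
  apply AlgHom.coe_ringHom_injective
  apply IsLocalization.ringHom_ext (Submonoid.powers s)
  ext x
  exact h x

/-- extend an `R`-algebra hom across `T → T_s` -/
noncomputable def liftR {B : Type*} [CommRing B] [Algebra R B] (s : T) (f : T →ₐ[R] B)
    (hf : IsUnit (f s)) : Localization.Away s →ₐ[R] B :=
  IsLocalization.liftAlgHom (M := Submonoid.powers s) (f := f) (by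
    rintro ⟨_, n, rfl⟩
    show IsUnit (f (s ^ n))
    rw [map_pow]
    exact hf.pow n)

theorem liftR_canR {B : Type*} [CommRing B] [Algebra R B] (s : T) (f : T →ₐ[R] B)
    (hf : IsUnit (f s)) (x : T) : liftR R s f hf (canR R s x) = f x :=
  IsLocalization.lift_eq _ x

/-- A homomorphism from a finitely presented algebra to a localization factors through a
localization away from one element. -/
theorem exists_lift_of_fp {P : Type*} [CommRing P] [Algebra R P]
    [Algebra.FinitePresentation R P] (M : Submonoid T) (θ : P →ₐ[R] Localization M) :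
    ∃ (s : T) (hs : s ∈ M) (θ₀ : P →ₐ[R] Localization.Away s),
      ∀ p, toLocR R M s hs (θ₀ p) = θ p := by
  classical
  obtain ⟨n, π, hπ, gens, hgens⟩ := Algebra.FinitePresentation.out (R := R) (A := P)
  let y : Fin n → Localization M := fun i => θ (π (MvPolynomial.X i))
  obtain ⟨b, hb⟩ := IsLocalization.exist_integer_multiples M (Finset.univ : Finset (Fin n)) y
  have hb' : ∀ k, ∃ e : T,
      algebraMap T (Localization M) e = algebraMap T (Localization M) (b : T) * y k := by
    intro k
    obtain ⟨e, he⟩ := hb k (Finset.mem_univ k)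
    exact ⟨e, by rw [he, Algebra.smul_def]⟩
  choose e he using hb'
  let bp : Submonoid.powers (b : T) := ⟨b, 1, pow_one _⟩
  let z₁ : Fin n → Localization.Away (b : T) := fun k => IsLocalization.mk' _ (e k) bp
  have hbunit : IsUnit (algebraMap T (Localization M) (b : T)) := IsLocalization.map_units _ b
  have hz₁ : ∀ k, awayToLoc M (b : T) b.2 (z₁ k) = y k := by
    intro k
    have h3 := IsLocalization.mk'_spec (Localization.Away (b : T)) (e k) bp
    have h4 := congrArg (awayToLoc M (b : T) b.2) h3
    rw [map_mul, AlgHom.commutes, AlgHom.commutes, he k, mul_comm] at h4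
    exact hbunit.mul_left_cancel h4
  let ρ : MvPolynomial (Fin n) R →ₐ[R] Localization.Away (b : T) := MvPolynomial.aeval z₁
  have hρ : ∀ a, toLocR R M (b : T) b.2 (ρ a) = θ (π a) := by
    intro a
    have : (toLocR R M (b : T) b.2).comp ρ = θ.comp π := by
      apply MvPolynomial.algHom_ext
      intro i
      show awayToLoc M (b : T) b.2 (MvPolynomial.aeval z₁ (MvPolynomial.X i)) =
        θ (π (MvPolynomial.X i))
      rw [MvPolynomial.aeval_X]
      exact hz₁ i
    exact AlgHom.congr_fun this a
  have hw : ∀ g : gens, awayToLoc M (b : T) b.2 (ρ g) = 0 := by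
    intro g
    have h1 : (g : MvPolynomial (Fin n) R) ∈ RingHom.ker π.toRingHom := by
      rw [← hgens]; exact Ideal.subset_span g.2
    have h3 : π g = 0 := RingHom.mem_ker.mp h1
    have h2 := hρ g
    rw [h3, map_zero] at h2
    exact h2
  have h5 : ∀ g : gens, ∃ u ∈ M, ∀ u' : T, awayMul (b : T) (u * u') (ρ g) = 0 :=
    fun g => exists_awayMul_eq_zero M (b : T) b.2 _ (hw g)
  choose u hu hukill using h5
  have hUM : (∏ g : gens, u g) ∈ M := Submonoid.prod_mem _ fun g _ => hu g
  have hkill : ∀ g : gens, mulR R (b : T) (∏ g : gens, u g) (ρ g) = 0 := by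
    intro g
    have e2 : (∏ g : gens, u g) = u g * ∏ l' ∈ Finset.univ.erase g, u l' := by
      rw [Finset.mul_prod_erase _ _ (Finset.mem_univ g)]
    have e3 := hukill g (∏ l' ∈ Finset.univ.erase g, u l')
    rw [← e2] at e3
    exact e3
  have hker' : RingHom.ker π.toRingHom ≤
      RingHom.ker ((mulR R (b : T) (∏ g : gens, u g)).comp ρ).toRingHom := by
    rw [← hgens, Ideal.span_le]
    intro g hg
    exact RingHom.mem_ker.mpr (hkill ⟨g, hg⟩)
  refine ⟨(b : T) * ∏ g : gens, u g, mul_mem b.2 hUM,
    AlgHom.liftOfSurjective π hπ ((mulR R (b : T) (∏ g : gens, u g)).comp ρ) hker', ?_⟩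
  intro p
  obtain ⟨a, rfl⟩ := hπ p
  rw [AlgHom.liftOfSurjective_apply]
  show toLocR R M _ (mul_mem b.2 hUM) (mulR R (b : T) (∏ g : gens, u g) (ρ a)) = θ (π a)
  rw [toLocR_mulR R M (b : T) _ b.2 hUM]
  exact hρ a

/-- Two homomorphisms from a finite type algebra to `T_s` that agree in `M⁻¹T` agree in
some `T_{su}`, `u ∈ M`. -/
theorem exists_mulR_eq {P : Type*} [CommRing P] [Algebra R P] [Algebra.FiniteType R P]
    (M : Submonoid T) (s : T) (hs : s ∈ M) (θ₁ θ₂ : P →ₐ[R] Localization.Away s)
    (h : ∀ p, toLocR R M s hs (θ₁ p) = toLocR R M s hs (θ₂ p)) :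
    ∃ u ∈ M, ∀ p, mulR R s u (θ₁ p) = mulR R s u (θ₂ p) := by
  classical
  obtain ⟨gens, hgens⟩ := (Algebra.FiniteType.out : (⊤ : Subalgebra R P).FG)
  have hw : ∀ g : gens, awayToLoc M s hs (θ₁ g - θ₂ g) = 0 := by
    intro g
    rw [map_sub, sub_eq_zero]
    exact h g
  have h5 : ∀ g : gens, ∃ u ∈ M, ∀ u' : T, awayMul s (u * u') (θ₁ g - θ₂ g) = 0 :=
    fun g => exists_awayMul_eq_zero M s hs _ (hw g)
  choose u hu hukill using h5
  refine ⟨∏ g : gens, u g, Submonoid.prod_mem _ fun g _ => hu g, ?_⟩
  have hcomp : (mulR R s (∏ g : gens, u g)).comp θ₁ = (mulR R s (∏ g : gens, u g)).comp θ₂ := by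
    apply AlgHom.ext_of_adjoin_eq_top hgens
    intro g hg
    have e2 : (∏ g : gens, u g) = u ⟨g, hg⟩ * ∏ l' ∈ Finset.univ.erase ⟨g, hg⟩, u l' := by
      rw [Finset.mul_prod_erase _ _ (Finset.mem_univ _)]
    have e3 := hukill ⟨g, hg⟩ (∏ l' ∈ Finset.univ.erase ⟨g, hg⟩, u l')
    rw [← e2, map_sub, sub_eq_zero] at e3
    exact e3
  exact fun p => AlgHom.congr_fun hcomp p

/-- Extending a homomorphism `P → T_s` to `P_t → T_{sa}` when `t` becomes a unit at `q`. -/
theorem exists_extend (q : Ideal T) [q.IsPrime] {P : Type*} [CommRing P] [Algebra R P]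
    (s : T) (hs : s ∈ q.primeCompl) (ψ : P →ₐ[R] Localization.Away s) (t : P)
    (ht : IsUnit (toLocR R q.primeCompl s hs (ψ t))) :
    ∃ a ∈ q.primeCompl, ∃ Ψ : Localization.Away t →ₐ[R] Localization.Away (s * a),
      ∀ y : P, Ψ (canR R t y) = mulR R s a (ψ y) := by
  obtain ⟨a, ha, k, hk⟩ := exists_num_of_isUnit q s hs (ψ t) ht
  have hunit : IsUnit (((mulR R s a).comp ψ) t) := isUnit_awayMul_of_num s a (ψ t) k hk
  exact ⟨a, ha, liftR R t ((mulR R s a).comp ψ) hunit, fun y => liftR_canR R t _ hunit y⟩

end Base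

end Helper1.Spread
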