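import Mathlib
import Groth.Agent.Lib.helper1.SpreadIso

/-!
# Generic finite presentation for finite type extensions of domains (helper1)
-/

universe u

namespace Helper1.GenericFP

open Helper1 Helper1.Spread Polynomial

/-- one generator -/
theorem c1 {R S : Type*} [CommRing R] [IsDomain R] [CommRing S] [IsDomain S] [Algebra R S]
    (hinj : Function.Injective (algebraMap R S)) (t : S) (ht : Algebra.adjoin R {t} = ⊤) :
    ∃ g : S, g ≠ 0 ∧ Algebra.FinitePresentation R (Localization.Away g) := by
  classical
  let π : R[X] →ₐ[R] S := Polynomial.aeval t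
  have hπ : Function.Surjective π := by
    rw [← AlgHom.range_eq_top, ← Algebra.adjoin_singleton_eq_range_aeval, ht]
  by_cases hker : RingHom.ker π.toRingHom = ⊥
  · have hbij : Function.Bijective π :=
      ⟨(RingHom.injective_iff_ker_eq_bot π.toRingHom).mpr hker, hπ⟩
    haveI : Algebra.FinitePresentation R S :=
      Algebra.FinitePresentation.equiv (AlgEquiv.ofBijective π hbij)
    exact ⟨1, one_ne_zero, inferInstance⟩
  · have hex : ∃ n : ℕ, ∃ h : R[X], h ∈ RingHom.ker π.toRingHom ∧ h ≠ 0 ∧ h.natDegree = n := by
      obtain ⟨h, hh, hh0⟩ := Submodule.exists_mem_ne_zero_of_ne_bot hker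
      exact ⟨_, h, hh, hh0, rfl⟩
    obtain ⟨h, hhk, hh0, hhn⟩ := Nat.find_spec hex
    have hmin : ∀ b : R[X], b ∈ RingHom.ker π.toRingHom → b ≠ 0 →
        h.natDegree ≤ b.natDegree := by
      intro b hb hb0
      rw [hhn]
      exact Nat.find_min' hex ⟨b, hb, hb0, rfl⟩
    obtain ⟨f, hf⟩ : ∃ f, f = h.leadingCoeff := ⟨_, rfl⟩
    have hf0 : f ≠ 0 := by rw [hf]; exact Polynomial.leadingCoeff_ne_zero.mpr hh0
    have hdiv : ∀ (n : ℕ) (b : R[X]), b.natDegree = n → b ∈ RingHom.ker π.toRingHom →
        ∃ N : ℕ, C f ^ N * b ∈ Ideal.span {h} := by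
      intro n
      induction n using Nat.strong_induction_on with
      | _ n ih =>
        intro b hbn hb
        by_cases hb0 : b = 0
        · exact ⟨0, by rw [hb0, mul_zero]; exact zero_mem _⟩
        have hle : h.natDegree ≤ b.natDegree := hmin b hb hb0
        obtain ⟨b', hb'⟩ : ∃ b', b' =
            C f * b - C b.leadingCoeff * X ^ (b.natDegree - h.natDegree) * h := ⟨_, rfl⟩
        have hb'k : b' ∈ RingHom.ker π.toRingHom := by
          rw [hb']
          exact sub_mem (Ideal.mul_mem_left _ _ hb) (Ideal.mul_mem_left _ _ hhk)
        by_cases hb'0 : b' = 0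
        · refine ⟨1, ?_⟩
          have h1 : C f * b = C b.leadingCoeff * X ^ (b.natDegree - h.natDegree) * h := by
            rw [← sub_eq_zero, ← hb', hb'0]
          rw [pow_one, h1]
          exact Ideal.mul_mem_left _ _ (Ideal.mem_span_singleton_self h)
        have hdeg : b'.natDegree < b.natDegree := by
          apply Polynomial.natDegree_lt_natDegree hb'0
          have h1 : (C f * b).degree = b.degree := Polynomial.degree_C_mul hf0
          have h2 : (C b.leadingCoeff * X ^ (b.natDegree - h.natDegree) * h).degree =
              b.degree := by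
            rw [Polynomial.degree_mul, Polynomial.degree_mul,
              Polynomial.degree_C (Polynomial.leadingCoeff_ne_zero.mpr hb0),
              Polynomial.degree_X_pow, zero_add, Polynomial.degree_eq_natDegree hh0,
              Polynomial.degree_eq_natDegree hb0, ← Nat.cast_add, Nat.sub_add_cancel hle]
          have h3 : (C f * b).leadingCoeff =
              (C b.leadingCoeff * X ^ (b.natDegree - h.natDegree) * h).leadingCoeff := by
            rw [Polynomial.leadingCoeff_mul, Polynomial.leadingCoeff_mul,
              Polynomial.leadingCoeff_mul, Polynomial.leadingCoeff_C, Polynomial.leadingCoeff_C,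
              Polynomial.leadingCoeff_X_pow, mul_one, ← hf, mul_comm]
          have h4 := Polynomial.degree_sub_lt (h1.trans h2.symm)
            (mul_ne_zero (Polynomial.C_ne_zero.mpr hf0) hb0) h3
          rw [h1, ← hb'] at h4
          exact h4
        obtain ⟨N, hN⟩ := ih b'.natDegree (hbn ▸ hdeg) b' rfl hb'k
        refine ⟨N + 1, ?_⟩
        have h5 : C f ^ (N + 1) * b = C f ^ N * b' +
            C f ^ N * (C b.leadingCoeff * X ^ (b.natDegree - h.natDegree)) * h := by
          rw [hb']; ring
        rw [h5]
        exact add_mem hN (Ideal.mul_mem_left _ _ (Ideal.mem_span_singleton_self h))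
    obtain ⟨g, hg⟩ : ∃ g, g = algebraMap R S f := ⟨_, rfl⟩
    have hg0 : g ≠ 0 := by
      intro h0
      apply hf0
      apply hinj
      rw [← hg, h0, map_zero]
    have hπf : π (C f) = g := by rw [hg]; exact Polynomial.aeval_C t f
    refine ⟨g, hg0, ?_⟩
    have hunit : IsUnit (((canR R g).comp π) (C f)) := by
      show IsUnit (algebraMap S (Localization.Away g) (π (C f)))
      rw [hπf]
      exact IsLocalization.Away.algebraMap_isUnit g
    let Φ : Localization.Away (C f : R[X]) →ₐ[R] Localization.Away g :=
      liftR R (C f) ((canR R g).comp π) hunit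
    have hΦ : ∀ b : R[X], Φ (algebraMap R[X] (Localization.Away (C f : R[X])) b) =
        algebraMap S (Localization.Away g) (π b) :=
      fun b => liftR_canR R (C f) _ hunit b
    have hΦs : Function.Surjective Φ := by
      intro z
      obtain ⟨⟨y, ⟨_, n, rfl⟩⟩, hz⟩ := IsLocalization.surj (Submonoid.powers g) z
      have hz' : z * algebraMap S (Localization.Away g) (g ^ n) =
          algebraMap S (Localization.Away g) y := hz
      obtain ⟨b, rfl⟩ := hπ y
      refine ⟨IsLocalization.mk' (Localization.Away (C f : R[X])) b
        (⟨C f ^ n, n, rfl⟩ : Submonoid.powers (C f : R[X])), ?_⟩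
      have h1 := IsLocalization.mk'_spec (Localization.Away (C f : R[X])) b
        (⟨C f ^ n, n, rfl⟩ : Submonoid.powers (C f : R[X]))
      have h2 := congrArg Φ h1
      rw [map_mul, hΦ, hΦ, map_pow, hπf, ← hz'] at h2
      have hu : IsUnit (algebraMap S (Localization.Away g) (g ^ n)) := by
        rw [map_pow]
        exact (IsLocalization.Away.algebraMap_isUnit g).pow n
      exact hu.mul_left_injective h2
    have hΦk : RingHom.ker Φ.toRingHom =
        Ideal.span {algebraMap R[X] (Localization.Away (C f : R[X])) h} := by
      apply le_antisymm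
      · intro w hw
        have hw0 : Φ w = 0 := hw
        obtain ⟨⟨b, ⟨_, n, rfl⟩⟩, hwb⟩ :=
          IsLocalization.surj (Submonoid.powers (C f : R[X])) w
        have hwb' : w * algebraMap R[X] (Localization.Away (C f : R[X])) (C f ^ n) =
            algebraMap R[X] (Localization.Away (C f : R[X])) b := hwb
        have h1 : algebraMap S (Localization.Away g) (π b) = 0 := by
          rw [← hΦ, ← hwb', map_mul, hw0, zero_mul]
        obtain ⟨⟨_, m, rfl⟩, hm⟩ :=
          (IsLocalization.map_eq_zero_iff (Submonoid.powers g) (Localization.Away g) (π b)).mp h1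
        have hm' : g ^ m * π b = 0 := hm
        have h2 : π b = 0 := (mul_eq_zero.mp hm').resolve_left (pow_ne_zero m hg0)
        obtain ⟨N, hN⟩ := hdiv b.natDegree b rfl h2
        obtain ⟨c, hc⟩ := Ideal.mem_span_singleton'.mp hN
        have hu : IsUnit (algebraMap R[X] (Localization.Away (C f : R[X])) (C f ^ (n + N))) := by
          rw [map_pow]
          exact (IsLocalization.Away.algebraMap_isUnit _).pow _
        have h3 : w * algebraMap R[X] (Localization.Away (C f : R[X])) (C f ^ (n + N)) =
            algebraMap R[X] (Localization.Away (C f : R[X])) c *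
              algebraMap R[X] (Localization.Away (C f : R[X])) h := by
          rw [pow_add, map_mul, ← mul_assoc, hwb', ← map_mul, ← map_mul, hc, mul_comm]
        have h4 : w * algebraMap R[X] (Localization.Away (C f : R[X])) (C f ^ (n + N)) ∈
            Ideal.span {algebraMap R[X] (Localization.Away (C f : R[X])) h} := by
          rw [h3]
          exact Ideal.mul_mem_left _ _ (Ideal.mem_span_singleton_self _)
        exact (Ideal.mul_unit_mem_iff_mem _ hu).mp h4
      · rw [Ideal.span_le, Set.singleton_subset_iff]
        show Φ (algebraMap R[X] (Localization.Away (C f : R[X])) h) = 0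
        rw [hΦ, show π h = 0 from hhk, map_zero]
    exact Algebra.FinitePresentation.of_surjective hΦs
      (by rw [hΦk]; exact ⟨{_}, by rw [Finset.coe_singleton]⟩)

/-- transitivity -/
theorem c2 {R S' S : Type*} [CommRing R] [CommRing S'] [CommRing S] [Algebra R S']
    [Algebra S' S] [Algebra R S] [IsScalarTower R S' S] (g' : S') (g₁ : S)
    [Algebra.FinitePresentation R (Localization.Away g')]
    [Algebra.FinitePresentation S' (Localization.Away g₁)] :
    Algebra.FinitePresentation R (Localization.Away (g₁ * algebraMap S' S g')) := by
  -- B₂ : localize B₁ = S_{g₁} at the image of g'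
  obtain ⟨c, hc⟩ : ∃ c : Localization.Away g₁,
    c = algebraMap S (Localization.Away g₁) (algebraMap S' S g') := ⟨_, rfl⟩
  haveI : Algebra.FinitePresentation (Localization.Away g₁) (Localization.Away c) :=
    IsLocalization.Away.finitePresentation c
  haveI : Algebra.FinitePresentation S' (Localization.Away c) :=
    Algebra.FinitePresentation.trans S' (Localization.Away g₁) (Localization.Away c)
  -- units
  have hu0 : IsUnit (algebraMap S (Localization.Away (g₁ * algebraMap S' S g'))
      (g₁ * algebraMap S' S g')) := IsLocalization.Away.algebraMap_isUnit _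
  rw [map_mul] at hu0
  have hu1 : IsUnit (algebraMap S (Localization.Away (g₁ * algebraMap S' S g'))
      (algebraMap S' S g')) := isUnit_of_mul_isUnit_right hu0
  have hu2 : IsUnit (algebraMap S (Localization.Away (g₁ * algebraMap S' S g')) g₁) :=
    isUnit_of_mul_isUnit_left hu0
  -- F : B₂ → B
  have hunitF : IsUnit ((mulR S' g₁ (algebraMap S' S g')) c) := by
    rw [hc]
    show IsUnit (mulR S' g₁ (algebraMap S' S g') (canR S' g₁ (algebraMap S' S g')))
    rw [mulR_canR]
    exact hu1
  let F : Localization.Away c →ₐ[S'] Localization.Away (g₁ * algebraMap S' S g') :=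
    liftR S' c (mulR S' g₁ (algebraMap S' S g')) hunitF
  have hF : ∀ y : Localization.Away g₁, F (canR S' c y) = mulR S' g₁ (algebraMap S' S g') y :=
    fun y => liftR_canR S' c _ hunitF y
  -- G : B → B₂
  have hunitG : IsUnit (((canR S' c).comp (canR S' g₁)) (g₁ * algebraMap S' S g')) := by
    show IsUnit (canR S' c (canR S' g₁ (g₁ * algebraMap S' S g')))
    rw [map_mul, map_mul]
    refine IsUnit.mul ?_ ?_
    · exact (IsLocalization.Away.algebraMap_isUnit g₁ :
        IsUnit (algebraMap S (Localization.Away g₁) g₁)).map (canR S' c)
    · show IsUnit (algebraMap (Localization.Away g₁) (Localization.Away c)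
        (algebraMap S (Localization.Away g₁) (algebraMap S' S g')))
      rw [← hc]
      exact IsLocalization.Away.algebraMap_isUnit c
  let G : Localization.Away (g₁ * algebraMap S' S g') →ₐ[S'] Localization.Away c :=
    liftR S' (g₁ * algebraMap S' S g') ((canR S' c).comp (canR S' g₁)) hunitG
  have hG : ∀ x : S, G (canR S' (g₁ * algebraMap S' S g') x) = canR S' c (canR S' g₁ x) :=
    fun x => liftR_canR S' (g₁ * algebraMap S' S g') _ hunitG x
  have hGm : ∀ y : Localization.Away g₁,
      G (mulR S' g₁ (algebraMap S' S g') y) = canR S' c y := by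
    intro y
    have : G.comp (mulR S' g₁ (algebraMap S' S g')) = canR S' c := by
      apply ext_away S' g₁
      intro x
      show G (mulR S' g₁ (algebraMap S' S g') (canR S' g₁ x)) = canR S' c (canR S' g₁ x)
      rw [mulR_canR, hG]
    exact AlgHom.congr_fun this y
  let e : Localization.Away c ≃ₐ[S'] Localization.Away (g₁ * algebraMap S' S g') :=
    AlgEquiv.ofAlgHom F G
      (by
        apply ext_away S' (g₁ * algebraMap S' S g')
        intro x
        show F (G (canR S' (g₁ * algebraMap S' S g') x)) = canR S' (g₁ * algebraMap S' S g') x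
        rw [hG, hF, mulR_canR])
      (by
        apply ext_away S' c
        intro y
        show G (F (canR S' c y)) = canR S' c y
        rw [hF, hGm])
  haveI : Algebra.FinitePresentation S' (Localization.Away (g₁ * algebraMap S' S g')) :=
    Algebra.FinitePresentation.equiv e
  -- now the S'_{g'}-algebra structure
  have hu' : IsUnit ((Algebra.ofId S' (Localization.Away (g₁ * algebraMap S' S g'))) g') := by
    show IsUnit (algebraMap S' (Localization.Away (g₁ * algebraMap S' S g')) g')
    rw [IsScalarTower.algebraMap_apply S' S (Localization.Away (g₁ * algebraMap S' S g'))]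
    exact hu1
  let lam : Localization.Away g' →ₐ[S'] Localization.Away (g₁ * algebraMap S' S g') :=
    liftR S' g' (Algebra.ofId S' (Localization.Away (g₁ * algebraMap S' S g'))) hu'
  have hlam : ∀ x : S', lam (algebraMap S' (Localization.Away g') x) =
      algebraMap S' (Localization.Away (g₁ * algebraMap S' S g')) x :=
    fun x => liftR_canR S' g' _ hu' x
  letI : Algebra (Localization.Away g') (Localization.Away (g₁ * algebraMap S' S g')) :=
    lam.toRingHom.toAlgebra
  haveI : IsScalarTower S' (Localization.Away g') (Localization.Away (g₁ * algebraMap S' S g')) :=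
    IsScalarTower.of_algebraMap_eq (fun x => (hlam x).symm)
  haveI : Algebra.FinitePresentation (Localization.Away g')
      (Localization.Away (g₁ * algebraMap S' S g')) :=
    Algebra.FinitePresentation.of_restrict_scalars_finitePresentation S' (Localization.Away g')
      (Localization.Away (g₁ * algebraMap S' S g'))
  haveI : IsScalarTower R (Localization.Away g') (Localization.Away (g₁ * algebraMap S' S g')) :=
    IsScalarTower.of_algebraMap_eq (fun r => by
      show algebraMap R (Localization.Away (g₁ * algebraMap S' S g')) r =
        lam (algebraMap R (Localization.Away g') r)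
      rw [IsScalarTower.algebraMap_apply R S' (Localization.Away g'), hlam,
        IsScalarTower.algebraMap_apply R S (Localization.Away (g₁ * algebraMap S' S g')),
        IsScalarTower.algebraMap_apply S' S (Localization.Away (g₁ * algebraMap S' S g')),
        ← IsScalarTower.algebraMap_apply R S' S])
  exact Algebra.FinitePresentation.trans R (Localization.Away g')
    (Localization.Away (g₁ * algebraMap S' S g'))

theorem c0 {R S : Type*} [CommRing R] [CommRing S] [Algebra R S]
    (hinj : Function.Injective (algebraMap R S)) (hadj : (⊥ : Subalgebra R S) = ⊤) :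
    Algebra.FinitePresentation R S := by
  have hsurj : Function.Surjective (algebraMap R S) := by
    intro x
    have : x ∈ (⊥ : Subalgebra R S) := hadj ▸ Algebra.mem_top
    exact Algebra.mem_bot.mp this
  exact Algebra.FinitePresentation.equiv
    (AlgEquiv.ofBijective (Algebra.ofId R S) ⟨hinj, hsurj⟩)

theorem claim (n : ℕ) : ∀ (R S : Type u) [CommRing R] [IsDomain R] [CommRing S] [IsDomain S]
    [Algebra R S], Function.Injective (algebraMap R S) →
    (∃ s : Finset S, s.card ≤ n ∧ Algebra.adjoin R (s : Set S) = ⊤) →
    ∃ g : S, g ≠ 0 ∧ Algebra.FinitePresentation R (Localization.Away g) := by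
  induction n with
  | zero =>
    intro R S _ _ _ _ _ hinj hs
    obtain ⟨s, hs, hadj⟩ := hs
    have hs0 : s = ∅ := Finset.card_eq_zero.mp (Nat.le_zero.mp hs)
    rw [hs0, Finset.coe_empty, Algebra.adjoin_empty] at hadj
    haveI : Algebra.FinitePresentation R S := c0 hinj hadj
    exact ⟨1, one_ne_zero, inferInstance⟩
  | succ n ih =>
    intro R S _ _ _ _ _ hinj hs
    obtain ⟨s, hs, hadj⟩ := hs
    classical
    rcases s.eq_empty_or_nonempty with hs0 | ⟨t, hts⟩
    · rw [hs0, Finset.coe_empty, Algebra.adjoin_empty] at hadj
      haveI : Algebra.FinitePresentation R S := c0 hinj hadj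
      exact ⟨1, one_ne_zero, inferInstance⟩
    · set S' : Subalgebra R S := Algebra.adjoin R ((s.erase t : Finset S) : Set S) with hS'
      have hinj'' : Function.Injective (algebraMap S' S) := Subtype.val_injective
      have hinj' : Function.Injective (algebraMap R S') := by
        intro a b hab
        apply hinj
        have := congrArg (algebraMap S' S) hab
        rw [← IsScalarTower.algebraMap_apply, ← IsScalarTower.algebraMap_apply] at this
        exact this
      have hgen' : ∃ u : Finset S', u.card ≤ n ∧ Algebra.adjoin R (u : Set S') = ⊤ := by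
        refine ⟨(s.erase t).subtype (· ∈ S'), ?_, ?_⟩
        · rw [Finset.card_subtype]
          refine (Finset.card_filter_le _ _).trans ?_
          rw [Finset.card_erase_of_mem hts]
          omega
        · have h1 := Algebra.adjoin_adjoin_coe_preimage (R := R)
            (s := ((s.erase t : Finset S) : Set S))
          rw [← h1]
          congr 1
          ext x
          simp [Finset.mem_subtype, and_comm]
      obtain ⟨g', hg'0, hFP'⟩ := ih R S' hinj' hgen'
      have hadj'' : Algebra.adjoin S' ({t} : Set S) = ⊤ := by
        rw [eq_top_iff]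
        intro x _
        have hx : x ∈ Algebra.adjoin R (s : Set S) := hadj ▸ Algebra.mem_top
        refine Algebra.adjoin_induction
          (p := fun x _ => x ∈ Algebra.adjoin S' ({t} : Set S)) ?_ ?_ ?_ ?_ hx
        · intro y hy
          by_cases hyt : y = t
          · rw [hyt]
            exact Algebra.subset_adjoin rfl
          · have hy' : y ∈ S' :=
              Algebra.subset_adjoin (Finset.mem_coe.mpr (Finset.mem_erase.mpr ⟨hyt, hy⟩))
            exact Subalgebra.algebraMap_mem _ (⟨y, hy'⟩ : S')
        · intro r
          rw [IsScalarTower.algebraMap_apply R S' S]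
          exact Subalgebra.algebraMap_mem _ _
        · intro x y _ _ hx hy
          exact add_mem hx hy
        · intro x y _ _ hx hy
          exact mul_mem hx hy
      obtain ⟨g₁, hg₁0, hFP₁⟩ := c1 hinj'' t hadj''
      haveI := hFP'
      haveI := hFP₁
      refine ⟨g₁ * algebraMap S' S g', mul_ne_zero hg₁0 ?_, c2 g' g₁⟩
      intro h0
      apply hg'0
      apply hinj''
      rw [h0, map_zero]

end Helper1.GenericFP
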