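import Mathlib

/-!
# Height-one primes in Noetherian domains (helper1)
-/

namespace Helper1.HeightOne
universe u

theorem infinite_height_one {R : Type u} [CommRing R] [IsDomain R] [IsNoetherianRing R]
    (Q : Ideal R) [hQ : Q.IsPrime] (hQ2 : 2 ≤ Q.height) :
    {p : Ideal R | p.IsPrime ∧ p.height = 1 ∧ p ≤ Q}.Infinite := by
  intro hfin
  classical
  let T : Finset (Ideal R) := insert ⊥ hfin.toFinset
  have hT : ∀ p, p ∈ T ↔ p = ⊥ ∨ (p.IsPrime ∧ p.height = 1 ∧ p ≤ Q) := by
    intro p
    simp only [T, Finset.mem_insert, Set.Finite.mem_toFinset, Set.mem_setOf_eq]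
  have hprime : ∀ p ∈ T, p.IsPrime := by
    intro p hp
    rcases (hT p).mp hp with rfl | hp
    · exact Ideal.isPrime_bot
    · exact hp.1
  have hheight : ∀ p ∈ T, p.height ≤ 1 := by
    intro p hp
    rcases (hT p).mp hp with rfl | hp
    · rw [Ideal.height_bot]; exact zero_le
    · exact hp.2.1.le
  have hnot : ¬ ((Q : Set R) ⊆ ⋃ p ∈ (T : Set (Ideal R)), ((fun p : Ideal R => p) p : Set R)) := by
    intro hsub
    rw [Ideal.subset_union_prime (f := fun p : Ideal R => p) ⊥ ⊥
      (fun p hp _ _ => hprime p hp)] at hsub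
    obtain ⟨p, hpT, hQp⟩ := hsub
    have h1 := (Ideal.height_mono hQp).trans (hheight p hpT)
    have h2 : (2 : ℕ∞) ≤ 1 := hQ2.trans h1
    exact absurd h2 (by decide)
  obtain ⟨x, hxQ, hxnot⟩ := Set.not_subset.mp hnot
  have hxne : x ≠ 0 := by
    rintro rfl
    apply hxnot
    exact Set.mem_iUnion₂.mpr ⟨⊥, Finset.mem_coe.mpr ((hT ⊥).mpr (Or.inl rfl)), Ideal.zero_mem _⟩
  have hle : Ideal.span {x} ≤ Q := (Ideal.span_singleton_le_iff_mem _).mpr hxQ
  obtain ⟨P, hPmin, hPQ⟩ := Ideal.exists_minimalPrimes_le hle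
  haveI hPprime : P.IsPrime := hPmin.1.1
  have hxP : x ∈ P := hPmin.1.2 (Ideal.mem_span_singleton_self x)
  have hP1 : P.height ≤ 1 :=
    Ideal.height_le_one_of_isPrincipal_of_mem_minimalPrimes (Ideal.span {x}) P hPmin
  have hP0 : P.height ≠ 0 := by
    rw [Ne, Ideal.height_eq_zero_iff_eq_bot]
    rintro rfl
    exact hxne (by simpa using hxP)
  have hPh : P.height = 1 := le_antisymm hP1 (Order.one_le_iff_ne_zero.mpr hP0)
  apply hxnot
  exact Set.mem_iUnion₂.mpr ⟨P, Finset.mem_coe.mpr ((hT P).mpr (Or.inr ⟨hPprime, hPh, hPQ⟩)), hxP⟩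

theorem mem_minimalPrimes_span_of_height_one {R : Type u} [CommRing R] [IsDomain R]
    (p : Ideal R) [p.IsPrime] (hp : p.height = 1) (f : R) (hf : f ≠ 0) (hfp : f ∈ p) :
    p ∈ (Ideal.span {f}).minimalPrimes := by
  refine ⟨⟨inferInstance, (Ideal.span_singleton_le_iff_mem _).mpr hfp⟩, ?_⟩
  rintro q ⟨hqprime, hfq⟩ hqp
  by_contra hnot
  have hlt : q < p := lt_of_le_of_ne hqp (fun h => hnot (h ▸ le_rfl))
  haveI := hqprime
  have h1 := Ideal.height_add_one_le_of_lt_of_isPrime hlt
  rw [hp] at h1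
  have hq0 : q.height = 0 := by
    have : q.height + 1 ≤ 0 + 1 := by simpa using h1
    exact le_antisymm ((ENat.add_le_add_iff_right ENat.one_ne_top).mp this) zero_le
  rw [Ideal.height_eq_zero_iff_eq_bot] at hq0
  subst hq0
  exact hf (by simpa using (Ideal.span_singleton_le_iff_mem _).mp hfq)

theorem finite_primes_of_mem_all {A : Type u} [CommRing A] [IsDomain A] [IsNoetherianRing A]
    (f : A) (hf : f ≠ 0) (hall : ∀ q : Ideal A, q.IsPrime → q ≠ ⊥ → f ∈ q) :
    {q : Ideal A | q.IsPrime}.Finite := by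
  have hminfin := Ideal.finite_minimalPrimes_of_isNoetherianRing A (Ideal.span {f})
  have hsub : {q : Ideal A | q.IsPrime} ⊆ insert ⊥ (Ideal.span {f}).minimalPrimes := by
    intro q hq
    haveI : q.IsPrime := hq
    by_cases hq0 : q = ⊥
    · exact Or.inl hq0
    · right
      have hfq := hall q hq hq0
      have hh : q.height ≤ 1 := by
        by_contra hgt
        push Not at hgt
        have h2 : 2 ≤ q.height := by
          have := Order.add_one_le_of_lt hgt
          rwa [one_add_one_eq_two] at this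
        have hinf := infinite_height_one q h2
        apply hinf
        apply hminfin.subset
        rintro p ⟨hpprime, hph, hpq⟩
        haveI := hpprime
        exact mem_minimalPrimes_span_of_height_one p hph f hf
          (hall p hpprime (Ideal.ne_bot_of_height_eq_one hph))
      have hq1 : q.height = 1 := le_antisymm hh (Order.one_le_iff_ne_zero.mpr
        (by rw [Ne, Ideal.height_eq_zero_iff_eq_bot]; exact hq0))
      exact mem_minimalPrimes_span_of_height_one q hq1 f hf hfq
  exact (hminfin.insert ⊥).subset hsub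

end Helper1.HeightOne
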