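import Mathlib
import Groth.Prelude.Def_Hens2
import Groth.Agent.Lib.helper1.HenselIdem3
import Groth.Agent.Lib.helper1.HensPair

/-!
# Henselization of pairs and the Chinese remainder theorem (helper1)

* `Helper1.gabberCond_quotient`, `Helper1.henselianRing_quotient'` : quotients of henselian pairs by
  arbitrary ideals are henselian pairs.
* `Helper1.isPairHenselization_quotient_idem` : cutting a pair-henselization by an idempotent.
* `Helper1.bijective_pi_of_idempotents` : complete orthogonal idempotents decompose an algebra.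
* `Helper1.pairHenselization_crt` : `(A, ⋂ I_i)^h ≅ ∏ (A, I_i)^h` for pairwise comaximal `I_i`.
-/

universe u

namespace Helper1

open Polynomial

/-- Gabber's condition passes to arbitrary quotients. -/
theorem gabberCond_quotient {B : Type*} [CommRing B] (J K : Ideal B) (hG : GabberCond J) :
    GabberCond (J.map (Ideal.Quotient.mk K)) := by
  refine ⟨map_mk_le_jacobson K hG.1, ?_⟩
  intro n hn p hp hpc
  have hsurj : Function.Surjective (Ideal.Quotient.mk K) := Ideal.Quotient.mk_surjective
  choose c hcJ hc using fun k => (Ideal.mem_map_iff_of_surjective _ hsurj).mp (hpc k)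
  set q : B[X] := ∑ k ∈ Finset.range (n + 1), monomial k (c k) with hqdef
  have hqdeg : q.natDegree ≤ n :=
    natDegree_sum_le_of_forall_le _ _ (fun k hk =>
      (natDegree_monomial_le _).trans (Finset.mem_range_succ_iff.mp hk))
  have hqcoeff : ∀ k, q.coeff k = if k ∈ Finset.range (n + 1) then c k else 0 := by
    intro k
    rw [hqdef, finsetSum_coeff]
    simp only [coeff_monomial]
    rw [Finset.sum_ite_eq']
  have hqmap : q.map (Ideal.Quotient.mk K) = p := by
    ext k
    rw [coeff_map, hqcoeff]
    split_ifs with hk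
    · exact hc k
    · have hk' : n < k := by
        rw [Finset.mem_range] at hk
        omega
      rw [map_zero, coeff_eq_zero_of_natDegree_lt (lt_of_le_of_lt hp hk')]
  have hqc : ∀ k, q.coeff k ∈ J := by
    intro k
    rw [hqcoeff]
    split_ifs
    · exact hcJ k
    · exact J.zero_mem
  obtain ⟨α, hα1, hαroot⟩ := hG.2 n hn q hqdeg hqc
  refine ⟨Ideal.Quotient.mk K α, ?_, ?_⟩
  · rw [← map_one (Ideal.Quotient.mk K), ← map_sub]
    exact Ideal.mem_map_of_mem _ hα1
  · have h1 := hαroot.map (f := Ideal.Quotient.mk K)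
    have h3 : (X ^ n * (X - 1) + q).map (Ideal.Quotient.mk K) = X ^ n * (X - 1) + p := by
      simp only [Polynomial.map_add, Polynomial.map_mul, Polynomial.map_pow, Polynomial.map_X,
        Polynomial.map_sub, Polynomial.map_one]
      rw [hqmap]
    rw [h3] at h1
    exact h1

/-- Quotient of a henselian pair by an arbitrary ideal. -/
theorem henselianRing_quotient' {B : Type u} [CommRing B] (J K : Ideal B) [hJ : HenselianRing B J] :
    HenselianRing (B ⧸ K) (J.map (Ideal.Quotient.mk K)) := by
  rw [henselianRing_iff_gabberCond]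
  exact gabberCond_quotient J K ((henselianRing_iff_gabberCond J).mp hJ)

/-- Cutting a pair-henselization by an idempotent. -/
theorem isPairHenselization_quotient_idem {A : Type u} [CommRing A] (I₀ I₁ : Ideal A)
    (h01 : I₀ ≤ I₁) (B : Type u) [CommRing B] [Algebra A B]
    (hB : Hens2.IsPairHenselization A I₀ B)
    (a : A) (ha1 : a - 1 ∈ I₁) (ha0 : ∀ x ∈ I₁, a * x ∈ I₀)
    (e : B) (he : IsIdempotentElem e) (hea : e - algebraMap A B a ∈ I₀.map (algebraMap A B)) :
    Hens2.IsPairHenselization A I₁ (B ⧸ Ideal.span {1 - e}) := by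
  obtain ⟨hBh, hBu⟩ := hB
  obtain ⟨K, hK⟩ : ∃ K : Ideal B, K = Ideal.span {1 - e} := ⟨_, rfl⟩
  rw [← hK]
  have heK : Ideal.Quotient.mk K e = 1 := by
    have h1 : (1 : B) - e ∈ K := by rw [hK]; exact Ideal.mem_span_singleton_self _
    have h2 := Ideal.Quotient.eq.mpr h1
    rw [map_one] at h2
    exact h2.symm
  have hmapA : ∀ L : Ideal A, L.map (algebraMap A (B ⧸ K)) =
      (L.map (algebraMap A B)).map (Ideal.Quotient.mk K) := by
    intro L
    rw [Ideal.map_map]
    first
      | rfl
      | rw [IsScalarTower.algebraMap_eq A B (B ⧸ K), Ideal.Quotient.algebraMap_eq]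
  have hpairEq : I₁.map (algebraMap A (B ⧸ K)) =
      (I₀.map (algebraMap A B)).map (Ideal.Quotient.mk K) := by
    apply le_antisymm
    · rw [Ideal.map_le_iff_le_comap]
      intro x hx
      rw [Ideal.mem_comap]
      have hax : algebraMap A (B ⧸ K) (a * x) ∈
          (I₀.map (algebraMap A B)).map (Ideal.Quotient.mk K) := by
        rw [← hmapA]
        exact Ideal.mem_map_of_mem _ (ha0 x hx)
      have hae : algebraMap A (B ⧸ K) a - 1 ∈
          (I₀.map (algebraMap A B)).map (Ideal.Quotient.mk K) := by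
        rw [← heK, ← Ideal.Quotient.mk_algebraMap A K a, ← map_sub]
        apply Ideal.mem_map_of_mem
        have := (I₀.map (algebraMap A B)).neg_mem hea
        rwa [neg_sub] at this
      have hx' : algebraMap A (B ⧸ K) x = algebraMap A (B ⧸ K) (a * x) -
          (algebraMap A (B ⧸ K) a - 1) * algebraMap A (B ⧸ K) x := by
        rw [map_mul]; ring
      rw [hx']
      exact Ideal.sub_mem _ hax (Ideal.mul_mem_right _ _ hae)
    · rw [← hmapA]
      exact Ideal.map_mono h01
  have hhens : HenselianRing (B ⧸ K) (I₁.map (algebraMap A (B ⧸ K))) := by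
    rw [hpairEq]
    haveI := hBh
    exact henselianRing_quotient' _ K
  refine ⟨hhens, ?_⟩
  intro C _ J' f hC hfJ
  have hf0 : I₀.map f ≤ J' := (Ideal.map_mono h01).trans hfJ
  obtain ⟨g₀, hg₀, hg₀u⟩ := hBu C J' f hC hf0
  have hg₀' : g₀.comp (algebraMap A B) = f := hg₀
  have hg₀J : ∀ y ∈ I₀.map (algebraMap A B), g₀ y ∈ J' := by
    intro y hy
    have := Ideal.mem_map_of_mem g₀ hy
    rw [Ideal.map_map, hg₀'] at this
    exact hf0 this
  have hge : g₀ e = 1 := by
    apply idempotent_eq_of_sub_mem_jacobson (he.map g₀) IsIdempotentElem.one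
    apply hC.jac
    have h1 : g₀ e - f a ∈ J' := by
      have := hg₀J _ hea
      rwa [map_sub, ← RingHom.comp_apply, hg₀'] at this
    have h2 : f a - 1 ∈ J' := by
      apply hfJ
      have := Ideal.mem_map_of_mem f ha1
      rwa [map_sub, map_one] at this
    have h3 : g₀ e - 1 = (g₀ e - f a) + (f a - 1) := by ring
    rw [h3]
    exact J'.add_mem h1 h2
  have hgK : ∀ y ∈ K, g₀ y = 0 := by
    intro y hy
    rw [hK, Ideal.mem_span_singleton'] at hy
    obtain ⟨c, rfl⟩ := hy
    rw [map_mul, map_sub, map_one, hge, sub_self, mul_zero]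
  refine ⟨Ideal.Quotient.lift K g₀ hgK, ?_, ?_⟩
  · show (Ideal.Quotient.lift K g₀ hgK).comp (algebraMap A (B ⧸ K)) = f
    ext x
    rw [RingHom.comp_apply, ← Ideal.Quotient.mk_algebraMap A K x, Ideal.Quotient.lift_mk,
      ← RingHom.comp_apply, hg₀']
  · intro g' hg'
    have hg'' : g'.comp (algebraMap A (B ⧸ K)) = f := hg'
    apply Ideal.Quotient.ringHom_ext
    have h1 : g'.comp (Ideal.Quotient.mk K) = g₀ := by
      refine hg₀u _ ?_
      show (g'.comp (Ideal.Quotient.mk K)).comp (algebraMap A B) = f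
      ext x
      have := RingHom.congr_fun hg'' x
      rw [RingHom.comp_apply, ← Ideal.Quotient.mk_algebraMap A K x] at this
      exact this
    rw [h1]
    ext y
    rw [RingHom.comp_apply, Ideal.Quotient.lift_mk]

/-- A complete family of orthogonal idempotents decomposes an algebra as a product. -/
theorem bijective_pi_of_idempotents (A : Type*) [CommRing A] {B : Type*} [CommRing B]
    [Algebra A B] {n : ℕ} (e : Fin n → B) (he : ∀ i, IsIdempotentElem (e i))
    (horth : ∀ i j, i ≠ j → e i * e j = 0) (hprod : ∏ i, (1 - e i) = 0) :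
    Function.Bijective (AlgHom.pi (fun i => Ideal.Quotient.mkₐ A (Ideal.span {1 - e i})) :
      B →ₐ[A] ∀ i, B ⧸ Ideal.span {1 - e i}) := by
  constructor
  · rw [injective_iff_map_eq_zero]
    intro x hx
    have hxi : ∀ i, x * (1 - e i) = x := by
      intro i
      have h1 : Ideal.Quotient.mk (Ideal.span {1 - e i}) x = 0 := congrFun hx i
      rw [Ideal.Quotient.eq_zero_iff_mem, Ideal.mem_span_singleton'] at h1
      obtain ⟨c, hc⟩ := h1
      have h2 := (he i).one_sub
      rw [← hc, mul_assoc, h2.eq]
    have hall : ∀ s : Finset (Fin n), x * ∏ i ∈ s, (1 - e i) = x := by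
      intro s
      induction s using Finset.induction_on with
      | empty => simp
      | insert a s ha ih => rw [Finset.prod_insert ha, ← mul_assoc, hxi, ih]
    have h3 := hall Finset.univ
    rw [hprod, mul_zero] at h3
    exact h3.symm
  · intro y
    have hcop : Pairwise (Function.onFun IsCoprime fun i => Ideal.span {1 - e i}) := by
      intro i j hij
      show IsCoprime (Ideal.span {1 - e i}) (Ideal.span {1 - e j})
      rw [Ideal.isCoprime_iff_exists]
      refine ⟨1 - e i, Ideal.mem_span_singleton_self _, e i * (1 - e j),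
        Ideal.mul_mem_left _ _ (Ideal.mem_span_singleton_self _), ?_⟩
      rw [mul_sub, mul_one, horth i j hij, sub_zero, sub_add_cancel]
    obtain ⟨r, hr⟩ := Ideal.pi_quotient_surjective hcop y
    exact ⟨r, funext hr⟩

/-- **CRT for henselizations of pairs.** -/
theorem pairHenselization_crt (A : Type u) [CommRing A] {n : ℕ} (I : Fin n → Ideal A)
    (hI : Pairwise fun i j => I i ⊔ I j = ⊤) (B : Type u) [CommRing B] [Algebra A B]
    (hB : Hens2.IsPairHenselization A (⨅ i, I i) B) (Bi : Fin n → Type u)
    [∀ i, CommRing (Bi i)] [∀ i, Algebra A (Bi i)]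
    (hBi : ∀ i, Hens2.IsPairHenselization A (I i) (Bi i)) :
    Nonempty (B ≃ₐ[A] ∀ i, Bi i) := by
  classical
  obtain ⟨I₀, hI₀⟩ : ∃ I₀ : Ideal A, I₀ = ⨅ i, I i := ⟨_, rfl⟩
  rw [← hI₀] at hB
  have hI₀le : ∀ i, I₀ ≤ I i := fun i => by rw [hI₀]; exact iInf_le I i
  have hI₀mem : ∀ x, (∀ i, x ∈ I i) → x ∈ I₀ := fun x hx => by
    rw [hI₀]; exact Ideal.mem_iInf.mpr hx
  have hBh := hB.1
  obtain ⟨J, hJ⟩ : ∃ J : Ideal B, J = I₀.map (algebraMap A B) := ⟨_, rfl⟩
  rw [← hJ] at hBh
  have hJjac : J ≤ Ideal.jacobson ⊥ := hBh.jac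
  have hG : GabberCond J := (henselianRing_iff_gabberCond J).mp hBh
  have hcop : Pairwise (Function.onFun IsCoprime I) := fun i j hij =>
    Ideal.isCoprime_iff_sup_eq.mpr (hI hij)
  choose a ha using fun i : Fin n =>
    Ideal.exists_forall_sub_mem_ideal hcop (fun j => if j = i then (1 : A) else 0)
  have ha1 : ∀ i, a i - 1 ∈ I i := fun i => by simpa using ha i i
  have ha0 : ∀ i j, j ≠ i → a i ∈ I j := fun i j hji => by simpa [hji] using ha i j
  have hbb : ∀ i, algebraMap A B (a i) * algebraMap A B (a i) - algebraMap A B (a i) ∈ J := by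
    intro i
    have h1 : a i * a i - a i ∈ I₀ := by
      apply hI₀mem
      intro j
      by_cases hji : j = i
      · subst hji
        have h : a j * a j - a j = a j * (a j - 1) := by ring
        rw [h]
        exact Ideal.mul_mem_left _ _ (ha1 j)
      · have h : a i * a i - a i = (a i - 1) * a i := by ring
        rw [h]
        exact Ideal.mul_mem_left _ _ (ha0 i j hji)
    have h2 := Ideal.mem_map_of_mem (algebraMap A B) h1
    rw [map_sub, map_mul, ← hJ] at h2
    exact h2
  have hlift : ∀ i, ∃ e : B, IsIdempotentElem e ∧ e - algebraMap A B (a i) ∈ J := by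
    intro i
    have := exists_idempotent_lift_of_gabber J hG (B := B) (algebraMap A B (a i))
      (by rw [Algebra.algebraMap_self, Ideal.map_id]; exact hbb i)
    rwa [Algebra.algebraMap_self, Ideal.map_id] at this
  choose e he heb using hlift
  have hπe : ∀ i, Ideal.Quotient.mk J (e i) = Ideal.Quotient.mk J (algebraMap A B (a i)) :=
    fun i => Ideal.Quotient.eq.mpr (heb i)
  have hπ0 : ∀ x : A, x ∈ I₀ → Ideal.Quotient.mk J (algebraMap A B x) = 0 := fun x hx =>
    Ideal.Quotient.eq_zero_iff_mem.mpr (by rw [hJ]; exact Ideal.mem_map_of_mem _ hx)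
  have horth : ∀ i j, i ≠ j → e i * e j = 0 := by
    intro i j hij
    apply idempotent_eq_of_sub_mem_jacobson ((he i).mul (he j)) IsIdempotentElem.zero
    apply hJjac
    rw [sub_zero, ← Ideal.Quotient.eq_zero_iff_mem, map_mul, hπe i, hπe j, ← map_mul, ← map_mul]
    apply hπ0
    apply hI₀mem
    intro k
    by_cases hki : k = i
    · subst hki
      exact Ideal.mul_mem_left _ _ (ha0 j k hij)
    · exact Ideal.mul_mem_right _ _ (ha0 i k hki)
  have hprod : ∏ i, (1 - e i) = 0 := by
    have hpi : IsIdempotentElem (∏ i, (1 - e i)) :=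
      Finset.prod_induction _ IsIdempotentElem (fun _ _ h1 h2 => h1.mul h2) IsIdempotentElem.one
        (fun i _ => (he i).one_sub)
    apply idempotent_eq_of_sub_mem_jacobson hpi IsIdempotentElem.zero
    apply hJjac
    rw [sub_zero, ← Ideal.Quotient.eq_zero_iff_mem]
    have h1 : Ideal.Quotient.mk J (∏ i, (1 - e i)) =
        Ideal.Quotient.mk J (algebraMap A B (∏ i, (1 - a i))) := by
      rw [map_prod, map_prod, map_prod]
      refine Finset.prod_congr rfl fun i _ => ?_
      simp only [map_sub, map_one, hπe]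
    rw [h1]
    apply hπ0
    apply hI₀mem
    intro k
    refine Ideal.mem_of_dvd _ (Finset.dvd_prod_of_mem (fun i => 1 - a i) (Finset.mem_univ k)) ?_
    have := (I k).neg_mem (ha1 k)
    rwa [neg_sub] at this
  have hD : ∀ i, Hens2.IsPairHenselization A (I i) (B ⧸ Ideal.span {1 - e i}) := fun i =>
    isPairHenselization_quotient_idem I₀ (I i) (hI₀le i) B hB (a i) (ha1 i)
      (fun x hx => hI₀mem _ fun k => by
        by_cases hki : k = i
        · subst hki; exact Ideal.mul_mem_left _ _ hx
        · exact Ideal.mul_mem_right _ _ (ha0 i k hki))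
      (e i) (he i) (by rw [← hJ]; exact heb i)
  have hbij := bijective_pi_of_idempotents A e he horth hprod
  have eqv : ∀ i, Nonempty ((B ⧸ Ideal.span {1 - e i}) ≃ₐ[A] Bi i) := fun i =>
    nonempty_algEquiv_of_isPairHenselization _ _ (hD i) (hBi i)
  exact ⟨(AlgEquiv.ofBijective _ hbij).trans (AlgEquiv.piCongrRight fun i => (eqv i).some)⟩

end Helper1
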