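import Mathlib
import Groth.Agent.Lib.helper1.SHFinal

/-!
# Nilradicals of henselizations and strict henselizations (helper1)
-/

universe u

namespace Helper1

open TensorProduct IsLocalRing

theorem etale_map_nilradical_isRadical (A E : Type u) [CommRing A] [CommRing E] [Algebra A E]
    [Algebra.Etale A E] : ((nilradical A).map (algebraMap A E)).IsRadical := by
  rw [Ideal.isRadical_iff_quotient_reduced]
  haveI : IsReduced (A ⧸ nilradical A) :=
    (Ideal.isRadical_iff_quotient_reduced _).mp (Ideal.radical_isRadical _)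
  haveI : IsReduced ((A ⧸ nilradical A) ⊗[A] E) :=
    Groth.Agent.Lib.helper5.h5_isReduced_of_smooth (A ⧸ nilradical A) _
  exact isReduced_of_injective
    (Algebra.TensorProduct.quotIdealMapEquivQuotTensor E (nilradical A)).toAlgHom.toRingHom
    (AlgEquiv.injective _)

theorem isRadical_map_localization {E : Type*} [CommRing E] (M : Submonoid E) (J : Ideal E)
    (hJ : J.IsRadical) : (J.map (algebraMap E (Localization M))).IsRadical := by
  rw [Ideal.IsRadical, ← IsLocalization.map_radical M (Localization M) J, hJ.radical]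

theorem nilradical_eq_map_of_isRadical {A C : Type*} [CommRing A] [CommRing C] [Algebra A C]
    (h : ((nilradical A).map (algebraMap A C)).IsRadical) :
    nilradical C = (nilradical A).map (algebraMap A C) := by
  apply le_antisymm
  · intro x hx
    obtain ⟨n, hn⟩ := mem_nilradical.mp hx
    exact h ⟨n, by rw [hn]; exact Ideal.zero_mem _⟩
  · rw [Ideal.map_le_iff_le_comap]
    intro a ha
    rw [Ideal.mem_comap, mem_nilradical]
    exact (mem_nilradical.mp ha).map _

theorem isRadical_map_of_algEquiv {A B B' : Type u} [CommRing A] [CommRing B] [Algebra A B]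
    [CommRing B'] [Algebra A B'] (e : B ≃ₐ[A] B') (J : Ideal A)
    (h : (J.map (algebraMap A B)).IsRadical) : (J.map (algebraMap A B')).IsRadical := by
  intro x hx
  obtain ⟨n, hn⟩ := hx
  have h1 : e.symm x ^ n ∈ J.map (algebraMap A B) := by
    have := Ideal.mem_map_of_mem e.symm.toAlgHom.toRingHom hn
    rw [map_map_algEquiv] at this
    change e.symm (x ^ n) ∈ _ at this
    rwa [map_pow] at this
  have h2 := h ⟨n, h1⟩
  have h3 := Ideal.mem_map_of_mem e.toAlgHom.toRingHom h2
  rw [map_map_algEquiv] at h3
  change e (e.symm x) ∈ _ at h3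
  rwa [e.apply_symm_apply] at h3

section ColimRadical

variable {A : Type u} [CommRing A] {ι : Type u} [Preorder ι] [IsDirected ι (· ≤ ·)] [Nonempty ι]
  (G : ι → Type u) [∀ i, CommRing (G i)] [∀ i, Algebra A (G i)]
  (f : ∀ i j, i ≤ j → G i →+* G j) [DirectedSystem G fun i j h => f i j h]

attribute [local instance] colimAlgebra

variable (hfA : ∀ i j h a, f i j h (algebraMap A (G i) a) = algebraMap A (G j) a) (N : Ideal A)

include hfA in
theorem colim_tr_mem_map (i k : ι) (h : i ≤ k) (y : G i) (hy : y ∈ N.map (algebraMap A (G i))) :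
    f i k h y ∈ N.map (algebraMap A (G k)) := by
  have h1 := Ideal.mem_map_of_mem (f i k h) hy
  rw [Ideal.map_map] at h1
  have h2 : (f i k h).comp (algebraMap A (G i)) = algebraMap A (G k) :=
    RingHom.ext fun a => hfA i k h a
  rwa [h2] at h1

include hfA in
theorem colim_of_mem_map (i : ι) (y : G i) (hy : y ∈ N.map (algebraMap A (G i))) :
    Ring.DirectLimit.of G (fun i j h => f i j h) i y ∈
      N.map (algebraMap A (Ring.DirectLimit G fun i j h => f i j h)) := by
  have h1 := Ideal.mem_map_of_mem (Ring.DirectLimit.of G (fun i j h => f i j h) i) hy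
  rw [Ideal.map_map] at h1
  have h2 : (Ring.DirectLimit.of G (fun i j h => f i j h) i).comp (algebraMap A (G i)) =
      algebraMap A _ := RingHom.ext fun a => colim_of_algebraMap G f hfA i a
  rwa [h2] at h1

include hfA in
theorem colim_mem_map_iff (z : Ring.DirectLimit G fun i j h => f i j h) :
    z ∈ N.map (algebraMap A (Ring.DirectLimit G fun i j h => f i j h)) ↔
      ∃ i y, y ∈ N.map (algebraMap A (G i)) ∧
        Ring.DirectLimit.of G (fun i j h => f i j h) i y = z := by
  constructor
  · intro hz
    let T : Ideal (Ring.DirectLimit G fun i j h => f i j h) :=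
      { carrier := {z | ∃ i y, y ∈ N.map (algebraMap A (G i)) ∧
          Ring.DirectLimit.of G (fun i j h => f i j h) i y = z}
        add_mem' := by
          rintro _ _ ⟨i, y, hy, rfl⟩ ⟨j, y', hy', rfl⟩
          obtain ⟨k, hik, hjk⟩ := exists_ge_ge i j
          refine ⟨k, f i k hik y + f j k hjk y',
            Ideal.add_mem _ (colim_tr_mem_map G f hfA N i k hik y hy)
              (colim_tr_mem_map G f hfA N j k hjk y' hy'), ?_⟩
          rw [map_add, Ring.DirectLimit.of_f, Ring.DirectLimit.of_f]
        zero_mem' := ⟨Classical.arbitrary ι, 0, Ideal.zero_mem _, map_zero _⟩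
        smul_mem' := by
          rintro c _ ⟨i, y, hy, rfl⟩
          obtain ⟨j, c', rfl⟩ := Ring.DirectLimit.exists_of c
          obtain ⟨k, hik, hjk⟩ := exists_ge_ge i j
          refine ⟨k, f j k hjk c' * f i k hik y,
            Ideal.mul_mem_left _ _ (colim_tr_mem_map G f hfA N i k hik y hy), ?_⟩
          rw [map_mul, Ring.DirectLimit.of_f, Ring.DirectLimit.of_f, smul_eq_mul] }
    have hle : N.map (algebraMap A (Ring.DirectLimit G fun i j h => f i j h)) ≤ T := by
      rw [Ideal.map_le_iff_le_comap]
      intro a ha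
      rw [Ideal.mem_comap]
      change ∃ i y, y ∈ N.map (algebraMap A (G i)) ∧
        Ring.DirectLimit.of G (fun i j h => f i j h) i y = _
      exact ⟨Classical.arbitrary ι, algebraMap A _ a, Ideal.mem_map_of_mem _ ha,
        colim_of_algebraMap G f hfA _ a⟩
    exact hle hz
  · rintro ⟨i, y, hy, rfl⟩
    exact colim_of_mem_map G f hfA N i y hy

include hfA in
theorem colim_map_isRadical (hN : ∀ i, (N.map (algebraMap A (G i))).IsRadical) :
    (N.map (algebraMap A (Ring.DirectLimit G fun i j h => f i j h))).IsRadical := by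
  intro x hx
  obtain ⟨n, hn⟩ := hx
  obtain ⟨j, y', hy', hxy⟩ := (colim_mem_map_iff G f hfA N _).mp hn
  obtain ⟨i, y, rfl⟩ := Ring.DirectLimit.exists_of x
  obtain ⟨k, hik, hjk⟩ := exists_ge_ge i j
  have h0 : Ring.DirectLimit.of G (fun i j h => f i j h) k
      (f i k hik y ^ n - f j k hjk y') = 0 := by
    rw [map_sub, map_pow, Ring.DirectLimit.of_f, Ring.DirectLimit.of_f, hxy, sub_self]
  obtain ⟨k', hkk', hz⟩ := Ring.DirectLimit.of.zero_exact h0
  rw [map_sub, map_pow, sub_eq_zero] at hz
  have h1 : (f k k' hkk' (f i k hik y)) ^ n ∈ N.map (algebraMap A (G k')) := by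
    rw [hz]
    exact colim_tr_mem_map G f hfA N _ _ _ _ (colim_tr_mem_map G f hfA N _ _ _ _ hy')
  have h2 := hN k' ⟨n, h1⟩
  rw [colim_mem_map_iff G f hfA N]
  refine ⟨k', _, h2, ?_⟩
  rw [Ring.DirectLimit.of_f, Ring.DirectLimit.of_f]

end ColimRadical

theorem Nbhd.map_nilradical_isRadical {A : Type u} [CommRing A] {I : Ideal A} (i : Nbhd A I) :
    ((nilradical A).map (algebraMap A i.L)).IsRadical := by
  have h1 := etale_map_nilradical_isRadical A i.E
  have h2 := isRadical_map_localization (unitsSub I i.σ) _ h1
  rwa [Ideal.map_map, ← IsScalarTower.algebraMap_eq] at h2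

theorem hens_map_nilradical_isRadical (A : Type u) [CommRing A] (I : Ideal A) :
    ((nilradical A).map (algebraMap A (Hens A I))).IsRadical :=
  colim_map_isRadical (fun i : Nbhd A I => i.L) (fun i j h => Nbhd.trR i j h) Hens.hfA
    (nilradical A) (fun i => i.map_nilradical_isRadical)

theorem SNbhd.map_nilradical_isRadical {A : Type u} [CommRing A] {Ω : Type u} [CommRing Ω]
    [Algebra A Ω] (i : SNbhd A Ω) :
    ((nilradical A).map (algebraMap A i.L)).IsRadical := by
  have h1 := etale_map_nilradical_isRadical A i.E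
  have h2 := isRadical_map_localization (unitsSubΩ i.σ) _ h1
  rwa [Ideal.map_map, ← IsScalarTower.algebraMap_eq] at h2

theorem shpre_map_nilradical_isRadical (A : Type u) [CommRing A] (Ω : Type u) [CommRing Ω]
    [Algebra A Ω] : ((nilradical A).map (algebraMap A (SHPre A Ω))).IsRadical :=
  colim_map_isRadical (fun i : SNbhd A Ω => i.L) (fun i j h => SNbhd.trR i j h) SHPre.hfA
    (nilradical A) (fun i => i.map_nilradical_isRadical)

section Comp

variable (R : Type u) [CommRing R] [IsLocalRing R] (S' : Type u) [CommRing S'] [IsLocalRing S']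
  [Algebra R S'] [IsLocalHom (algebraMap R S')]

attribute [local instance] hensLAlgebra hensL_isScalarTower

theorem hensL_map_nilradical_isRadical_comp
    (h : ((nilradical R).map (algebraMap R S')).IsRadical) :
    ((nilradical R).map (algebraMap R (HensL S'))).IsRadical := by
  have e1 := nilradical_eq_map_of_isRadical h
  have e2 := nilradical_eq_map_of_isRadical
    (hens_map_nilradical_isRadical S' (maximalIdeal S'))
  have e3 : (nilradical R).map (algebraMap R (HensL S')) = nilradical (HensL S') := by
    rw [e2, e1, Ideal.map_map, ← IsScalarTower.algebraMap_eq]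
  rw [e3]
  exact Ideal.radical_isRadical _

end Comp

theorem SH.map_nilradical_isRadical (R : Type u) [CommRing R] [IsLocalRing R] :
    ((nilradical R).map (algebraMap R (SH R))).IsRadical :=
  hensL_map_nilradical_isRadical_comp R (SHP R) (shpre_map_nilradical_isRadical R (SepΩ R))

end Helper1
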