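import Mathlib
import Groth.Agent.Lib.helper1.HensNil

/-!
# Krull dimension of henselizations (helper1)
-/

universe u

namespace Helper1

open IsLocalRing

theorem ringKrullDim_le_of_incomparable {A C : Type*} [CommRing A] [CommRing C] [Algebra A C]
    (h : ∀ (P Q : Ideal C) [P.IsPrime] [Q.IsPrime], P ≤ Q → P.under A = Q.under A → P = Q) :
    ringKrullDim C ≤ ringKrullDim A := by
  apply Order.krullDim_le_of_strictMono (PrimeSpectrum.comap (algebraMap A C))
  intro P Q hPQ
  have hle : PrimeSpectrum.comap (algebraMap A C) P ≤ PrimeSpectrum.comap (algebraMap A C) Q :=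
    Ideal.comap_mono (f := algebraMap A C) hPQ.le
  refine lt_of_le_of_ne hle (fun heq => ?_)
  have h1 : P.asIdeal = Q.asIdeal :=
    h P.asIdeal Q.asIdeal hPQ.le (congrArg PrimeSpectrum.asIdeal heq)
  exact hPQ.ne (PrimeSpectrum.ext h1)

theorem ringKrullDim_le_of_faithfullyFlat {A C : Type*} [CommRing A] [CommRing C] [Algebra A C]
    [Module.FaithfullyFlat A C] : ringKrullDim A ≤ ringKrullDim C := by
  unfold ringKrullDim Order.krullDim
  apply iSup_le
  intro l
  obtain ⟨Q, hQ⟩ := PrimeSpectrum.comap_surjective_of_faithfullyFlat (A := A) (B := C) l.last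
  haveI : Q.asIdeal.LiesOver l.last.asIdeal := ⟨by rw [← hQ]; rfl⟩
  obtain ⟨L, hlen, -, -⟩ := Ideal.exists_ltSeries_of_hasGoingDown l Q.asIdeal
  rw [← hlen]
  exact Order.LTSeries.length_le_krullDim L

section ColimIncomp

variable {A : Type u} [CommRing A] {ι : Type u} [Preorder ι] [IsDirected ι (· ≤ ·)] [Nonempty ι]
  (G : ι → Type u) [∀ i, CommRing (G i)] [∀ i, Algebra A (G i)]
  (f : ∀ i j, i ≤ j → G i →+* G j) [DirectedSystem G fun i j h => f i j h]

attribute [local instance] colimAlgebra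

variable (hfA : ∀ i j h a, f i j h (algebraMap A (G i) a) = algebraMap A (G j) a)

include hfA in
theorem colim_eq_of_le_of_under_eq [∀ i, Algebra.QuasiFinite A (G i)]
    (P Q : Ideal (Ring.DirectLimit G fun i j h => f i j h)) [P.IsPrime] [Q.IsPrime]
    (h₁ : P ≤ Q) (h₂ : P.under A = Q.under A) : P = Q := by
  apply le_antisymm h₁
  intro x hx
  obtain ⟨i, y, rfl⟩ := Ring.DirectLimit.exists_of x
  haveI : (P.comap (Ring.DirectLimit.of G (fun i j h => f i j h) i)).IsPrime :=
    Ideal.comap_isPrime _ P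
  haveI : (Q.comap (Ring.DirectLimit.of G (fun i j h => f i j h) i)).IsPrime :=
    Ideal.comap_isPrime _ Q
  have hcomp : (Ring.DirectLimit.of G (fun i j h => f i j h) i).comp (algebraMap A (G i)) =
      algebraMap A _ := RingHom.ext fun a => colim_of_algebraMap G f hfA i a
  have hu : ∀ J : Ideal (Ring.DirectLimit G fun i j h => f i j h),
      (J.comap (Ring.DirectLimit.of G (fun i j h => f i j h) i)).under A = J.under A := by
    intro J
    rw [Ideal.under_def, Ideal.under_def, Ideal.comap_comap, hcomp]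
  have := Algebra.QuasiFinite.eq_of_le_of_under_eq (R := A)
    (P.comap (Ring.DirectLimit.of G (fun i j h => f i j h) i))
    (Q.comap (Ring.DirectLimit.of G (fun i j h => f i j h) i)) (Ideal.comap_mono h₁)
    (by rw [hu, hu, h₂])
  have hy : y ∈ Q.comap (Ring.DirectLimit.of G (fun i j h => f i j h) i) := hx
  rw [← this] at hy
  exact hy

end ColimIncomp

theorem hens_ringKrullDim_le (A : Type u) [CommRing A] (I : Ideal A) :
    ringKrullDim (Hens A I) ≤ ringKrullDim A :=
  ringKrullDim_le_of_incomparable (fun P Q _ _ h₁ h₂ =>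
    colim_eq_of_le_of_under_eq (fun i : Nbhd A I => i.L) (fun i j h => Nbhd.trR i j h)
      Hens.hfA P Q h₁ h₂)

theorem shpre_ringKrullDim_le (A : Type u) [CommRing A] (Ω : Type u) [CommRing Ω]
    [Algebra A Ω] : ringKrullDim (SHPre A Ω) ≤ ringKrullDim A :=
  ringKrullDim_le_of_incomparable (fun P Q _ _ h₁ h₂ =>
    colim_eq_of_le_of_under_eq (fun i : SNbhd A Ω => i.L) (fun i j h => SNbhd.trR i j h)
      SHPre.hfA P Q h₁ h₂)

theorem SH.ringKrullDim_le (R : Type u) [CommRing R] [IsLocalRing R] :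
    ringKrullDim (SH R) ≤ ringKrullDim R :=
  (hens_ringKrullDim_le (SHP R) (maximalIdeal (SHP R))).trans
    (shpre_ringKrullDim_le R (SepΩ R))

end Helper1
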