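import Mathlib
import Groth.Agent.Lib.helper1.HensLocal

/-!
# Direct limits of henselian pairs (helper1)
-/

universe u

namespace Helper1

open Polynomial

section DirLim

variable {ι : Type u} [Preorder ι] [IsDirected ι (· ≤ ·)] [Nonempty ι]
  (G : ι → Type u) [∀ i, CommRing (G i)] (f : ∀ i j, i ≤ j → G i →+* G j)
  [DirectedSystem G fun i j h => f i j h] (I : ∀ i, Ideal (G i))
  (hI : ∀ i j (h : i ≤ j), (I i).map (f i j h) ≤ I j)

include hI in
theorem dl_tr_mem (i j : ι) (h : i ≤ j) (y : G i) (hy : y ∈ I i) : f i j h y ∈ I j :=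
  hI i j h (Ideal.mem_map_of_mem _ hy)

omit [IsDirected ι (· ≤ ·)] [Nonempty ι] in
theorem dl_tr_tr (i j k : ι) (hij : i ≤ j) (hjk : j ≤ k) (x : G i) :
    f j k hjk (f i j hij x) = f i k (hij.trans hjk) x :=
  DirectedSystem.map_map' f hij hjk x

include hI in
theorem dl_mem_iSup_iff (z : Ring.DirectLimit G fun i j h => f i j h) :
    z ∈ (⨆ i, (I i).map (Ring.DirectLimit.of G (fun i j h => f i j h) i)) ↔
      ∃ i y, y ∈ I i ∧ Ring.DirectLimit.of G (fun i j h => f i j h) i y = z := by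
  constructor
  · intro hz
    let T : Ideal (Ring.DirectLimit G fun i j h => f i j h) :=
      { carrier := {z | ∃ i y, y ∈ I i ∧ Ring.DirectLimit.of G (fun i j h => f i j h) i y = z}
        add_mem' := by
          rintro _ _ ⟨i, y, hy, rfl⟩ ⟨j, y', hy', rfl⟩
          obtain ⟨k, hik, hjk⟩ := exists_ge_ge i j
          refine ⟨k, f i k hik y + f j k hjk y',
            Ideal.add_mem _ (dl_tr_mem G f I hI i k hik y hy) (dl_tr_mem G f I hI j k hjk y' hy'),
            ?_⟩
          rw [map_add, Ring.DirectLimit.of_f, Ring.DirectLimit.of_f]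
        zero_mem' := ⟨Classical.arbitrary ι, 0, Ideal.zero_mem _, map_zero _⟩
        smul_mem' := by
          rintro c _ ⟨i, y, hy, rfl⟩
          obtain ⟨j, c', rfl⟩ := Ring.DirectLimit.exists_of c
          obtain ⟨k, hik, hjk⟩ := exists_ge_ge i j
          refine ⟨k, f j k hjk c' * f i k hik y,
            Ideal.mul_mem_left _ _ (dl_tr_mem G f I hI i k hik y hy), ?_⟩
          rw [map_mul, Ring.DirectLimit.of_f, Ring.DirectLimit.of_f, smul_eq_mul] }
    have hle : (⨆ i, (I i).map (Ring.DirectLimit.of G (fun i j h => f i j h) i)) ≤ T := by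
      apply iSup_le
      intro i
      rw [Ideal.map_le_iff_le_comap]
      intro y hy
      rw [Ideal.mem_comap]
      change ∃ i' y', y' ∈ I i' ∧ Ring.DirectLimit.of G (fun i j h => f i j h) i' y' = _
      exact ⟨i, y, hy, rfl⟩
    exact hle hz
  · rintro ⟨i, y, hy, rfl⟩
    exact Ideal.mem_iSup_of_mem i (Ideal.mem_map_of_mem _ hy)

include hI in
theorem dl_exists_tr_mem (k : ι) (x : G k)
    (hx : Ring.DirectLimit.of G (fun i j h => f i j h) k x ∈
      ⨆ i, (I i).map (Ring.DirectLimit.of G (fun i j h => f i j h) i)) :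
    ∃ k', ∃ h : k ≤ k', f k k' h x ∈ I k' := by
  obtain ⟨j, y, hy, hxy⟩ := (dl_mem_iSup_iff G f I hI _).mp hx
  obtain ⟨l, hkl, hjl⟩ := exists_ge_ge k j
  have h0 : Ring.DirectLimit.of G (fun i j h => f i j h) l (f k l hkl x - f j l hjl y) = 0 := by
    rw [map_sub, Ring.DirectLimit.of_f, Ring.DirectLimit.of_f, hxy, sub_self]
  obtain ⟨k', hlk', hz⟩ := Ring.DirectLimit.of.zero_exact h0
  rw [map_sub, sub_eq_zero, dl_tr_tr, dl_tr_tr] at hz
  exact ⟨k', hkl.trans hlk', by rw [hz]; exact dl_tr_mem G f I hI j k' _ y hy⟩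

include hI in
theorem henselian_directLimit (hh : ∀ i, HenselianRing (G i) (I i)) :
    HenselianRing (Ring.DirectLimit G fun i j h => f i j h)
      (⨆ i, (I i).map (Ring.DirectLimit.of G (fun i j h => f i j h) i)) := by
  refine ⟨?_, ?_⟩
  · intro z hz
    obtain ⟨i, y, hy, rfl⟩ := (dl_mem_iSup_iff G f I hI z).mp hz
    rw [Ideal.mem_jacobson_bot]
    intro c
    obtain ⟨j, c', rfl⟩ := Ring.DirectLimit.exists_of c
    obtain ⟨k, hik, hjk⟩ := exists_ge_ge i j
    have h1 : f i k hik y ∈ Ideal.jacobson ⊥ := (hh k).jac (dl_tr_mem G f I hI i k hik y hy)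
    rw [Ideal.mem_jacobson_bot] at h1
    have h2 := (h1 (f j k hjk c')).map (Ring.DirectLimit.of G (fun i j h => f i j h) k)
    rw [map_add, map_mul, map_one, Ring.DirectLimit.of_f, Ring.DirectLimit.of_f] at h2
    exact h2
  · intro p hp a₀ h₁ h₂
    obtain ⟨i₁, q₁, hq₁⟩ := Ring.DirectLimit.Polynomial.exists_of p
    obtain ⟨q, hq, -, hqm⟩ := Polynomial.lifts_and_natDegree_eq_and_monic
      ((Polynomial.mem_lifts _).mpr ⟨q₁, hq₁⟩) hp
    obtain ⟨i₂, b₂, hb₂⟩ := Ring.DirectLimit.exists_of a₀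
    obtain ⟨ū, hū⟩ := h₂.exists_right_inv
    obtain ⟨u, rfl⟩ := Ideal.Quotient.mk_surjective ū
    rw [← map_mul, ← map_one (Ideal.Quotient.mk _), Ideal.Quotient.eq] at hū
    obtain ⟨i₃, u₃, hu₃⟩ := Ring.DirectLimit.exists_of u
    obtain ⟨k₀, h1k₀, h2k₀⟩ := exists_ge_ge i₁ i₂
    obtain ⟨k, hk₀k, h3k⟩ := exists_ge_ge k₀ i₃
    have hcomp : ∀ (i j : ι) (h : i ≤ j),
        (Ring.DirectLimit.of G (fun i j h => f i j h) j).comp (f i j h) =
          Ring.DirectLimit.of G (fun i j h => f i j h) i :=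
      fun i j h => RingHom.ext fun x => Ring.DirectLimit.of_f h x
    have hqk : (q.map (f i₁ k (h1k₀.trans hk₀k))).map
        (Ring.DirectLimit.of G (fun i j h => f i j h) k) = p := by
      rw [Polynomial.map_map, hcomp, hq]
    have hb : Ring.DirectLimit.of G (fun i j h => f i j h) k
        (f i₂ k (h2k₀.trans hk₀k) b₂) = a₀ := by
      rw [Ring.DirectLimit.of_f, hb₂]
    have huk : Ring.DirectLimit.of G (fun i j h => f i j h) k (f i₃ k h3k u₃) = u := by
      rw [Ring.DirectLimit.of_f, hu₃]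
    set qk : (G k)[X] := q.map (f i₁ k (h1k₀.trans hk₀k)) with hqkdef
    set b : G k := f i₂ k (h2k₀.trans hk₀k) b₂ with hbdef
    set uk : G k := f i₃ k h3k u₃ with hukdef
    have hqkm : qk.Monic := hqm.map _
    have hx1 : Ring.DirectLimit.of G (fun i j h => f i j h) k (qk.eval b) ∈
        ⨆ i, (I i).map (Ring.DirectLimit.of G (fun i j h => f i j h) i) := by
      rw [← eval_map_apply', hqk, hb]
      exact h₁
    have hx2 : Ring.DirectLimit.of G (fun i j h => f i j h) k
        (qk.derivative.eval b * uk - 1) ∈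
        ⨆ i, (I i).map (Ring.DirectLimit.of G (fun i j h => f i j h) i) := by
      rw [map_sub, map_mul, map_one, huk, ← eval_map_apply', ← Polynomial.derivative_map, hqk, hb]
      exact hū
    obtain ⟨k₁, hkk₁, hm1⟩ := dl_exists_tr_mem G f I hI k _ hx1
    obtain ⟨k₂, hkk₂, hm2⟩ := dl_exists_tr_mem G f I hI k _ hx2
    obtain ⟨k', h1', h2'⟩ := exists_ge_ge k₁ k₂
    have hkk' : k ≤ k' := hkk₁.trans h1'
    have hm1' : (qk.map (f k k' hkk')).eval (f k k' hkk' b) ∈ I k' := by
      rw [eval_map_apply', ← dl_tr_tr G f k k₁ k' hkk₁ h1']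
      exact dl_tr_mem G f I hI k₁ k' h1' _ hm1
    have hm2' : (qk.map (f k k' hkk')).derivative.eval (f k k' hkk' b) * f k k' hkk' uk - 1 ∈
        I k' := by
      rw [Polynomial.derivative_map, eval_map_apply', ← map_mul,
        ← map_one (f k k' hkk'), ← map_sub, ← dl_tr_tr G f k k₂ k' hkk₂ h2']
      exact dl_tr_mem G f I hI k₂ k' h2' _ hm2
    have hunit : IsUnit (Ideal.Quotient.mk (I k')
        ((qk.map (f k k' hkk')).derivative.eval (f k k' hkk' b))) := by
      apply IsUnit.of_mul_eq_one (Ideal.Quotient.mk (I k') (f k k' hkk' uk))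
      rw [← map_mul, ← map_one (Ideal.Quotient.mk (I k')), Ideal.Quotient.eq]
      exact hm2'
    obtain ⟨a, ha1, ha2⟩ := (hh k').is_henselian (qk.map (f k k' hkk')) (hqkm.map _)
      (f k k' hkk' b) hm1' hunit
    have hq' : (qk.map (f k k' hkk')).map (Ring.DirectLimit.of G (fun i j h => f i j h) k') =
        p := by
      rw [Polynomial.map_map, hcomp, hqk]
    refine ⟨Ring.DirectLimit.of G (fun i j h => f i j h) k' a, ?_, ?_⟩
    · rw [← hq', Polynomial.IsRoot.def, eval_map_apply', ha1, map_zero]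
    · have h3 : Ring.DirectLimit.of G (fun i j h => f i j h) k' a - a₀ =
          Ring.DirectLimit.of G (fun i j h => f i j h) k' (a - f k k' hkk' b) := by
        rw [map_sub, Ring.DirectLimit.of_f, hb]
      rw [h3]
      exact (dl_mem_iSup_iff G f I hI _).mpr ⟨k', _, ha2, rfl⟩

end DirLim

end Helper1
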