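import Mathlib
import Groth.Prelude.Def_Hens2
import Groth.Agent.Lib.helper1.Henselization2

/-!
# Uniqueness of pair henselizations and consequences (helper1)
-/

universe u

namespace Helper1

open TensorProduct

theorem hens_isPairHenselization (A : Type u) [CommRing A] (I : Ideal A) :
    Hens2.IsPairHenselization A I (Hens A I) :=
  ⟨Hens.henselian A I, fun C _ J f hC hIJ => by
    haveI := hC
    exact Hens.universal A I C J f hIJ⟩

theorem exists_algEquiv_hens {A : Type u} [CommRing A] (I : Ideal A) (B : Type u) [CommRing B]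
    [Algebra A B] (hB : Hens2.IsPairHenselization A I B) : Nonempty (B ≃ₐ[A] Hens A I) := by
  obtain ⟨hBh, hBu⟩ := hB
  obtain ⟨hHh, hHu⟩ := hens_isPairHenselization A I
  obtain ⟨g, hg, -⟩ := hBu (Hens A I) _ (algebraMap A (Hens A I)) hHh le_rfl
  obtain ⟨g', hg', -⟩ := hHu B _ (algebraMap A B) hBh le_rfl
  have h1 : g'.comp g = RingHom.id B := by
    obtain ⟨k, -, hk⟩ := hBu B _ (algebraMap A B) hBh le_rfl
    rw [hk (g'.comp g) (by show (g'.comp g).comp (algebraMap A B) = algebraMap A B; rw [RingHom.comp_assoc, hg, hg']),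
      hk (RingHom.id B) (RingHom.id_comp _)]
  have h2 : g.comp g' = RingHom.id (Hens A I) := by
    obtain ⟨k, -, hk⟩ := hHu (Hens A I) _ (algebraMap A (Hens A I)) hHh le_rfl
    rw [hk (g.comp g') (by show (g.comp g').comp (algebraMap A (Hens A I)) = algebraMap A (Hens A I); rw [RingHom.comp_assoc, hg', hg]),
      hk (RingHom.id _) (RingHom.id_comp _)]
  exact ⟨{ toFun := g, invFun := g', left_inv := fun x => RingHom.congr_fun h1 x,
           right_inv := fun x => RingHom.congr_fun h2 x, map_mul' := map_mul g,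
           map_add' := map_add g, commutes' := fun a => RingHom.congr_fun hg a }⟩

theorem map_algEquiv_mem {A : Type u} [CommRing A] (I : Ideal A) {B C : Type u} [CommRing B]
    [CommRing C] [Algebra A B] [Algebra A C] (e : B ≃ₐ[A] C) (b : B)
    (hb : b ∈ I.map (algebraMap A B)) : e b ∈ I.map (algebraMap A C) := by
  have : I.map (algebraMap A B) ≤ (I.map (algebraMap A C)).comap (e : B →ₐ[A] C).toRingHom := by
    rw [Ideal.map_le_iff_le_comap]
    intro x hx
    rw [Ideal.mem_comap, Ideal.mem_comap]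
    show e (algebraMap A B x) ∈ _
    rw [e.commutes]
    exact Ideal.mem_map_of_mem _ hx
  exact this hb

theorem pairHens_props {A : Type u} [CommRing A] (I : Ideal A) (B : Type u) [CommRing B]
    [Algebra A B] (hB : Hens2.IsPairHenselization A I B) :
    Module.Flat A B ∧ (∀ b : B, ∃ a : A, b - algebraMap A B a ∈ I.map (algebraMap A B)) ∧
      (∀ a : A, algebraMap A B a ∈ I.map (algebraMap A B) → a ∈ I) := by
  obtain ⟨e⟩ := exists_algEquiv_hens I B hB
  haveI := Hens.flat A I
  refine ⟨Module.Flat.of_linearEquiv e.toLinearEquiv, ?_, ?_⟩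
  · intro b
    obtain ⟨a, ha⟩ := Ideal.Quotient.mk_surjective (Hens.section' A I (e b))
    refine ⟨a, ?_⟩
    have h1 : e b - algebraMap A (Hens A I) a ∈ RingHom.ker (Hens.section' A I) := by
      rw [RingHom.mem_ker, map_sub, AlgHom.commutes, ← ha]; exact sub_self _
    rw [Hens.ker_section] at h1
    have h2 := map_algEquiv_mem I e.symm _ h1
    rw [map_sub, AlgEquiv.symm_apply_apply, AlgEquiv.commutes] at h2
    exact h2
  · intro a ha
    have h1 := map_algEquiv_mem I e _ ha
    rw [← Hens.ker_section, RingHom.mem_ker, e.commutes, AlgHom.commutes] at h1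
    exact Ideal.Quotient.eq_zero_iff_mem.mp h1

theorem nonempty_quotTensorEquiv (A R : Type u) [CommRing A] [CommRing R] [Algebra A R]
    (J : Ideal A) :
    Nonempty (((A ⧸ J) ⊗[A] R) ≃ₐ[A ⧸ J] (R ⧸ J.map (algebraMap A R))) := by
  let e₀ : (R ⧸ J.map (algebraMap A R)) ≃ₐ[A] (A ⧸ J) ⊗[A] R :=
    ((Algebra.TensorProduct.quotIdealMapEquivTensorQuot R J).restrictScalars A).trans
      (Algebra.TensorProduct.comm A R (A ⧸ J))
  refine ⟨AlgEquiv.ofRingEquiv (f := e₀.symm.toRingEquiv) ?_⟩
  intro x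
  obtain ⟨a, rfl⟩ := Ideal.Quotient.mk_surjective x
  have h1 : algebraMap (A ⧸ J) ((A ⧸ J) ⊗[A] R) (Ideal.Quotient.mk J a) =
      algebraMap A ((A ⧸ J) ⊗[A] R) a := by
    rw [IsScalarTower.algebraMap_apply A (A ⧸ J) ((A ⧸ J) ⊗[A] R)]; rfl
  have h2 : algebraMap (A ⧸ J) (R ⧸ J.map (algebraMap A R)) (Ideal.Quotient.mk J a) =
      algebraMap A (R ⧸ J.map (algebraMap A R)) a := by
    rw [IsScalarTower.algebraMap_apply A (A ⧸ J) (R ⧸ J.map (algebraMap A R))]; rfl
  show e₀.symm _ = _
  rw [h1, h2]; exact e₀.symm.commutes a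

theorem etale_quotient (A R : Type u) [CommRing A] [CommRing R] [Algebra A R]
    [Algebra.Etale A R] (J : Ideal A) :
    Algebra.Etale (A ⧸ J) (R ⧸ J.map (algebraMap A R)) := by
  obtain ⟨e⟩ := nonempty_quotTensorEquiv A R J
  exact Algebra.Etale.of_equiv e

theorem smooth_quotient (A R : Type u) [CommRing A] [CommRing R] [Algebra A R]
    [Algebra.Smooth A R] (J : Ideal A) :
    Algebra.Smooth (A ⧸ J) (R ⧸ J.map (algebraMap A R)) := by
  obtain ⟨e⟩ := nonempty_quotTensorEquiv A R J
  exact Algebra.Smooth.of_equiv e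

theorem nonempty_algEquiv_quotient_pow (A : Type u) [CommRing A] (I : Ideal A) (R : Type u)
    [CommRing R] [Algebra A R] (B : Type u) [CommRing B] [Algebra R B] [Algebra A B]
    [IsScalarTower A R B]
    (hB : Hens2.IsPairHenselization R (I.map (algebraMap A R)) B) (r : ℕ) :
    Nonempty ((R ⧸ (I ^ r).map (algebraMap A R)) ≃ₐ[A ⧸ I ^ r]
      (B ⧸ (I ^ r).map (algebraMap A B))) := by
  obtain ⟨hflat, hs, hk⟩ := pairHens_props (I.map (algebraMap A R)) B hB
  obtain ⟨hs', hk'⟩ := flat_quotient_pow (I.map (algebraMap A R)) B hs hk r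
  have hideal : ((I.map (algebraMap A R)) ^ r).map (algebraMap R B) =
      (I ^ r).map (algebraMap A B) := by
    rw [← Ideal.map_pow, Ideal.map_map, ← IsScalarTower.algebraMap_eq]
  have hideal2 : (I.map (algebraMap A R)) ^ r = (I ^ r).map (algebraMap A R) :=
    (Ideal.map_pow _ _ _).symm
  rw [hideal] at hs' hk'
  rw [hideal2] at hk'
  have hle : (I ^ r).map (algebraMap A R) ≤
      ((I ^ r).map (algebraMap A B)).comap (algebraMap R B) := by
    rw [← Ideal.map_le_iff_le_comap, Ideal.map_map, ← IsScalarTower.algebraMap_eq]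
  let φ : (R ⧸ (I ^ r).map (algebraMap A R)) →+* (B ⧸ (I ^ r).map (algebraMap A B)) :=
    Ideal.quotientMap _ (algebraMap R B) hle
  have hφalg : ∀ x : A ⧸ I ^ r, φ (algebraMap _ _ x) = algebraMap _ _ x := by
    intro x
    obtain ⟨a, rfl⟩ := Ideal.Quotient.mk_surjective x
    show φ (Ideal.Quotient.mk _ (algebraMap A R a)) = Ideal.Quotient.mk _ (algebraMap A B a)
    rw [Ideal.quotientMap_mk, ← IsScalarTower.algebraMap_apply]
  let φa : (R ⧸ (I ^ r).map (algebraMap A R)) →ₐ[A ⧸ I ^ r]
      (B ⧸ (I ^ r).map (algebraMap A B)) := { φ with commutes' := hφalg }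
  have hbij : Function.Bijective φa := by
    constructor
    · rw [injective_iff_map_eq_zero]
      intro x hx
      obtain ⟨y, rfl⟩ := Ideal.Quotient.mk_surjective x
      have : φ (Ideal.Quotient.mk _ y) = 0 := hx
      rw [Ideal.quotientMap_mk, Ideal.Quotient.eq_zero_iff_mem] at this
      exact Ideal.Quotient.eq_zero_iff_mem.mpr (hk' y this)
    · intro z
      obtain ⟨b, rfl⟩ := Ideal.Quotient.mk_surjective z
      obtain ⟨y, hy⟩ := hs' b
      refine ⟨Ideal.Quotient.mk _ y, ?_⟩
      show φ (Ideal.Quotient.mk _ y) = _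
      rw [Ideal.quotientMap_mk, eq_comm, Ideal.Quotient.eq]
      exact hy
  exact ⟨AlgEquiv.ofBijective φa hbij⟩

end Helper1
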