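import Mathlib
import Groth.Agent.Lib.helper1.HenselFEt
import Groth.Agent.Lib.helper1.HenselIdem3

/-!
# Henselian pairs: lifting finite étale algebras (helper1)
-/

universe u

namespace Helper1

open Polynomial TensorProduct

/-- For an integral ring map `f : D → C` and an ideal `𝔞` of `D` generating the unit ideal of
`C`, some element of `𝔞` maps to `1`. -/
theorem exists_mem_map_eq_one {D C : Type*} [CommRing D] [CommRing C] (f : D →+* C)
    (hf : f.IsIntegral) (𝔞 : Ideal D) (h : 𝔞.map f = ⊤) : ∃ t ∈ 𝔞, f t = 1 := by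
  by_contra hcon
  push_neg at hcon
  have hne : 𝔞 ⊔ RingHom.ker f ≠ ⊤ := by
    intro htop
    have h1 : (1 : D) ∈ 𝔞 ⊔ RingHom.ker f := by rw [htop]; trivial
    obtain ⟨t, ht, k, hk, htk⟩ := Submodule.mem_sup.mp h1
    apply hcon t ht
    have h2 := congrArg f htk
    rw [map_add, map_one, (RingHom.mem_ker).mp hk, add_zero] at h2
    exact h2
  obtain ⟨n, hn, hle⟩ := Ideal.exists_le_maximal _ hne
  letI := f.toAlgebra
  haveI : Algebra.IsIntegral D C := ⟨hf⟩
  obtain ⟨Q, hQ, hQn⟩ := Ideal.exists_ideal_over_maximal_of_isIntegral (S := C) n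
    (le_sup_right.trans hle)
  have h2 : 𝔞.map f ≤ Q := by
    rw [Ideal.map_le_iff_le_comap]
    intro x hx
    have h3 : x ∈ n := hle (Ideal.mem_sup_left hx)
    rw [← hQn] at h3
    exact h3
  rw [h] at h2
  exact hQ.ne_top (top_le_iff.mp h2)

/-- Global form of Zariski's main theorem along an integral quotient. -/
theorem exists_integral_elem_quotient {A : Type*} [CommRing A] {S : Type*} [CommRing S]
    [Algebra A S] [Algebra.FiniteType A S] [Algebra.QuasiFinite A S] {C : Type*} [CommRing C]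
    [Algebra A C] [Algebra.IsIntegral A C] (π : S →ₐ[A] C) :
    ∃ Δ : S, π Δ = 1 ∧ IsIntegral A Δ ∧ ∀ x, ∃ m, IsIntegral A (Δ ^ m * x) := by
  classical
  let f : ↥(integralClosure A S) →+* C :=
    ((π.comp (integralClosure A S).val : ↥(integralClosure A S) →ₐ[A] C) :
      ↥(integralClosure A S) →+* C)
  have hf : f.IsIntegral := by
    apply RingHom.IsIntegral.tower_top (algebraMap A ↥(integralClosure A S)) f
    have h1 : f.comp (algebraMap A ↥(integralClosure A S)) = algebraMap A C := by
      ext a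
      change π ((algebraMap A ↥(integralClosure A S) a : ↥(integralClosure A S)) : S) = _
      have h2 : ((algebraMap A ↥(integralClosure A S) a : ↥(integralClosure A S)) : S) =
          algebraMap A S a := rfl
      rw [h2, AlgHom.commutes]
    rw [h1]
    exact fun c => Algebra.IsIntegral.isIntegral c
  let 𝔞 : Ideal ↥(integralClosure A S) :=
    { carrier := {d | ∀ x : S, ∃ m, IsIntegral A ((d : S) ^ m * x)}
      zero_mem' := fun x => ⟨1, by simp [isIntegral_zero]⟩
      add_mem' := by
        intro d₁ d₂ h₁ h₂ x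
        have hr₁ : IsIntegral A (d₁ : S) := d₁.2
        have hr₂ : IsIntegral A (d₂ : S) := d₂.2
        obtain ⟨m₁, hm₁⟩ := h₁ x
        obtain ⟨m₂, hm₂⟩ := h₂ x
        refine ⟨m₁ + m₂, ?_⟩
        change IsIntegral A (((d₁ : S) + (d₂ : S)) ^ (m₁ + m₂) * x)
        rw [add_pow, Finset.sum_mul]
        refine IsIntegral.sum _ fun i hi => ?_
        have hi' : i ≤ m₁ + m₂ := Nat.lt_succ_iff.mp (Finset.mem_range.mp hi)
        have hc : IsIntegral A ((↑((m₁ + m₂).choose i) : S)) := isIntegral_natCast _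
        rcases le_or_gt m₁ i with h | h
        · obtain ⟨d, rfl⟩ := Nat.exists_eq_add_of_le h
          have h4 : (d₁ : S) ^ (m₁ + d) * (d₂ : S) ^ (m₁ + m₂ - (m₁ + d)) *
              ↑((m₁ + m₂).choose (m₁ + d)) * x =
              ((d₁ : S) ^ d * (d₂ : S) ^ (m₁ + m₂ - (m₁ + d)) * ↑((m₁ + m₂).choose (m₁ + d))) *
                ((d₁ : S) ^ m₁ * x) := by
            rw [pow_add]; ring
          rw [h4]
          exact (((hr₁.pow _).mul (hr₂.pow _)).mul hc).mul hm₁
        · have h3 : m₂ ≤ m₁ + m₂ - i := by omega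
          obtain ⟨d, hd⟩ := Nat.exists_eq_add_of_le h3
          have h4 : (d₁ : S) ^ i * (d₂ : S) ^ (m₁ + m₂ - i) * ↑((m₁ + m₂).choose i) * x =
              ((d₁ : S) ^ i * (d₂ : S) ^ d * ↑((m₁ + m₂).choose i)) * ((d₂ : S) ^ m₂ * x) := by
            rw [hd, pow_add]; ring
          rw [h4]
          exact (((hr₁.pow _).mul (hr₂.pow _)).mul hc).mul hm₂
      smul_mem' := by
        intro c d hd x
        have hc : IsIntegral A (c : S) := c.2
        obtain ⟨m, hm⟩ := hd x
        refine ⟨m, ?_⟩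
        change IsIntegral A (((c : S) * (d : S)) ^ m * x)
        rw [mul_pow, mul_assoc]
        exact (hc.pow m).mul hm }
  have h𝔞 : 𝔞.map f = ⊤ := by
    by_contra hne
    obtain ⟨Q, hQ, hle⟩ := Ideal.exists_le_maximal _ hne
    let q : Ideal S := Q.comap π.toRingHom
    have hq : q.IsPrime := Ideal.comap_isPrime _ _
    have hZ : Algebra.ZariskisMainProperty A q := Algebra.ZariskisMainProperty.of_finiteType q
    obtain ⟨r, hrq, hr, h⟩ := Algebra.zariskisMainProperty_iff.mp hZ
    have hd : (⟨r, hr⟩ : ↥(integralClosure A S)) ∈ 𝔞 := h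
    exact hrq (hle (Ideal.mem_map_of_mem f hd))
  obtain ⟨t, ht, ht1⟩ := exists_mem_map_eq_one f hf 𝔞 h𝔞
  exact ⟨(t : S), ht1, t.2, ht⟩

/-- Lifting an étale algebra along `A → A ⧸ I`: there is an étale `A`-algebra `S` with a surjection
`S → C` whose kernel is `I S`. -/
theorem exists_etale_lift_quotient {A : Type u} [CommRing A] (I : Ideal A) (C : Type u) [CommRing C]
    [Algebra (A ⧸ I) C] [Algebra A C] [IsScalarTower A (A ⧸ I) C] [Algebra.Etale (A ⧸ I) C] :
    ∃ (S : Type u) (_ : CommRing S) (_ : Algebra A S) (π : S →ₐ[A] C), Algebra.Etale A S ∧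
      Function.Surjective π ∧ RingHom.ker π = I.map (algebraMap A S) := by
  classical
  have hss : Algebra.IsStandardSmoothOfRelativeDimension 0 (A ⧸ I) C :=
    Algebra.Etale.iff_isStandardSmoothOfRelativeDimension_zero.mp inferInstance
  obtain ⟨ι, σ, _, _, P, hP⟩ := hss.out
  cases nonempty_fintype σ
  have hIC : ∀ a ∈ I, algebraMap A C a = 0 := by
    intro a ha
    rw [IsScalarTower.algebraMap_apply A (A ⧸ I) C, Ideal.Quotient.algebraMap_eq,
      Ideal.Quotient.eq_zero_iff_mem.mpr ha, map_zero]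
  have hsurj : Function.Surjective (MvPolynomial.map (Ideal.Quotient.mk I) :
      MvPolynomial ι A → MvPolynomial ι (A ⧸ I)) :=
    MvPolynomial.map_surjective _ Ideal.Quotient.mk_surjective
  choose Rel hRel using fun j : σ => hsurj (P.relation j)
  let N : Algebra.PreSubmersivePresentation A
      (MvPolynomial ι A ⧸ Ideal.span (Set.range Rel)) ι σ :=
    Algebra.PreSubmersivePresentation.naive (v := Rel) P.map P.map_inj
  let Q : Algebra.PreSubmersivePresentation (MvPolynomial ι A ⧸ Ideal.span (Set.range Rel))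
      (Localization.Away N.jacobian) Unit Unit :=
    Algebra.PreSubmersivePresentation.localizationAway (Localization.Away N.jacobian) N.jacobian
  have hQN : IsUnit (Q.comp N).jacobian := by
    rw [Algebra.PreSubmersivePresentation.comp_jacobian_eq_jacobian_smul_jacobian,
      Algebra.PreSubmersivePresentation.localizationAway_jacobian, Algebra.smul_def]
    exact (IsLocalization.Away.algebraMap_isUnit N.jacobian).mul
      (IsLocalization.Away.algebraMap_isUnit N.jacobian)
  let SP : Algebra.SubmersivePresentation A (Localization.Away N.jacobian) (Unit ⊕ ι) (Unit ⊕ σ) :=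
    { toPreSubmersivePresentation := Q.comp N
      jacobian_isUnit := hQN }
  have hdim : SP.dimension = 0 := by
    change (Q.comp N).dimension = 0
    rw [Algebra.PreSubmersivePresentation.dimension_comp_eq_dimension_add_dimension]
    have h1 : Q.dimension = 0 := Algebra.Presentation.localizationAway_dimension_zero _
    have h2 : N.dimension = 0 := hP
    rw [h1, h2]
  have hS : Algebra.IsStandardSmoothOfRelativeDimension 0 A (Localization.Away N.jacobian) :=
    SP.isStandardSmoothOfRelativeDimension hdim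
  have hEt : Algebra.Etale A (Localization.Away N.jacobian) :=
    Algebra.Etale.iff_isStandardSmoothOfRelativeDimension_zero.mpr hS
  -- the map to `C`
  let φ0 : MvPolynomial ι A →ₐ[A] C := MvPolynomial.aeval P.val
  have hφ0 : ∀ p : MvPolynomial ι A,
      φ0 p = MvPolynomial.aeval P.val (MvPolynomial.map (Ideal.Quotient.mk I) p) := by
    intro p
    have h1 := MvPolynomial.aeval_map_algebraMap (A ⧸ I) P.val p
    rw [Ideal.Quotient.algebraMap_eq] at h1
    exact h1.symm
  have hφ0Rel : ∀ j, φ0 (Rel j) = 0 := by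
    intro j
    rw [hφ0, hRel, Algebra.Presentation.aeval_val_relation]
  have hle : Ideal.span (Set.range Rel) ≤ RingHom.ker φ0 := by
    rw [Ideal.span_le]
    rintro _ ⟨j, rfl⟩
    exact hφ0Rel j
  let φ2 : (MvPolynomial ι A ⧸ Ideal.span (Set.range Rel)) →ₐ[A] C :=
    Ideal.Quotient.liftₐ _ φ0 (fun a ha => hle ha)
  have hφ2 : ∀ p : MvPolynomial ι A, φ2 (Ideal.Quotient.mk _ p) = φ0 p := by
    intro p
    rw [Ideal.Quotient.liftₐ_apply, Ideal.Quotient.lift_mk]
    rfl
  have hφ2jac : φ2 N.jacobian = P.jacobian := by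
    rw [Algebra.PreSubmersivePresentation.jacobian_eq_jacobiMatrix_det,
      Algebra.PreSubmersivePresentation.jacobian_eq_jacobiMatrix_det]
    change φ2 (Ideal.Quotient.mk _ N.jacobiMatrix.det) = _
    rw [hφ2, hφ0, Algebra.Generators.algebraMap_apply]
    congr 1
    rw [RingHom.map_det]
    congr 1
    refine Matrix.ext fun i j => ?_
    rw [RingHom.mapMatrix_apply, Matrix.map_apply,
      Algebra.PreSubmersivePresentation.jacobiMatrix_apply,
      Algebra.PreSubmersivePresentation.jacobiMatrix_apply]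
    change MvPolynomial.map (Ideal.Quotient.mk I) (MvPolynomial.pderiv (P.map i) (Rel j)) = _
    rw [← MvPolynomial.pderiv_map, hRel]
  have hunit : ∀ y : Submonoid.powers N.jacobian, IsUnit (φ2 y) := by
    rintro ⟨_, n, rfl⟩
    rw [map_pow, hφ2jac]
    exact P.jacobian_isUnit.pow n
  let π : Localization.Away N.jacobian →ₐ[A] C := IsLocalization.liftAlgHom hunit
  have hπ : ∀ x, π (algebraMap _ _ x) = φ2 x := by
    intro x
    exact IsLocalization.lift_eq _ x
  refine ⟨Localization.Away N.jacobian, inferInstance, inferInstance, π, hEt, ?_, ?_⟩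
  · intro c
    obtain ⟨pbar, rfl⟩ := P.aeval_val_surjective c
    obtain ⟨p, rfl⟩ := hsurj pbar
    exact ⟨algebraMap _ _ (Ideal.Quotient.mk _ p), by rw [hπ, hφ2, hφ0]⟩
  · apply le_antisymm
    · intro z hz
      rw [RingHom.mem_ker] at hz
      obtain ⟨n, b, hb⟩ := IsLocalization.Away.surj N.jacobian z
      have hb0 : φ2 b = 0 := by
        rw [← hπ, ← hb, map_mul, hz, zero_mul]
      obtain ⟨p, rfl⟩ := Ideal.Quotient.mk_surjective b
      rw [hφ2, hφ0] at hb0
      have h1 : MvPolynomial.map (Ideal.Quotient.mk I) p ∈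
          Ideal.span (Set.range P.relation) := by
        rw [P.span_range_relation_eq_ker, Algebra.Generators.ker_eq_ker_aeval_val,
          RingHom.mem_ker]
        exact hb0
      have h2 : Ideal.span (Set.range P.relation) =
          (Ideal.span (Set.range Rel)).map (MvPolynomial.map (Ideal.Quotient.mk I)) := by
        have h9 : P.relation = ⇑(MvPolynomial.map (Ideal.Quotient.mk I)) ∘ Rel :=
          funext fun j => (hRel j).symm
        rw [Ideal.map_span, ← Set.range_comp, h9]
      rw [h2] at h1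
      obtain ⟨p', hp', hpp'⟩ := (Ideal.mem_map_iff_of_surjective _ hsurj).mp h1
      have h3 : p - p' ∈ Ideal.map (MvPolynomial.C : A →+* MvPolynomial ι A) I := by
        have h4 : p - p' ∈ RingHom.ker (MvPolynomial.map (Ideal.Quotient.mk I) :
            MvPolynomial ι A →+* MvPolynomial ι (A ⧸ I)) := by
          rw [RingHom.mem_ker, map_sub, hpp', sub_self]
        rw [MvPolynomial.ker_map, Ideal.mk_ker] at h4
        exact h4
      have h5 : (Ideal.Quotient.mk (Ideal.span (Set.range Rel)) p) ∈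
          I.map (algebraMap A (MvPolynomial ι A ⧸ Ideal.span (Set.range Rel))) := by
        have h6 : Ideal.Quotient.mk (Ideal.span (Set.range Rel)) p =
            Ideal.Quotient.mk (Ideal.span (Set.range Rel)) (p - p') := by
          rw [map_sub, Ideal.Quotient.eq_zero_iff_mem.mpr hp', sub_zero]
        rw [h6]
        have h7 := Ideal.mem_map_of_mem (Ideal.Quotient.mk (Ideal.span (Set.range Rel))) h3
        rw [Ideal.map_map] at h7
        exact h7
      have h8 := Ideal.mem_map_of_mem (algebraMap (MvPolynomial ι A ⧸ Ideal.span (Set.range Rel))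
        (Localization.Away N.jacobian)) h5
      rw [Ideal.map_map, ← IsScalarTower.algebraMap_eq] at h8
      rw [← hb] at h8
      have hu := (IsLocalization.Away.algebraMap_isUnit (S := Localization.Away N.jacobian)
        N.jacobian).pow n
      exact (Ideal.unit_mul_mem_iff_mem _ hu).mp (by rwa [mul_comm] at h8)
    · rw [Ideal.map_le_iff_le_comap]
      intro a ha
      rw [Ideal.mem_comap, RingHom.mem_ker, AlgHom.commutes]
      exact hIC a ha

/-- From a surjection `B → C` with kernel `I B` one gets `(A ⧸ I) ⊗ B ≃ C`. -/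
theorem nonempty_tensor_algEquiv_of_ker_eq {A : Type*} [CommRing A] (I : Ideal A) {B C : Type*}
    [CommRing B] [Algebra A B] [CommRing C] [Algebra (A ⧸ I) C] [Algebra A C]
    [IsScalarTower A (A ⧸ I) C] (ρ : B →ₐ[A] C) (hρ : Function.Surjective ρ)
    (hker : RingHom.ker ρ = I.map (algebraMap A B)) :
    Nonempty ((A ⧸ I) ⊗[A] B ≃ₐ[A ⧸ I] C) := by
  let e₁ : (B ⧸ I.map (algebraMap A B)) ≃ₐ[A] C :=
    (Ideal.quotientEquivAlgOfEq A hker.symm).trans (Ideal.quotientKerAlgEquivOfSurjective hρ)
  let e₂ : (B ⧸ I.map (algebraMap A B)) ≃ₐ[A ⧸ I] C :=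
    AlgEquiv.extendScalarsOfSurjective Ideal.Quotient.mk_surjective e₁
  exact ⟨(Algebra.TensorProduct.quotIdealMapEquivQuotTensor B I).symm.trans e₂⟩

/-- Extracting the finite part: an étale algebra over a henselian pair whose reduction mod `I` is
integral over `A` has a finite étale factor with the same reduction. -/
theorem exists_finite_etale_of_quotient {A : Type u} [CommRing A] (I : Ideal A) [HenselianRing A I]
    {S : Type u} [CommRing S] [Algebra A S] [Algebra.Etale A S] {C : Type u} [CommRing C]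
    [Algebra A C] [Algebra.IsIntegral A C] (hIC : ∀ a ∈ I, algebraMap A C a = 0)
    (π : S →ₐ[A] C) (hπ : Function.Surjective π) (hker : RingHom.ker π = I.map (algebraMap A S)) :
    ∃ (B : Type u) (_ : CommRing B) (_ : Algebra A B) (ρ : B →ₐ[A] C), Module.Finite A B ∧
      Algebra.Etale A B ∧ Function.Surjective ρ ∧ RingHom.ker ρ = I.map (algebraMap A B) := by
  classical
  have hqf : Algebra.QuasiFinite A S := inferInstance
  have hG : GabberCond I := gabberCond_of_henselianRing I
  obtain ⟨Δ, hΔ1, hΔi, hΔx⟩ := exists_integral_elem_quotient π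
  obtain ⟨B₀, hΔB, hBfg, hBx⟩ := exists_fg_subalgebra_pow_mul_mem Δ hΔi hΔx
  have hBfin : Module.Finite A B₀ := ⟨(Submodule.fg_top _).mpr hBfg⟩
  have hBint : Algebra.IsIntegral A B₀ := Algebra.IsIntegral.of_finite A B₀
  let r : B₀ := ⟨Δ, hΔB⟩
  let π₀ : B₀ →ₐ[A] C := π.comp B₀.val
  have hπ₀r : π₀ r = 1 := hΔ1
  have hπ₀surj : Function.Surjective π₀ := by
    intro c
    obtain ⟨x, rfl⟩ := hπ c
    obtain ⟨N, hN⟩ := hBx x
    refine ⟨⟨Δ ^ N * x, hN⟩, ?_⟩
    change π (Δ ^ N * x) = π x
    rw [map_mul, map_pow, hΔ1, one_pow, one_mul]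
  have hπ₀J : ∀ j ∈ I.map (algebraMap A B₀), π₀ j = 0 := by
    intro j hj
    have hle : I.map (algebraMap A B₀) ≤ RingHom.ker π₀ := by
      rw [Ideal.map_le_iff_le_comap]
      intro a ha
      rw [Ideal.mem_comap, RingHom.mem_ker, AlgHom.commutes]
      exact hIC a ha
    exact hle hj
  -- elements of `I S` are, up to a power of `Δ`, in `I B₀`
  have hclaim : ∀ z ∈ I.map (algebraMap A S), ∃ (N : ℕ) (b' : B₀),
      b' ∈ I.map (algebraMap A B₀) ∧ (b' : S) = Δ ^ N * z := by
    intro z hz
    change z ∈ Submodule.span S ((algebraMap A S) '' (I : Set A)) at hz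
    induction hz using Submodule.span_induction with
    | mem z hz =>
      obtain ⟨a, ha, rfl⟩ := hz
      exact ⟨0, algebraMap A B₀ a, Ideal.mem_map_of_mem _ ha, by rw [pow_zero, one_mul]; rfl⟩
    | zero => exact ⟨0, 0, zero_mem _, by simp⟩
    | add x y _ _ ihx ihy =>
      obtain ⟨N₁, b₁, hb₁, h₁⟩ := ihx
      obtain ⟨N₂, b₂, hb₂, h₂⟩ := ihy
      refine ⟨N₁ + N₂, r ^ N₂ * b₁ + r ^ N₁ * b₂,
        add_mem (Ideal.mul_mem_left _ _ hb₁) (Ideal.mul_mem_left _ _ hb₂), ?_⟩
      change Δ ^ N₂ * (b₁ : S) + Δ ^ N₁ * (b₂ : S) = _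
      rw [h₁, h₂, pow_add]
      ring
    | smul s x _ ih =>
      obtain ⟨N, b', hb', h'⟩ := ih
      obtain ⟨M, hM⟩ := hBx s
      refine ⟨N + M, ⟨Δ ^ M * s, hM⟩ * b', Ideal.mul_mem_left _ _ hb', ?_⟩
      change Δ ^ M * s * (b' : S) = _
      rw [h', pow_add, smul_eq_mul]
      ring
  have h2c : ∀ b : B₀, π₀ b = 0 → ∃ N, r ^ N * b ∈ I.map (algebraMap A B₀) := by
    intro b hb
    have hbS : (b : S) ∈ I.map (algebraMap A S) := by
      rw [← hker, RingHom.mem_ker]
      exact hb
    obtain ⟨N, b', hb', hcoe⟩ := hclaim (b : S) hbS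
    refine ⟨N, ?_⟩
    have h1 : r ^ N * b = b' := Subtype.ext hcoe.symm
    rw [h1]
    exact hb'
  -- the idempotent
  obtain ⟨N, hN⟩ := h2c (r - 1) (by rw [map_sub, hπ₀r, map_one, sub_self])
  have hidem : r ^ N * r ^ N - r ^ N ∈ I.map (algebraMap A B₀) := by
    have h1 : r ^ N * r ^ N - r ^ N =
        (r ^ N * (r - 1)) * ∑ i ∈ Finset.range N, r ^ i := by
      rw [mul_assoc, mul_geom_sum]
      ring
    rw [h1]
    exact Ideal.mul_mem_right _ _ hN
  obtain ⟨e, he, hee⟩ := exists_idempotent_lift_of_gabber_of_isIntegral I hG (r ^ N) hidem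
  have hπ₀e : π₀ e = 1 := by
    have h1 : e = r ^ N + (e - r ^ N) := by ring
    rw [h1, map_add, map_pow, hπ₀r, one_pow, hπ₀J _ hee, add_zero]
  -- the finite algebra
  have hkill : ∀ x ∈ Ideal.span {1 - e}, π₀ x = 0 := by
    intro x hx
    obtain ⟨c, rfl⟩ := Ideal.mem_span_singleton'.mp hx
    rw [map_mul, map_sub, map_one, hπ₀e, sub_self, mul_zero]
  let ρ : (B₀ ⧸ Ideal.span {1 - e}) →ₐ[A] C := Ideal.Quotient.liftₐ _ π₀ hkill
  have hρmk : ∀ b : B₀, ρ (Ideal.Quotient.mk _ b) = π₀ b := by
    intro b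
    rw [Ideal.Quotient.liftₐ_apply, Ideal.Quotient.lift_mk]
    rfl
  have hB₁fin : Module.Finite A (B₀ ⧸ Ideal.span {1 - e}) :=
    Module.Finite.of_surjective (Ideal.Quotient.mkₐ A (Ideal.span {1 - e})).toLinearMap
      (Ideal.Quotient.mkₐ_surjective A _)
  have hB₁int : Algebra.IsIntegral A (B₀ ⧸ Ideal.span {1 - e}) := Algebra.IsIntegral.of_finite A _
  have hjac : I.map (algebraMap A (B₀ ⧸ Ideal.span {1 - e})) ≤ Ideal.jacobson ⊥ :=
    map_le_jacobson_of_isIntegral I hG.1 _
  have hmapJ : ∀ j ∈ I.map (algebraMap A B₀),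
      Ideal.Quotient.mk (Ideal.span {1 - e}) j ∈ I.map (algebraMap A (B₀ ⧸ Ideal.span {1 - e})) := by
    intro j hj
    have h1 := Ideal.mem_map_of_mem (Ideal.Quotient.mk (Ideal.span {1 - e})) hj
    rw [Ideal.map_map] at h1
    exact h1
  have hmke : Ideal.Quotient.mk (Ideal.span {1 - e}) e = 1 := by
    have h1 : Ideal.Quotient.mk (Ideal.span {1 - e}) (1 - e) = 0 :=
      Ideal.Quotient.eq_zero_iff_mem.mpr (Ideal.mem_span_singleton_self _)
    rw [map_sub, map_one, sub_eq_zero] at h1
    exact h1.symm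
  have hr1 : IsUnit (Ideal.Quotient.mk (Ideal.span {1 - e}) r) := by
    apply isUnit_of_isUnit_mk hjac
    have h1 : (Ideal.Quotient.mk (I.map (algebraMap A (B₀ ⧸ Ideal.span {1 - e})))
        (Ideal.Quotient.mk (Ideal.span {1 - e}) r)) ^ N = 1 := by
      rw [← map_pow, ← map_pow, ← map_one (Ideal.Quotient.mk (I.map (algebraMap A
        (B₀ ⧸ Ideal.span {1 - e})))), ← hmke, ← sub_eq_zero, ← map_sub, ← map_sub,
        Ideal.Quotient.eq_zero_iff_mem]
      have h2 : r ^ N - e = -(e - r ^ N) := by ring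
      rw [h2, map_neg]
      exact neg_mem (hmapJ _ hee)
    have h3 : (Ideal.Quotient.mk (I.map (algebraMap A (B₀ ⧸ Ideal.span {1 - e})))
        (Ideal.Quotient.mk (Ideal.span {1 - e}) r)) ^ (N + 1) = 1 := by
      have h4 : (Ideal.Quotient.mk (I.map (algebraMap A (B₀ ⧸ Ideal.span {1 - e})))
          (Ideal.Quotient.mk (Ideal.span {1 - e}) (r ^ N * (r - 1)))) = 0 :=
        Ideal.Quotient.eq_zero_iff_mem.mpr (hmapJ _ hN)
      simp only [map_mul, map_sub, map_one, map_pow] at h4
      rw [pow_succ]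
      linear_combination h4 + h1
    exact IsUnit.of_pow_eq_one h3 (Nat.succ_ne_zero N)
  have hρsurj : Function.Surjective ρ := by
    intro c
    obtain ⟨b, rfl⟩ := hπ₀surj c
    exact ⟨Ideal.Quotient.mk _ b, hρmk b⟩
  have hkerρ : RingHom.ker ρ = I.map (algebraMap A (B₀ ⧸ Ideal.span {1 - e})) := by
    apply le_antisymm
    · intro z hz
      rw [RingHom.mem_ker] at hz
      obtain ⟨b, rfl⟩ := Ideal.Quotient.mk_surjective z
      rw [hρmk] at hz
      obtain ⟨N', hN'⟩ := h2c b hz
      have h1 := hmapJ _ hN'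
      rw [map_mul, map_pow] at h1
      exact (Ideal.unit_mul_mem_iff_mem _ (hr1.pow N')).mp h1
    · rw [Ideal.map_le_iff_le_comap]
      intro a ha
      rw [Ideal.mem_comap, RingHom.mem_ker, AlgHom.commutes]
      exact hIC a ha
  -- étale
  have halg : ∀ b : B₀, algebraMap B₀ (Localization.Away Δ) b =
      algebraMap S (Localization.Away Δ) (b : S) := fun _ => rfl
  haveI hloc : IsLocalization.Away r (Localization.Away Δ) :=
    isLocalization_away_subalgebra B₀ r hBx (Localization.Away Δ) halg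
  let ψ : Localization.Away Δ →+* (B₀ ⧸ Ideal.span {1 - e}) :=
    IsLocalization.Away.lift r (g := Ideal.Quotient.mk (Ideal.span {1 - e})) hr1
  have hψ : ∀ b : B₀, ψ (algebraMap B₀ (Localization.Away Δ) b) = Ideal.Quotient.mk _ b :=
    fun b => IsLocalization.Away.lift_eq r hr1 b
  letI algψ : Algebra (Localization.Away Δ) (B₀ ⧸ Ideal.span {1 - e}) := ψ.toAlgebra
  haveI tower1 : IsScalarTower A (Localization.Away Δ) (B₀ ⧸ Ideal.span {1 - e}) := by
    apply IsScalarTower.of_algebraMap_eq
    intro a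
    change _ = ψ (algebraMap A (Localization.Away Δ) a)
    have h1 : algebraMap A (Localization.Away Δ) a =
        algebraMap B₀ (Localization.Away Δ) (algebraMap A B₀ a) := rfl
    rw [h1, hψ]
    rfl
  have hidem' : IsIdempotentElem (algebraMap B₀ (Localization.Away Δ) e) := he.map _
  haveI hlocB : IsLocalization.Away (algebraMap B₀ (Localization.Away Δ) e)
      (B₀ ⧸ Ideal.span {1 - e}) := by
    apply IsLocalization.away_of_isIdempotentElem hidem'
    · apply le_antisymm
      · intro z hz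
        rw [RingHom.mem_ker] at hz
        change ψ z = 0 at hz
        obtain ⟨n, b, hb⟩ := IsLocalization.Away.surj r z
        have hb0 : Ideal.Quotient.mk (Ideal.span {1 - e}) b = 0 := by
          rw [← hψ, ← hb, map_mul, hz, zero_mul]
        rw [Ideal.Quotient.eq_zero_iff_mem] at hb0
        obtain ⟨c, rfl⟩ := Ideal.mem_span_singleton'.mp hb0
        have hu : IsUnit (algebraMap B₀ (Localization.Away Δ) r ^ n) :=
          (IsLocalization.Away.algebraMap_isUnit r).pow n
        rw [Ideal.mem_span_singleton']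
        obtain ⟨u, hu'⟩ := hu
        refine ⟨algebraMap _ _ c * ↑u⁻¹, ?_⟩
        have h2 : z = algebraMap B₀ (Localization.Away Δ) (c * (1 - e)) * ↑u⁻¹ := by
          rw [← hb, ← hu', mul_assoc, Units.mul_inv, mul_one]
        rw [h2, map_mul, map_sub, map_one]
        ring
      · rw [Ideal.span_singleton_le_iff_mem, RingHom.mem_ker]
        change ψ (1 - algebraMap B₀ (Localization.Away Δ) e) = 0
        rw [map_sub, map_one, hψ, hmke, sub_self]
    · intro z
      obtain ⟨b, rfl⟩ := Ideal.Quotient.mk_surjective z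
      exact ⟨algebraMap B₀ (Localization.Away Δ) b, hψ b⟩
  have hEt1 : Algebra.Etale A (Localization.Away Δ) := inferInstance
  have hEt2 : Algebra.Etale (Localization.Away Δ) (B₀ ⧸ Ideal.span {1 - e}) :=
    Algebra.Etale.of_isLocalizationAway (algebraMap B₀ (Localization.Away Δ) e)
  have hEt : Algebra.Etale A (B₀ ⧸ Ideal.span {1 - e}) :=
    Algebra.Etale.comp A (Localization.Away Δ) _
  exact ⟨B₀ ⧸ Ideal.span {1 - e}, inferInstance, inferInstance, ρ, hB₁fin, hEt, hρsurj, hkerρ⟩

end Helper1
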