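import Mathlib
import Groth.Prelude.Def_HopfRep
import Groth.Prelude.Def_W4c1tameactTame
import Groth.Prelude.Def_Hoch
import Groth.Prelude.Def_GLin
import Groth.Agent.Lib.helper1.HopfMod

set_option autoImplicit false
open scoped TensorProduct
open TensorProduct Coalgebra

namespace Helper1.HopfMod2

open Helper1.HopfMod

section

variable {k : Type*} [CommRing k] {A : Type*} [CommRing A] [HopfAlgebra k A]
variable {B : Type*} [CommRing B] [Algebra k B] [HopfRep.Comod k A B]
variable {M : Type*} [AddCommGroup M] [Module k M] [Module B M] [IsScalarTower k B M]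
  [HopfRep.Comod k A M]

variable (k B M) in
/-- scalar action of `B` on `M` as a bilinear map -/
noncomputable def smB : B →ₗ[k] M →ₗ[k] M :=
  (Algebra.lsmul k k M : B →ₐ[k] Module.End k M).toLinearMap

omit [HopfRep.Comod k A B] [HopfRep.Comod k A M] in
theorem smB_apply (b : B) (m : M) : smB k B M b m = b • m := rfl

theorem reynolds_eq_cact (α : A →ₗ[k] B) :
    TameAct.reynolds k A B M α =
      cact (smB k B M) LinearMap.id (α ∘ₗ HopfAlgebra.antipode k) := by
  have h : ((Algebra.lsmul k k M : B →ₐ[k] Module.End k M).toLinearMap ∘ₗ α ∘ₗ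
        (HopfAlgebraStruct.antipode (R := k) (A := A))).flip =
      ((smB k B M).flip ∘ₗ LinearMap.id).compl₂ (α ∘ₗ HopfAlgebra.antipode k) := by
    apply LinearMap.ext₂
    intro m a
    rfl
  unfold TameAct.reynolds cact
  rw [h]

theorem reynolds_apply (α : A →ₗ[k] B) (m : M) :
    TameAct.reynolds k A B M α m =
      TensorProduct.lift (((smB k B M).flip ∘ₗ LinearMap.id).compl₂
        (α ∘ₗ HopfAlgebra.antipode k)) (HopfRep.Comod.coact (k := k) (A := A) m) := by
  rw [reynolds_eq_cact, cact_apply]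

theorem hm_mul (r s : B ⊗[k] A) (x : M ⊗[k] A) :
    TameAct.hmSMul k A B M (r * s) x =
      TameAct.hmSMul k A B M r (TameAct.hmSMul k A B M s x) := by
  induction r using TensorProduct.induction_on with
  | zero => simp
  | add r₁ r₂ h₁ h₂ => simp only [add_mul, map_add, LinearMap.add_apply, h₁, h₂]
  | tmul b a =>
    induction s using TensorProduct.induction_on with
    | zero => simp
    | add s₁ s₂ h₁ h₂ => simp only [mul_add, map_add, LinearMap.add_apply, h₁, h₂]
    | tmul b' a' =>
      induction x using TensorProduct.induction_on with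
      | zero => simp
      | add x₁ x₂ h₁ h₂ => simp only [map_add, h₁, h₂]
      | tmul m c =>
        simp only [Algebra.TensorProduct.tmul_mul_tmul, TameAct.hmSMul_tmul, mul_smul, mul_assoc]

variable (B) in
theorem rho_eq : (HopfRep.Comod.coact (k := k) (A := A) : M →ₗ[k] M ⊗[k] A) =
    cact (TameAct.hmSMul k A B M) ((TensorProduct.mk k M A).flip 1)
      (Algebra.TensorProduct.includeRight : A →ₐ[k] B ⊗[k] A).toLinearMap := by
  have h : TensorProduct.lift (((TameAct.hmSMul k A B M).flip ∘ₗ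
      (TensorProduct.mk k M A).flip 1).compl₂
      (Algebra.TensorProduct.includeRight : A →ₐ[k] B ⊗[k] A).toLinearMap) = LinearMap.id := by
    apply TensorProduct.ext'
    intro m a
    simp
  apply LinearMap.ext
  intro m
  rw [cact_apply, h, LinearMap.id_apply]

theorem rho_R [TameAct.IsHopfMod k A B M] (α : A →ₗ[k] B) :
    (HopfRep.Comod.coact (k := k) (A := A) : M →ₗ[k] M ⊗[k] A) ∘ₗ
        cact (smB k B M) LinearMap.id (α ∘ₗ HopfAlgebra.antipode k) =
      cact (TameAct.hmSMul k A B M) (HopfRep.Comod.coact (k := k) (A := A))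
        ((HopfRep.Comod.coact (k := k) (A := A) : B →ₗ[k] B ⊗[k] A) ∘ₗ
          (α ∘ₗ HopfAlgebra.antipode k)) := by
  have h : (HopfRep.Comod.coact (k := k) (A := A) : M →ₗ[k] M ⊗[k] A) ∘ₗ
      TensorProduct.lift (((smB k B M).flip ∘ₗ LinearMap.id).compl₂
        (α ∘ₗ HopfAlgebra.antipode k)) =
      TensorProduct.lift (((TameAct.hmSMul k A B M).flip ∘ₗ
        HopfRep.Comod.coact (k := k) (A := A)).compl₂
        ((HopfRep.Comod.coact (k := k) (A := A) : B →ₗ[k] B ⊗[k] A) ∘ₗ
          (α ∘ₗ HopfAlgebra.antipode k))) := by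
    apply TensorProduct.ext'
    intro m a
    simp only [LinearMap.comp_apply, TensorProduct.lift.tmul, LinearMap.compl₂_apply,
      LinearMap.flip_apply, LinearMap.id_coe, id_eq, smB_apply]
    exact TameAct.IsHopfMod.coact_smul (k := k) (A := A) (B := B) (M := M) _ m
  apply LinearMap.ext
  intro m
  rw [LinearMap.comp_apply, cact_apply, cact_apply]
  have := LinearMap.congr_fun h (HopfRep.Comod.coact (k := k) (A := A) m)
  rw [LinearMap.comp_apply] at this
  exact this

omit [HopfRep.Comod k A B] in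
theorem conv_compat (α : A →ₗ[k] B) (g : A →ₗ[k] A ⊗[k] A) :
    LinearMap.mul' k (B ⊗[k] A) ∘ₗ
      TensorProduct.map (Algebra.TensorProduct.includeRight : A →ₐ[k] B ⊗[k] A).toLinearMap
        (α.rTensor A ∘ₗ g) ∘ₗ (comul : A →ₗ[k] A ⊗[k] A) =
    α.rTensor A ∘ₗ (LinearMap.mul' k (A ⊗[k] A) ∘ₗ
      TensorProduct.map (Algebra.TensorProduct.includeRight : A →ₐ[k] A ⊗[k] A).toLinearMap g ∘ₗ
        (comul : A →ₗ[k] A ⊗[k] A)) := by
  have h1 : ∀ (a : A) (z : A ⊗[k] A),
      ((1 : B) ⊗ₜ[k] a) * α.rTensor A z = α.rTensor A (((1 : A) ⊗ₜ[k] a) * z) := by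
    intro a z
    induction z using TensorProduct.induction_on with
    | zero => simp
    | tmul b c => simp [Algebra.TensorProduct.tmul_mul_tmul]
    | add z₁ z₂ h₁ h₂ => simp only [mul_add, map_add, h₁, h₂]
  have h2 : ∀ y : A ⊗[k] A, LinearMap.mul' k (B ⊗[k] A)
        (TensorProduct.map (Algebra.TensorProduct.includeRight : A →ₐ[k] B ⊗[k] A).toLinearMap
          (α.rTensor A ∘ₗ g) y) =
      α.rTensor A (LinearMap.mul' k (A ⊗[k] A)
        (TensorProduct.map (Algebra.TensorProduct.includeRight : A →ₐ[k] A ⊗[k] A).toLinearMap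
          g y)) := by
    intro y
    induction y using TensorProduct.induction_on with
    | zero => simp
    | tmul a b =>
      simp only [TensorProduct.map_tmul, LinearMap.mul'_apply, AlgHom.toLinearMap_apply,
        Algebra.TensorProduct.includeRight_apply, LinearMap.comp_apply]
      exact h1 a (g b)
    | add y₁ y₂ h₁ h₂ => simp only [map_add, h₁, h₂]
  apply LinearMap.ext
  intro a
  simp only [LinearMap.comp_apply]
  exact h2 (comul a)

theorem coact_reynolds [TameAct.IsHopfMod k A B M] (α : A →ₗ[k] B)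
    (hα : Hoch.IsComodHom A α) (m : M) :
    HopfRep.Comod.coact (k := k) (A := A) (TameAct.reynolds k A B M α m) =
      TameAct.reynolds k A B M α m ⊗ₜ[k] (1 : A) := by
  have hα' : (HopfRep.Comod.coact (k := k) (A := A) : B →ₗ[k] B ⊗[k] A) ∘ₗ α =
      α.rTensor A ∘ₗ (comul : A →ₗ[k] A ⊗[k] A) := hα
  have e1 : (HopfRep.Comod.coact (k := k) (A := A) : B →ₗ[k] B ⊗[k] A) ∘ₗ
      (α ∘ₗ HopfAlgebra.antipode k) =
      α.rTensor A ∘ₗ ((comul : A →ₗ[k] A ⊗[k] A) ∘ₗ HopfAlgebra.antipode k) := by
    rw [← LinearMap.comp_assoc, hα', LinearMap.comp_assoc]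
  have e2 : cact (TameAct.hmSMul k A B M) ((TensorProduct.mk k M A).flip 1)
      (α.rTensor A ∘ₗ ((Algebra.TensorProduct.includeLeft : A →ₐ[k] A ⊗[k] A).toLinearMap ∘ₗ
        HopfAlgebra.antipode k)) =
      ((TensorProduct.mk k M A).flip 1) ∘ₗ
        cact (smB k B M) LinearMap.id (α ∘ₗ HopfAlgebra.antipode k) := by
    have h : TensorProduct.lift (((TameAct.hmSMul k A B M).flip ∘ₗ
          (TensorProduct.mk k M A).flip 1).compl₂
          (α.rTensor A ∘ₗ ((Algebra.TensorProduct.includeLeft : A →ₐ[k] A ⊗[k] A).toLinearMap ∘ₗ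
            HopfAlgebra.antipode k))) =
        ((TensorProduct.mk k M A).flip 1) ∘ₗ
          TensorProduct.lift (((smB k B M).flip ∘ₗ LinearMap.id).compl₂
            (α ∘ₗ HopfAlgebra.antipode k)) := by
      apply TensorProduct.ext'
      intro m a
      simp [smB_apply]
    apply LinearMap.ext
    intro m
    rw [cact_apply, h]
    rfl
  have h : (HopfRep.Comod.coact (k := k) (A := A) : M →ₗ[k] M ⊗[k] A) ∘ₗ
      cact (smB k B M) LinearMap.id (α ∘ₗ HopfAlgebra.antipode k) =
      ((TensorProduct.mk k M A).flip 1) ∘ₗ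
        cact (smB k B M) LinearMap.id (α ∘ₗ HopfAlgebra.antipode k) := by
    rw [rho_R, e1]
    conv_lhs => rw [rho_eq (k := k) (A := A) B (M := M)]
    rw [cact_cact (TameAct.hmSMul k A B M) hm_mul, conv_compat, conv_identity, e2]
  have := LinearMap.congr_fun h m
  rw [reynolds_eq_cact]
  simpa using this

theorem reynolds_fixed (α : A →ₗ[k] B) (hα1 : α 1 = 1) (m : M)
    (hm : HopfRep.Comod.coact (k := k) (A := A) m = m ⊗ₜ[k] (1 : A)) :
    TameAct.reynolds k A B M α m = m := by
  rw [TameAct.reynolds_apply_of_coact_eq k A B M α m m 1 hm]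
  show α (HopfAlgebra.antipode k (1 : A)) • m = m
  rw [HopfAlgebra.antipode_one, hα1, one_smul]

theorem reynolds_comm {N : Type*} [AddCommGroup N] [Module k N] [Module B N]
    [IsScalarTower k B N] [HopfRep.Comod k A N] (α : A →ₗ[k] B) (f : M →ₗ[B] N)
    (hf : Hoch.IsComodHom A (f.restrictScalars k)) (m : M) :
    f (TameAct.reynolds k A B M α m) = TameAct.reynolds k A B N α (f m) := by
  have h : (f.restrictScalars k) ∘ₗ
      TensorProduct.lift (((smB k B M).flip ∘ₗ LinearMap.id).compl₂
        (α ∘ₗ HopfAlgebra.antipode k)) =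
      TensorProduct.lift (((smB k B N).flip ∘ₗ LinearMap.id).compl₂
        (α ∘ₗ HopfAlgebra.antipode k)) ∘ₗ (f.restrictScalars k).rTensor A := by
    apply TensorProduct.ext'
    intro m' a
    simp [smB_apply]
  have hf' : (HopfRep.Comod.coact (k := k) (A := A) : N →ₗ[k] N ⊗[k] A) ∘ₗ
      f.restrictScalars k = (f.restrictScalars k).rTensor A ∘ₗ
      (HopfRep.Comod.coact (k := k) (A := A) : M →ₗ[k] M ⊗[k] A) := hf
  have e1 := LinearMap.congr_fun h (HopfRep.Comod.coact (k := k) (A := A) m)
  have e2 := LinearMap.congr_fun hf' m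
  rw [LinearMap.comp_apply, LinearMap.comp_apply] at e1 e2
  rw [reynolds_apply, reynolds_apply]
  show (f.restrictScalars k) _ = TensorProduct.lift _
    (HopfRep.Comod.coact (k := k) (A := A) ((f.restrictScalars k) m))
  rw [e2, e1]

end

end Helper1.HopfMod2
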