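import Mathlib
import Groth.Prelude.Def_HopfRep
import Groth.Prelude.Def_W4c1tameactTame
import Groth.Prelude.Def_Hoch
import Groth.Prelude.Def_GLin
import Groth.Agent.Lib.helper1.HopfMod2

set_option autoImplicit false
open scoped TensorProduct
open TensorProduct Coalgebra

namespace Helper1.HopfMod3

open Helper1.HopfMod Helper1.HopfMod2

variable {k : Type*} [CommRing k] {A : Type*} [CommRing A] [HopfAlgebra k A]
variable {B : Type*} [CommRing B] [Algebra k B] [HopfRep.Comod k A B]

omit [HopfRep.Comod k A B] in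
theorem hm_self (x y : B ⊗[k] A) : TameAct.hmSMul k A B B x y = x * y := by
  induction x using TensorProduct.induction_on with
  | zero => simp
  | add x₁ x₂ h₁ h₂ => simp only [map_add, LinearMap.add_apply, add_mul, h₁, h₂]
  | tmul b a =>
    induction y using TensorProduct.induction_on with
    | zero => simp
    | add y₁ y₂ h₁ h₂ => simp only [map_add, mul_add, h₁, h₂]
    | tmul m c => simp [Algebra.TensorProduct.tmul_mul_tmul]

theorem isHopfMod_self [GLin.IsCoactAlg k A B] : TameAct.IsHopfMod k A B B :=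
  ⟨fun b m => by rw [smul_eq_mul, GLin.IsCoactAlg.coact_mul, hm_self]⟩

theorem R_mul_inv [GLin.IsCoactAlg k A B] (α : A →ₗ[k] B) (c₀ : B)
    (hc : HopfRep.Comod.coact (k := k) (A := A) c₀ = c₀ ⊗ₜ[k] (1 : A)) (b : B) :
    TameAct.reynolds k A B B α (c₀ * b) = c₀ * TameAct.reynolds k A B B α b := by
  rw [reynolds_apply, reynolds_apply, GLin.IsCoactAlg.coact_mul, hc]
  generalize HopfRep.Comod.coact (k := k) (A := A) b = y
  induction y using TensorProduct.induction_on with
  | zero => simp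
  | tmul m a =>
    simp only [Algebra.TensorProduct.tmul_mul_tmul, one_mul, TensorProduct.lift.tmul,
      LinearMap.compl₂_apply, LinearMap.comp_apply, LinearMap.flip_apply, LinearMap.id_coe, id_eq,
      smB_apply, smul_eq_mul]
    ring
  | add y₁ y₂ h₁ h₂ => simp only [mul_add, map_add, h₁, h₂]

theorem R_mem_of_mem_map [GLin.IsCoactAlg k A B] (α : A →ₗ[k] B) (hα : Hoch.IsComodHom A α)
    (c : Ideal (GLin.invariants k A B)) (y : B)
    (hy : y ∈ c.map (algebraMap (GLin.invariants k A B) B)) :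
    ∀ b : B, ∃ w ∈ c, TameAct.reynolds k A B B α (b * y) = (w : B) := by
  haveI := isHopfMod_self (k := k) (A := A) (B := B)
  refine Submodule.span_induction (p := fun y _ => ∀ b : B, ∃ w ∈ c,
    TameAct.reynolds k A B B α (b * y) = (w : B)) ?_ ?_ ?_ ?_ hy
  · rintro _ ⟨c₀, hc₀, rfl⟩ b
    refine ⟨c₀ * ⟨TameAct.reynolds k A B B α b, coact_reynolds α hα b⟩,
      c.mul_mem_right _ hc₀, ?_⟩
    have e : TameAct.reynolds k A B B α (b * (c₀ : B)) =
        (c₀ : B) * TameAct.reynolds k A B B α b := by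
      rw [mul_comm]
      exact R_mul_inv α c₀.1 c₀.2 b
    exact e
  · intro b
    exact ⟨0, c.zero_mem, by simp⟩
  · intro y₁ y₂ _ _ h₁ h₂ b
    obtain ⟨w₁, hw₁, e₁⟩ := h₁ b
    obtain ⟨w₂, hw₂, e₂⟩ := h₂ b
    refine ⟨w₁ + w₂, c.add_mem hw₁ hw₂, ?_⟩
    rw [mul_add, map_add, e₁, e₂]
    rfl
  · intro a y _ h b
    obtain ⟨w, hw, e⟩ := h (b * a)
    refine ⟨w, hw, ?_⟩
    rw [smul_eq_mul, ← mul_assoc]
    exact e

theorem R_mem_of_stable (α : A →ₗ[k] B) (b : Ideal B)
    (hb : HopfRep.IsSubcomod (k := k) (A := A) (b.restrictScalars k)) (z : B) (hz : z ∈ b) :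
    TameAct.reynolds k A B B α z ∈ b := by
  obtain ⟨u, hu⟩ := hb z hz
  rw [reynolds_apply, ← hu]
  clear hu
  induction u using TensorProduct.induction_on with
  | zero => simp
  | tmul m a =>
    simp only [LinearMap.rTensor_tmul, Submodule.subtype_apply, TensorProduct.lift.tmul,
      LinearMap.compl₂_apply, LinearMap.comp_apply, LinearMap.flip_apply, LinearMap.id_coe, id_eq,
      smB_apply, smul_eq_mul]
    exact b.mul_mem_left _ m.2
  | add u₁ u₂ h₁ h₂ =>
    rw [map_add, map_add]
    exact b.add_mem h₁ h₂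

end Helper1.HopfMod3
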