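import Mathlib
import Groth.Prelude.Def_Wider

/-!
# Essential extensions and injective hulls: basic theory (helper1)
-/

universe u

namespace Helper1

variable {R : Type u} [CommRing R]

section Ess

variable {M E : Type*} [AddCommGroup M] [Module R M] [AddCommGroup E] [Module R E]

/-- Element form of essentiality of a linear map. -/
def IsEss (f : M →ₗ[R] E) : Prop :=
  ∀ y : E, y ≠ 0 → ∃ r : R, r • y ≠ 0 ∧ r • y ∈ LinearMap.range f

theorem isEss_iff (f : M →ₗ[R] E) :
    IsEss f ↔ ∀ N : Submodule R E, N ≠ ⊥ → N ⊓ LinearMap.range f ≠ ⊥ := by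
  constructor
  · intro h N hN
    obtain ⟨y, hyN, hy0⟩ := Submodule.exists_mem_ne_zero_of_ne_bot hN
    obtain ⟨r, hr0, hrf⟩ := h y hy0
    intro hbot
    have h1 : r • y ∈ N ⊓ LinearMap.range f := ⟨N.smul_mem r hyN, hrf⟩
    rw [hbot, Submodule.mem_bot] at h1
    exact hr0 h1
  · intro h y hy0
    have hN : Submodule.span R {y} ≠ ⊥ := by
      rw [Ne, Submodule.span_singleton_eq_bot]; exact hy0
    obtain ⟨z, hz, hz0⟩ := Submodule.exists_mem_ne_zero_of_ne_bot (h _ hN)
    obtain ⟨r, rfl⟩ := Submodule.mem_span_singleton.mp hz.1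
    exact ⟨r, hz0, hz.2⟩

/-- Essentiality between two submodules of a fixed module. -/
def EssIn (A B : Submodule R E) : Prop :=
  ∀ y ∈ B, y ≠ 0 → ∃ r : R, r • y ≠ 0 ∧ r • y ∈ A

theorem EssIn.refl (A : Submodule R E) : EssIn A A :=
  fun y hy hy0 => ⟨1, by rwa [one_smul], by rwa [one_smul]⟩

theorem EssIn.trans {A B C : Submodule R E} (h1 : EssIn A B) (h2 : EssIn B C) : EssIn A C := by
  intro y hy hy0
  obtain ⟨r, hr0, hrB⟩ := h2 y hy hy0
  obtain ⟨s, hs0, hsA⟩ := h1 (r • y) hrB hr0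
  exact ⟨s * r, by rwa [mul_smul], by rwa [mul_smul]⟩

theorem EssIn.inf_ne_bot {A B : Submodule R E} (h : EssIn A B) (N : Submodule R E) (hNB : N ≤ B)
    (hN : N ≠ ⊥) : N ⊓ A ≠ ⊥ := by
  obtain ⟨y, hyN, hy0⟩ := Submodule.exists_mem_ne_zero_of_ne_bot hN
  obtain ⟨r, hr0, hrA⟩ := h y (hNB hyN) hy0
  intro hbot
  have h1 : r • y ∈ N ⊓ A := ⟨N.smul_mem r hyN, hrA⟩
  rw [hbot, Submodule.mem_bot] at h1
  exact hr0 h1

theorem essIn_of_inf_ne_bot {A B : Submodule R E}
    (h : ∀ N : Submodule R E, N ≤ B → N ≠ ⊥ → N ⊓ A ≠ ⊥) : EssIn A B := by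
  intro y hy hy0
  have hN : Submodule.span R {y} ≠ ⊥ := by
    rw [Ne, Submodule.span_singleton_eq_bot]; exact hy0
  have hle : Submodule.span R {y} ≤ B := (Submodule.span_singleton_le_iff_mem y B).mpr hy
  obtain ⟨z, hz, hz0⟩ := Submodule.exists_mem_ne_zero_of_ne_bot (h _ hle hN)
  obtain ⟨r, rfl⟩ := Submodule.mem_span_singleton.mp hz.1
  exact ⟨r, hz0, hz.2⟩

/-- Maximal essential extensions inside a fixed module exist. -/
theorem exists_maximal_essIn (A : Submodule R E) :
    ∃ B : Submodule R E, A ≤ B ∧ EssIn A B ∧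
      ∀ B' : Submodule R E, B ≤ B' → EssIn B B' → B' = B := by
  obtain ⟨B, hAB, hmax⟩ := zorn_le_nonempty₀ {B : Submodule R E | A ≤ B ∧ EssIn A B} (by
    intro c hc hchain y hy
    refine ⟨sSup c, ⟨(hc hy).1.trans (le_sSup hy), ?_⟩, fun z hz => le_sSup hz⟩
    intro w hw hw0
    rw [Submodule.mem_sSup_of_directed ⟨y, hy⟩ hchain.directedOn] at hw
    obtain ⟨B, hB, hwB⟩ := hw
    exact (hc hB).2 w hwB hw0) A ⟨le_rfl, EssIn.refl A⟩
  refine ⟨B, hAB, hmax.prop.2, fun B' hBB' hess => ?_⟩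
  have hB' : B' ∈ {B : Submodule R E | A ≤ B ∧ EssIn A B} :=
    ⟨hAB.trans hBB', hmax.prop.2.trans hess⟩
  exact le_antisymm (hmax.le_of_ge hB' hBB') hBB'

end Ess

section Inj

/-- A retract of an injective module is injective. -/
theorem injective_of_retract {E Q : Type u} [AddCommGroup E] [Module R E] [AddCommGroup Q]
    [Module R Q] [hQ : Module.Injective R Q] (i : E →ₗ[R] Q) (p : Q →ₗ[R] E)
    (h : ∀ x, p (i x) = x) : Module.Injective R E := by
  apply Module.Baer.injective
  intro I g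
  obtain ⟨g', hg'⟩ := Module.Baer.of_injective hQ I (i ∘ₗ g)
  refine ⟨p ∘ₗ g', fun x hx => ?_⟩
  rw [LinearMap.comp_apply, hg' x hx, LinearMap.comp_apply, h]

theorem injective_of_isCompl {Q : Type u} [AddCommGroup Q] [Module R Q]
    [Module.Injective R Q] {E N : Submodule R Q} (h : IsCompl E N) : Module.Injective R E :=
  injective_of_retract E.subtype (Submodule.linearProjOfIsCompl E N h)
    (fun x => Submodule.linearProjOfIsCompl_apply_left h x)

/-- Every module embeds into an injective module (same universe). -/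
theorem exists_injective_embedding (M : Type u) [AddCommGroup M] [Module R M] :
    ∃ (Q : Type u) (_ : AddCommGroup Q) (_ : Module R Q) (_ : Module.Injective R Q)
      (i : M →ₗ[R] Q), Function.Injective i := by
  haveI : CategoryTheory.EnoughInjectives (ModuleCat.{u} R) := inferInstance
  let J := CategoryTheory.Injective.under (ModuleCat.of R M)
  haveI hJ : CategoryTheory.Injective (ModuleCat.of R J) :=
    (inferInstance : CategoryTheory.Injective J)
  refine ⟨J, inferInstance, inferInstance, Module.injective_module_of_injective_object R J,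
    (CategoryTheory.Injective.ι (ModuleCat.of R M)).hom, ?_⟩
  exact (ModuleCat.mono_iff_injective _).mp inferInstance

/-- A submodule of an injective module with no proper essential extension inside it is a direct
summand. -/
theorem exists_isCompl_of_no_essIn {Q : Type u} [AddCommGroup Q] [Module R Q]
    [hQ : Module.Injective R Q] (E : Submodule R Q)
    (hmax : ∀ E' : Submodule R Q, E ≤ E' → EssIn E E' → E' = E) :
    ∃ N : Submodule R Q, IsCompl E N := by
  obtain ⟨N, hN⟩ := zorn_le₀ {N : Submodule R Q | Disjoint E N} (by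
    intro c hc hchain
    rcases c.eq_empty_or_nonempty with rfl | ⟨y, hy⟩
    · exact ⟨⊥, disjoint_bot_right, fun z hz => absurd hz (Set.notMem_empty z)⟩
    · refine ⟨sSup c, ?_, fun z hz => le_sSup hz⟩
      rw [Set.mem_setOf_eq, Submodule.disjoint_def]
      intro w hwE hw
      rw [Submodule.mem_sSup_of_directed ⟨y, hy⟩ hchain.directedOn] at hw
      obtain ⟨B, hB, hwB⟩ := hw
      exact (Submodule.disjoint_def.mp (hc hB)) w hwE hwB)
  have hdisj : Disjoint E N := hN.prop
  have hdisj' : ∀ w, w ∈ E → w ∈ N → w = 0 := Submodule.disjoint_def.mp hdisj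
  let g : E →ₗ[R] Q ⧸ N := N.mkQ ∘ₗ E.subtype
  have hg : Function.Injective g := by
    rw [← LinearMap.ker_eq_bot, LinearMap.ker_eq_bot']
    intro e he
    have h1 : (e : Q) ∈ N := (Submodule.Quotient.mk_eq_zero N).mp he
    exact Subtype.ext (hdisj' _ e.2 h1)
  -- key property
  have hK : ∀ ybar : Q ⧸ N, ybar ≠ 0 → ∃ (r : R) (e : E), (e : Q) ≠ 0 ∧ r • ybar = g e := by
    intro ybar hybar
    obtain ⟨y, rfl⟩ := Submodule.mkQ_surjective N ybar
    have hyN : y ∉ N := fun h => hybar ((Submodule.Quotient.mk_eq_zero N).mpr h)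
    have hnd : ¬ Disjoint E (N ⊔ Submodule.span R {y}) := by
      intro hd
      have hle := hN.le_of_ge hd le_sup_left
      exact hyN (hle (Submodule.mem_sup_right (Submodule.mem_span_singleton_self y)))
    rw [Submodule.disjoint_def] at hnd
    push Not at hnd
    obtain ⟨e, heE, heN, he0⟩ := hnd
    obtain ⟨n, hn, z, hz, rfl⟩ := Submodule.mem_sup.mp heN
    obtain ⟨r, rfl⟩ := Submodule.mem_span_singleton.mp hz
    refine ⟨r, ⟨n + r • y, heE⟩, he0, ?_⟩
    show r • N.mkQ y = N.mkQ (n + r • y)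
    have hn0 : N.mkQ n = 0 := (Submodule.Quotient.mk_eq_zero N).mpr hn
    rw [map_add, map_smul, hn0, zero_add]
  obtain ⟨ψ, hψ⟩ := Module.Injective.extension_property R Q E (Q ⧸ N) g hg E.subtype
  have hψg : ∀ e : E, ψ (g e) = (e : Q) := fun e => LinearMap.congr_fun hψ e
  have hψinj : Function.Injective ψ := by
    rw [← LinearMap.ker_eq_bot, LinearMap.ker_eq_bot']
    intro ybar hy
    by_contra hne
    obtain ⟨r, e, he0, hre⟩ := hK ybar hne
    apply he0
    rw [← hψg, ← hre, map_smul, hy, smul_zero]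
  have hE' : LinearMap.range ψ = E := by
    apply hmax
    · intro w hw
      exact ⟨g ⟨w, hw⟩, hψg ⟨w, hw⟩⟩
    · rintro _ ⟨ybar, rfl⟩ hy0
      have hne : ybar ≠ 0 := fun h => hy0 (by rw [h, map_zero])
      obtain ⟨r, e, he0, hre⟩ := hK ybar hne
      refine ⟨r, ?_, ?_⟩
      · rw [← map_smul, hre, hψg]; exact he0
      · rw [← map_smul, hre, hψg]; exact e.2
  refine ⟨N, hdisj, ?_⟩
  rw [codisjoint_iff, eq_top_iff]
  intro y _
  have h1 : ψ (N.mkQ y) ∈ E := by rw [← hE']; exact ⟨_, rfl⟩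
  have h2 : ψ (N.mkQ y) = ψ (g ⟨_, h1⟩) := (hψg ⟨_, h1⟩).symm
  have h3 : N.mkQ y = g ⟨_, h1⟩ := hψinj h2
  have h4 : y - ψ (N.mkQ y) ∈ N := by
    rw [← Submodule.Quotient.mk_eq_zero N, Submodule.Quotient.mk_sub]
    show N.mkQ y - N.mkQ (ψ (N.mkQ y)) = 0
    rw [sub_eq_zero]
    exact h3
  have h5 : y = ψ (N.mkQ y) + (y - ψ (N.mkQ y)) := by abel
  rw [h5]
  exact Submodule.add_mem_sup h1 h4

/-- The maximal essential extension of a submodule of an injective module is injective. -/
theorem exists_injective_essIn {Q : Type u} [AddCommGroup Q] [Module R Q]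
    [Module.Injective R Q] (A : Submodule R Q) :
    ∃ B : Submodule R Q, A ≤ B ∧ EssIn A B ∧ Module.Injective R B ∧
      ∃ N : Submodule R Q, IsCompl B N := by
  obtain ⟨B, hAB, hess, hmax⟩ := exists_maximal_essIn A
  obtain ⟨N, hN⟩ := exists_isCompl_of_no_essIn B hmax
  exact ⟨B, hAB, hess, injective_of_isCompl hN, N, hN⟩

end Inj

end Helper1
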