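import Mathlib
import Groth.Prelude.Def_Wider
import Groth.Agent.Lib.helper1.InjHullBase

/-!
# Injective hulls: existence, uniqueness, indecomposable injectives (helper1)
-/

universe u

namespace Helper1

variable {R : Type u} [CommRing R]

section Basic

variable {M E E' : Type u} [AddCommGroup M] [Module R M] [AddCommGroup E] [Module R E]
  [AddCommGroup E'] [Module R E']

theorem isEssentialInj_iff (f : M →ₗ[R] E) :
    InjHull.IsEssentialInj f ↔ Function.Injective f ∧ IsEss f :=
  ⟨fun h => ⟨h.injective, (isEss_iff f).mpr h.essential⟩,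
    fun h => ⟨h.1, (isEss_iff f).mp h.2⟩⟩

theorem injective_of_isEss {f : M →ₗ[R] E} (hfe : IsEss f) (φ : E →ₗ[R] E')
    (h : Function.Injective (φ ∘ₗ f)) : Function.Injective φ := by
  rw [← LinearMap.ker_eq_bot, LinearMap.ker_eq_bot']
  intro y hy
  by_contra hne
  obtain ⟨r, hr0, m, hm⟩ := hfe y hne
  apply hr0
  have h1 : (φ ∘ₗ f) m = (φ ∘ₗ f) 0 := by
    rw [LinearMap.comp_apply, hm, map_smul, hy, smul_zero, map_zero]
  rw [← hm, h h1, map_zero]

theorem isEss_of_range_le {f : M →ₗ[R] E} {M' : Type u} [AddCommGroup M'] [Module R M']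
    (g : M' →ₗ[R] E) (hfe : IsEss f) (hle : LinearMap.range f ≤ LinearMap.range g) : IsEss g :=
  fun y hy => let ⟨r, hr0, hr⟩ := hfe y hy; ⟨r, hr0, hle hr⟩

/-- **Existence of injective hulls.** -/
theorem exists_injective_hull (M : Type u) [AddCommGroup M] [Module R M] :
    ∃ (E : Type u) (_ : AddCommGroup E) (_ : Module R E) (f : M →ₗ[R] E),
      InjHull.IsInjectiveHull f := by
  obtain ⟨Q, _, _, hQ, i, hi⟩ := exists_injective_embedding (R := R) M
  obtain ⟨B, hAB, hess, hinj, -⟩ := exists_injective_essIn (LinearMap.range i)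
  let f : M →ₗ[R] B := LinearMap.codRestrict B i (fun x => hAB ⟨x, rfl⟩)
  refine ⟨B, inferInstance, inferInstance, f, ⟨(isEssentialInj_iff f).mpr ⟨?_, ?_⟩, hinj⟩⟩
  · intro x y hxy
    exact hi (congrArg Subtype.val hxy)
  · intro y hy0
    have hy0' : (y : Q) ≠ 0 := fun h => hy0 (Subtype.ext h)
    obtain ⟨r, hr0, m, hm⟩ := hess y y.2 hy0'
    refine ⟨r, fun h => hr0 (by rw [← Submodule.coe_smul, h, Submodule.coe_zero]), m, ?_⟩
    exact Subtype.ext hm

/-- **Uniqueness of injective hulls.** -/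
theorem injectiveHull_unique (f : M →ₗ[R] E) (hf : InjHull.IsInjectiveHull f)
    (g : M →ₗ[R] E') (hg : InjHull.IsInjectiveHull g) :
    ∃ e : E ≃ₗ[R] E', e.toLinearMap ∘ₗ f = g := by
  haveI := hf.isInjective
  haveI := hg.isInjective
  obtain ⟨hfi, hfe⟩ := (isEssentialInj_iff f).mp hf.toIsEssentialInj
  obtain ⟨hgi, hge⟩ := (isEssentialInj_iff g).mp hg.toIsEssentialInj
  obtain ⟨φ, hφ⟩ := Module.Injective.extension_property R E' M E f hfi g
  have hφf : ∀ m, φ (f m) = g m := fun m => LinearMap.congr_fun hφ m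
  have hφinj : Function.Injective φ := injective_of_isEss hfe φ (by rw [hφ]; exact hgi)
  obtain ⟨ρ, hρ⟩ := Module.Injective.extension_property R E E E' φ hφinj LinearMap.id
  have hρφ : ∀ e, ρ (φ e) = e := fun e => LinearMap.congr_fun hρ e
  have hρg : ρ ∘ₗ g = f := by
    ext m
    rw [LinearMap.comp_apply, ← hφf, hρφ]
  have hρinj : Function.Injective ρ := injective_of_isEss hge ρ (by rw [hρg]; exact hfi)
  have hφsurj : Function.Surjective φ := by
    intro y
    refine ⟨ρ y, hρinj ?_⟩
    rw [hρφ]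
  refine ⟨LinearEquiv.ofBijective φ ⟨hφinj, hφsurj⟩, ?_⟩
  ext m
  rw [LinearMap.comp_apply, LinearEquiv.coe_coe, LinearEquiv.ofBijective_apply, hφf]

/-- An injective hull splits off from any injective module containing `M`. -/
theorem injectiveHull_splits_off {I : Type u} [AddCommGroup I] [Module R I]
    (f : M →ₗ[R] E) (hf : InjHull.IsInjectiveHull f) (i : M →ₗ[R] I)
    (hi : Function.Injective i) (hI : Module.Injective R I) :
    ∃ α : E →ₗ[R] I, Function.Injective α ∧ α ∘ₗ f = i ∧
      ∃ I' : Submodule R I, IsCompl (LinearMap.range α) I' := by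
  haveI := hI
  haveI := hf.isInjective
  obtain ⟨hfi, hfe⟩ := (isEssentialInj_iff f).mp hf.toIsEssentialInj
  obtain ⟨α, hα⟩ := Module.Injective.extension_property R I M E f hfi i
  have hαinj : Function.Injective α := injective_of_isEss hfe α (by rw [hα]; exact hi)
  obtain ⟨ρ, hρ⟩ := Module.Injective.extension_property R E E I α hαinj LinearMap.id
  have hρα : ∀ e, ρ (α e) = e := fun e => LinearMap.congr_fun hρ e
  refine ⟨α, hαinj, hα, LinearMap.ker (α.rangeRestrict ∘ₗ ρ), ?_⟩
  refine LinearMap.isCompl_of_proj (f := α.rangeRestrict ∘ₗ ρ) ?_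
  rintro ⟨_, e, rfl⟩
  apply Subtype.ext
  rw [LinearMap.comp_apply, hρα]
  rfl

/-- A submodule of an injective module is injective iff it has no proper essential extension
inside. -/
theorem injective_iff_no_essential_extension (I : Type u) [AddCommGroup I] [Module R I]
    [Module.Injective R I] (E : Submodule R I) :
    Module.Injective R E ↔ ∀ E' : Submodule R I, E ≤ E' →
      (∀ N : Submodule R I, N ≤ E' → N ≠ ⊥ → N ⊓ E ≠ ⊥) → E' = E := by
  constructor
  · intro hE E' hEE' hess
    haveI := hE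
    obtain ⟨p, hp⟩ := Module.Injective.extension_property R E E I E.subtype
      E.injective_subtype LinearMap.id
    have hpE : ∀ e : E, p (e : I) = e := fun e => LinearMap.congr_fun hp e
    refine le_antisymm ?_ hEE'
    intro y hy
    by_contra hyE
    have hz0 : y - (p y : I) ≠ 0 := by
      intro h
      apply hyE
      rw [sub_eq_zero.mp h]
      exact (p y).2
    have hzE' : y - (p y : I) ∈ E' := E'.sub_mem hy (hEE' (p y).2)
    have hpz : p (y - (p y : I)) = 0 := by rw [map_sub, hpE, sub_self]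
    obtain ⟨r, hr0, hrE⟩ := essIn_of_inf_ne_bot hess _ hzE' hz0
    apply hr0
    have h1 : p (r • (y - (p y : I))) = ⟨r • (y - (p y : I)), hrE⟩ := hpE ⟨_, hrE⟩
    rw [map_smul, hpz, smul_zero] at h1
    exact (congrArg Subtype.val h1).symm
  · intro h
    obtain ⟨N, hN⟩ := exists_isCompl_of_no_essIn E (fun E' hEE' hess =>
      h E' hEE' (fun N hNE' hN => hess.inf_ne_bot N hNE' hN))
    exact injective_of_isCompl hN

end Basic

section Indec

variable (E : Type u) [AddCommGroup E] [Module R E]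

/-- In an indecomposable injective module every nonzero submodule is essential. -/
theorem essIn_top_of_indecomposable (hE : InjHull.IsIndecomposable R E)
    [Module.Injective R E] (N : Submodule R E) (hN : N ≠ ⊥) : EssIn N ⊤ := by
  obtain ⟨B, hNB, hessB, -, C, hC⟩ := exists_injective_essIn N
  rcases hE.2 B C hC with hB | hC'
  · exact absurd (le_bot_iff.mp (hB ▸ hNB)) hN
  · have hBtop : B = ⊤ := by
      have h1 := hC.sup_eq_top
      rwa [hC', sup_bot_eq] at h1
    rwa [hBtop] at hessB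

theorem zeroDivisors_prime_of_indecomposable_injective (hE : InjHull.IsIndecomposable R E)
    (hinj : Module.Injective R E) :
    (∀ N N' : Submodule R E, N ≠ ⊥ → N' ≠ ⊥ → N ⊓ N' ≠ ⊥) ∧
      ∃ p : Ideal R, p.IsPrime ∧ (p : Set R) = {r : R | ∃ x : E, x ≠ 0 ∧ r • x = 0} := by
  haveI := hinj
  haveI := hE.1
  have hmeet : ∀ N N' : Submodule R E, N ≠ ⊥ → N' ≠ ⊥ → N ⊓ N' ≠ ⊥ := by
    intro N N' hN hN'
    have h1 := (essIn_top_of_indecomposable E hE N hN).inf_ne_bot N' le_top hN'
    rwa [inf_comm] at h1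
  refine ⟨hmeet, ?_⟩
  let p : Ideal R :=
    { carrier := {r | ∃ x : E, x ≠ 0 ∧ r • x = 0}
      zero_mem' := by
        obtain ⟨x, hx⟩ := exists_ne (0 : E)
        exact ⟨x, hx, zero_smul R x⟩
      add_mem' := by
        rintro r s ⟨x, hx0, hrx⟩ ⟨y, hy0, hsy⟩
        have h1 : Submodule.span R {x} ≠ ⊥ := by
          rw [Ne, Submodule.span_singleton_eq_bot]; exact hx0
        have h2 : Submodule.span R {y} ≠ ⊥ := by
          rw [Ne, Submodule.span_singleton_eq_bot]; exact hy0
        obtain ⟨z, hz, hz0⟩ := Submodule.exists_mem_ne_zero_of_ne_bot (hmeet _ _ h1 h2)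
        obtain ⟨a, ha⟩ := Submodule.mem_span_singleton.mp hz.1
        obtain ⟨b, hb⟩ := Submodule.mem_span_singleton.mp hz.2
        refine ⟨z, hz0, ?_⟩
        have h3 : r • z = 0 := by rw [← ha, smul_comm, hrx, smul_zero]
        have h4 : s • z = 0 := by rw [← hb, smul_comm, hsy, smul_zero]
        rw [add_smul, h3, h4, add_zero]
      smul_mem' := by
        rintro c r ⟨x, hx0, hrx⟩
        exact ⟨x, hx0, by rw [smul_eq_mul, mul_smul, hrx, smul_zero]⟩ }
  refine ⟨p, ?_, rfl⟩
  rw [Ideal.isPrime_iff]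
  constructor
  · rw [Ideal.ne_top_iff_one]
    rintro ⟨x, hx0, hx⟩
    rw [one_smul] at hx
    exact hx0 hx
  · rintro a b ⟨x, hx0, hx⟩
    by_cases hb : b • x = 0
    · exact Or.inr ⟨x, hx0, hb⟩
    · exact Or.inl ⟨b • x, hb, by rw [← mul_smul]; exact hx⟩

end Indec

end Helper1
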