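import Mathlib
import Groth.Prelude.Def_Wider
import Groth.Agent.Lib.helper1.InjHullMain

/-!
# Injective hulls of `R/p` and indecomposable injectives over Noetherian rings (helper1)
-/

universe u

namespace Helper1

variable {R : Type u} [CommRing R]

theorem injectiveHull_quotient_prime (p : Ideal R) [hp : p.IsPrime] (E : Type u)
    [AddCommGroup E] [Module R E] (f : (R ⧸ p) →ₗ[R] E) (hf : InjHull.IsInjectiveHull f) :
    InjHull.IsIndecomposable R E ∧
      ∃ g : p.ResidueField →ₗ[R] E, InjHull.IsInjectiveHull g := by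
  haveI := hf.isInjective
  obtain ⟨hfi, hfe⟩ := (isEssentialInj_iff f).mp hf.toIsEssentialInj
  haveI : Nontrivial (R ⧸ p) := Ideal.Quotient.nontrivial_iff.mpr hp.ne_top
  haveI : IsDomain (R ⧸ p) := Ideal.Quotient.isDomain p
  constructor
  · refine ⟨hfi.nontrivial, ?_⟩
    intro N N' hNN'
    have hab : N.comap f = ⊥ ∨ N'.comap f = ⊥ := by
      by_contra hcon
      push Not at hcon
      obtain ⟨x, hxa, hx0⟩ := Submodule.exists_mem_ne_zero_of_ne_bot hcon.1
      obtain ⟨y, hyb, hy0⟩ := Submodule.exists_mem_ne_zero_of_ne_bot hcon.2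
      obtain ⟨u, rfl⟩ := Ideal.Quotient.mk_surjective x
      obtain ⟨v, rfl⟩ := Ideal.Quotient.mk_surjective y
      have hw0 : Ideal.Quotient.mk p (u * v) ≠ 0 := by
        rw [map_mul]; exact mul_ne_zero hx0 hy0
      have hwb : Ideal.Quotient.mk p (u * v) ∈ N'.comap f := by
        have h1 := (N'.comap f).smul_mem u hyb
        rwa [Algebra.smul_def, Ideal.Quotient.algebraMap_eq, ← map_mul] at h1
      have hwa : Ideal.Quotient.mk p (u * v) ∈ N.comap f := by
        have h1 := (N.comap f).smul_mem v hxa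
        rwa [Algebra.smul_def, Ideal.Quotient.algebraMap_eq, ← map_mul, mul_comm] at h1
      have h0 : f (Ideal.Quotient.mk p (u * v)) = 0 := by
        have h1 : f (Ideal.Quotient.mk p (u * v)) ∈ N ⊓ N' := ⟨hwa, hwb⟩
        rwa [hNN'.inf_eq_bot, Submodule.mem_bot] at h1
      exact hw0 (hfi (by rw [h0, map_zero]))
    have key : ∀ K : Submodule R E, K.comap f = ⊥ → K = ⊥ := by
      intro K hK
      by_contra hne
      apply (isEss_iff f).mp hfe K hne
      rw [eq_bot_iff]
      rintro z ⟨hzK, m, rfl⟩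
      have h1 : m ∈ K.comap f := hzK
      rw [hK, Submodule.mem_bot] at h1
      rw [h1, map_zero]
      exact Submodule.zero_mem _
    exact hab.imp (key N) (key N')
  · let ι : (R ⧸ p) →ₗ[R] p.ResidueField :=
      (IsScalarTower.toAlgHom R (R ⧸ p) p.ResidueField).toLinearMap
    have hιapply : ∀ a, ι a = algebraMap (R ⧸ p) p.ResidueField a := fun a => rfl
    have hιinj : Function.Injective ι := IsFractionRing.injective (R ⧸ p) p.ResidueField
    obtain ⟨g, hg⟩ := Module.Injective.extension_property R E (R ⧸ p) p.ResidueField ι hιinj f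
    have hgι : ∀ a, g (ι a) = f a := fun a => LinearMap.congr_fun hg a
    have hιess : IsEss ι := by
      intro z hz0
      obtain ⟨⟨a, s⟩, has⟩ := IsLocalization.surj (nonZeroDivisors (R ⧸ p)) z
      obtain ⟨s', hs'⟩ := Ideal.Quotient.mk_surjective (s : R ⧸ p)
      have hs0 : algebraMap (R ⧸ p) p.ResidueField (s : R ⧸ p) ≠ 0 :=
        (map_ne_zero_iff _ (IsFractionRing.injective (R ⧸ p) p.ResidueField)).mpr
          (nonZeroDivisors.ne_zero s.2)
      have hsz' : s' • z = algebraMap (R ⧸ p) p.ResidueField (s : R ⧸ p) * z := by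
        rw [Algebra.smul_def, IsScalarTower.algebraMap_apply R (R ⧸ p) p.ResidueField,
          Ideal.Quotient.algebraMap_eq, hs']
      refine ⟨s', by rw [hsz']; exact mul_ne_zero hs0 hz0, a, ?_⟩
      rw [hιapply, hsz', mul_comm]
      exact has.symm
    have hginj : Function.Injective g := injective_of_isEss hιess g (by rw [hg]; exact hfi)
    have hgess : IsEss g := isEss_of_range_le g hfe (by
      rintro _ ⟨m, rfl⟩
      exact ⟨ι m, hgι m⟩)
    exact ⟨g, ⟨(isEssentialInj_iff g).mpr ⟨hginj, hgess⟩, hf.isInjective⟩⟩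

theorem indecomposable_injective_of_isNoetherianRing [IsNoetherianRing R] (E : Type u)
    [AddCommGroup E] [Module R E] (hE : InjHull.IsIndecomposable R E)
    (hinj : Module.Injective R E) :
    ∃ (p : Ideal R) (_ : p.IsPrime) (g : p.ResidueField →ₗ[R] E),
      InjHull.IsInjectiveHull g := by
  haveI := hinj
  haveI := hE.1
  obtain ⟨p, hp⟩ := associatedPrimes.nonempty R E
  obtain ⟨hpp, x, hx⟩ := isAssociatedPrime_iff.mp hp
  haveI := hpp
  have hmem : ∀ r, r ∈ p ↔ r • x = 0 := fun r => by
    rw [hx, Submodule.mem_colon_singleton, Submodule.mem_bot]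
  have hx0 : x ≠ 0 := by
    intro h
    apply hpp.ne_top
    rw [Ideal.eq_top_iff_one, hmem, h, smul_zero]
  let f₀ : (R ⧸ p) →ₗ[R] E := Submodule.liftQ p (LinearMap.toSpanSingleton R E x) (by
    intro r hr
    rw [LinearMap.mem_ker, LinearMap.toSpanSingleton_apply]
    exact (hmem r).mp hr)
  have hf₀inj : Function.Injective f₀ := by
    rw [← LinearMap.ker_eq_bot]
    apply Submodule.ker_liftQ_eq_bot
    intro r hr
    rw [LinearMap.mem_ker, LinearMap.toSpanSingleton_apply] at hr
    exact (hmem r).mpr hr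
  have hrange : LinearMap.range f₀ ≠ ⊥ := by
    intro h
    have h1 : f₀ (Submodule.Quotient.mk 1) ∈ LinearMap.range f₀ := ⟨_, rfl⟩
    rw [h, Submodule.mem_bot] at h1
    apply hx0
    have h2 : f₀ (Submodule.Quotient.mk 1) = x := by
      rw [Submodule.liftQ_apply, LinearMap.toSpanSingleton_apply, one_smul]
    rw [← h2, h1]
  have hess : IsEss f₀ := by
    intro y hy0
    exact essIn_top_of_indecomposable E hE _ hrange y Submodule.mem_top hy0
  have hhull : InjHull.IsInjectiveHull f₀ :=
    ⟨(isEssentialInj_iff f₀).mpr ⟨hf₀inj, hess⟩, hinj⟩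
  obtain ⟨-, g, hg⟩ := injectiveHull_quotient_prime p E f₀ hhull
  exact ⟨p, hpp, g, hg⟩

end Helper1
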