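import Mathlib
import Groth.Prelude.Def_Wider
import Groth.Agent.Lib.helper1.InjHullPrime
import Groth.Agent.S0300

/-!
# Decomposition of injective modules over Noetherian rings into indecomposables (helper1)
-/

universe u

namespace Helper1

variable {R : Type u} [CommRing R]

theorem sSupIndep_insert {α : Type*} [CompleteLattice α] [IsModularLattice α] {s : Set α} {a : α}
    (hs : sSupIndep s) (ha : Disjoint a (sSup s)) : sSupIndep (insert a s) := by
  intro b hb
  by_cases hba : b = a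
  · rw [hba]
    refine ha.mono_right (sSup_le_sSup ?_)
    rintro c ⟨hc, hca⟩
    rcases Set.mem_insert_iff.mp hc with h | h
    · exact absurd h hca
    · exact h
  · have hbs : b ∈ s := (Set.mem_insert_iff.mp hb).resolve_left hba
    have h1 : Disjoint b (sSup (s \ {b})) := hs hbs
    have h2 : Disjoint (b ⊔ sSup (s \ {b})) a :=
      ha.symm.mono_left (sup_le (le_sSup hbs) (sSup_le_sSup Set.diff_subset))
    have h3 := h1.disjoint_sup_right_of_disjoint_sup_left h2
    refine h3.mono_right ?_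
    apply sSup_le
    rintro c ⟨hc, hcb⟩
    rcases Set.mem_insert_iff.mp hc with h | h
    · rw [h]; exact le_sup_right
    · exact le_sup_of_le_left (le_sSup ⟨h, hcb⟩)

theorem exists_isCompl_sSup_of_sSupIndep [IsNoetherianRing R] {Q : Type u} [AddCommGroup Q]
    [Module R Q] (𝒞 : Set (Submodule R Q)) (hind : sSupIndep 𝒞)
    (hinj : ∀ N ∈ 𝒞, Module.Injective R N) :
    ∃ C : Submodule R Q, IsCompl (sSup 𝒞) C := by
  classical
  let A : 𝒞 → Submodule R Q := fun i => i.1
  have hA : iSupIndep A := (sSupIndep_iff 𝒞).mp hind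
  haveI hD : Module.Injective R (DirectSum 𝒞 (fun i => ↥(A i))) :=
    Groth.Agent.S0300.result R (fun i : 𝒞 => ↥(A i)) (fun i => hinj i.1 i.2)
  let c : (DirectSum 𝒞 (fun i => ↥(A i))) →ₗ[R] Q := DirectSum.coeLinearMap A
  have hc : Function.Injective c := hA.dfinsupp_lsum_injective
  have hrange : LinearMap.range c = sSup 𝒞 := by
    rw [sSup_eq_iSup']
    exact (Submodule.iSup_eq_range_dfinsupp_lsum A).symm
  obtain ⟨p, hp⟩ := Module.Injective.extension_property R _ _ Q c hc LinearMap.id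
  have hpc : ∀ d, p (c d) = d := fun d => LinearMap.congr_fun hp d
  have hmemS : ∀ d, c d ∈ sSup 𝒞 := fun d => by
    rw [← hrange]; exact LinearMap.mem_range_self c d
  let f : Q →ₗ[R] ↥(sSup 𝒞) := (LinearMap.codRestrict (sSup 𝒞) c hmemS) ∘ₗ p
  have hf : ∀ x : ↥(sSup 𝒞), f x = x := by
    intro x
    have hx : (x : Q) ∈ LinearMap.range c := by rw [hrange]; exact x.2
    obtain ⟨d, hd⟩ := hx
    apply Subtype.ext
    show c (p (x : Q)) = (x : Q)
    rw [← hd, hpc]
  exact ⟨_, LinearMap.isCompl_of_proj hf⟩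

theorem exists_indecomposable_injective_essIn {Q : Type u} [AddCommGroup Q] [Module R Q]
    [Module.Injective R Q] (p : Ideal R) [hp : p.IsPrime] (x : Q)
    (hmem : ∀ r, r ∈ p ↔ r • x = 0) :
    ∃ N : Submodule R Q, EssIn (Submodule.span R {x}) N ∧ InjHull.IsIndecomposable R N ∧
      Module.Injective R N := by
  obtain ⟨B, hAB, hess, hinj, -⟩ := exists_injective_essIn (Submodule.span R {x})
  have hxB : x ∈ B := hAB (Submodule.mem_span_singleton_self x)
  let xB : B := ⟨x, hxB⟩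
  have hmemB : ∀ r, r ∈ p ↔ r • xB = 0 := fun r =>
    (hmem r).trans ⟨fun h => Subtype.ext h, fun h => congrArg Subtype.val h⟩
  let f₀ : (R ⧸ p) →ₗ[R] B := Submodule.liftQ p (LinearMap.toSpanSingleton R B xB) (by
    intro r hr
    rw [LinearMap.mem_ker, LinearMap.toSpanSingleton_apply]
    exact (hmemB r).mp hr)
  have hf₀inj : Function.Injective f₀ := by
    rw [← LinearMap.ker_eq_bot]
    apply Submodule.ker_liftQ_eq_bot
    intro r hr
    rw [LinearMap.mem_ker, LinearMap.toSpanSingleton_apply] at hr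
    exact (hmemB r).mpr hr
  have hf₀ess : IsEss f₀ := by
    intro y hy0
    have hy0' : (y : Q) ≠ 0 := fun h => hy0 (Subtype.ext h)
    obtain ⟨r, hr0, hrA⟩ := hess y.1 y.2 hy0'
    obtain ⟨s, hs⟩ := Submodule.mem_span_singleton.mp hrA
    refine ⟨r, fun h => hr0 (congrArg Subtype.val h), Submodule.Quotient.mk s, ?_⟩
    apply Subtype.ext
    rw [Submodule.liftQ_apply, LinearMap.toSpanSingleton_apply]
    exact hs
  have hhull : InjHull.IsInjectiveHull f₀ :=
    ⟨(isEssentialInj_iff f₀).mpr ⟨hf₀inj, hf₀ess⟩, hinj⟩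
  exact ⟨B, hess, (injectiveHull_quotient_prime p B f₀ hhull).1, hinj⟩

theorem exists_indecomposable_decomposition [IsNoetherianRing R] (Q : Type u) [AddCommGroup Q]
    [Module R Q] [Module.Injective R Q] :
    ∃ 𝒞 : Set (Submodule R Q), sSupIndep 𝒞 ∧ sSup 𝒞 = ⊤ ∧
      ∀ N ∈ 𝒞, InjHull.IsIndecomposable R N ∧ Module.Injective R N := by
  classical
  let P : Set (Set (Submodule R Q)) :=
    {𝒞 | sSupIndep 𝒞 ∧ ∀ N ∈ 𝒞, InjHull.IsIndecomposable R N ∧ Module.Injective R N}
  obtain ⟨𝒞, hmax⟩ := zorn_subset P (by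
    intro c hcP hchain
    refine ⟨⋃₀ c, ⟨?_, ?_⟩, fun s hs => Set.subset_sUnion_of_mem hs⟩
    · exact iSupIndep_sUnion_of_directed hchain.directedOn (fun a ha => (hcP ha).1)
    · rintro N ⟨a, ha, hNa⟩
      exact (hcP ha).2 N hNa)
  obtain ⟨hind, hprop⟩ := hmax.prop
  refine ⟨𝒞, hind, ?_, hprop⟩
  obtain ⟨C, hC⟩ := exists_isCompl_sSup_of_sSupIndep 𝒞 hind (fun N hN => (hprop N hN).2)
  by_contra htop
  have hCne : C ≠ ⊥ := by
    intro h
    apply htop
    have h1 := hC.sup_eq_top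
    rwa [h, sup_bot_eq] at h1
  haveI : Nontrivial C := Submodule.nontrivial_iff_ne_bot.mpr hCne
  obtain ⟨p, hp⟩ := associatedPrimes.nonempty R C
  obtain ⟨hpp, x, hx⟩ := isAssociatedPrime_iff.mp hp
  haveI := hpp
  have hmem : ∀ r, r ∈ p ↔ r • (x : Q) = 0 := fun r => by
    rw [hx, Submodule.mem_colon_singleton, Submodule.mem_bot]
    exact ⟨fun h => congrArg Subtype.val h, fun h => Subtype.ext h⟩
  obtain ⟨N, hNess, hNind, hNinj⟩ := exists_indecomposable_injective_essIn p (x : Q) hmem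
  have hxC : Submodule.span R {(x : Q)} ≤ C := (Submodule.span_singleton_le_iff_mem _ _).mpr x.2
  have hNS : Disjoint N (sSup 𝒞) := by
    rw [disjoint_iff]
    by_contra hne
    apply hNess.inf_ne_bot (N ⊓ sSup 𝒞) inf_le_left hne
    rw [eq_bot_iff]
    calc (N ⊓ sSup 𝒞) ⊓ Submodule.span R {(x : Q)} ≤ sSup 𝒞 ⊓ C := inf_le_inf inf_le_right hxC
      _ = ⊥ := hC.inf_eq_bot
      _ ≤ ⊥ := le_rfl
  have hNne : N ≠ ⊥ := Submodule.nontrivial_iff_ne_bot.mp hNind.1
  have hNnot : N ∉ 𝒞 := by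
    intro hmemN
    exact hNne (hNS.eq_bot_of_le (le_sSup hmemN))
  have hins : insert N 𝒞 ∈ P := by
    refine ⟨sSupIndep_insert hind hNS, ?_⟩
    intro M hM
    rcases Set.mem_insert_iff.mp hM with h | h
    · rw [h]; exact ⟨hNind, hNinj⟩
    · exact hprop M h
  have hsub := hmax.le_of_ge hins (Set.subset_insert N 𝒞)
  exact hNnot (hsub (Set.mem_insert N 𝒞))

theorem isInternal_of_sSupIndep {Q : Type u} [AddCommGroup Q] [Module R Q]
    (𝒞 : Set (Submodule R Q)) (hind : sSupIndep 𝒞) (htop : sSup 𝒞 = ⊤) (inst : DecidableEq ↥𝒞) :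
    DirectSum.IsInternal (fun i : 𝒞 => (i.1 : Submodule R Q)) := by
  apply DirectSum.isInternal_submodule_of_iSupIndep_of_iSup_eq_top
  · exact (sSupIndep_iff 𝒞).mp hind
  · rw [← htop, sSup_eq_iSup']

end Helper1
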