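import Mathlib
import Groth.Prelude.Def_Wider
import Groth.Agent.Lib.helper1.InjHullMain

/-!
# Matlis duality for modules of finite length over a local ring (helper1)
-/

universe u

namespace Helper1

open IsLocalRing

variable {R : Type u} [CommRing R] [IsLocalRing R]
variable {E : Type u} [AddCommGroup E] [Module R E]

theorem smul_residueField_eq_zero {a : R} (ha : a ∈ maximalIdeal R) (c : ResidueField R) :
    a • c = 0 := by
  rw [Algebra.smul_def, ResidueField.algebraMap_eq, (residue_eq_zero_iff _).mpr ha, zero_mul]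

/-- The socle of an essential extension of the residue field is the residue field. -/
theorem mem_range_of_maximalIdeal_smul_eq_zero (f : ResidueField R →ₗ[R] E) (hfe : IsEss f)
    (e : E) (he : ∀ a ∈ maximalIdeal R, a • e = 0) : e ∈ LinearMap.range f := by
  by_cases h0 : e = 0
  · rw [h0]; exact Submodule.zero_mem _
  obtain ⟨r, hr0, hr⟩ := hfe e h0
  have hru : IsUnit r := by
    by_contra hnu
    exact hr0 (he r ((mem_maximalIdeal r).mpr hnu))
  obtain ⟨u, rfl⟩ := hru
  have h1 : e = (↑u⁻¹ : R) • ((u : R) • e) := by rw [smul_smul, Units.inv_mul, one_smul]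
  rw [h1]
  exact Submodule.smul_mem _ _ hr

theorem isSimpleModule_residueField : IsSimpleModule R (ResidueField R) :=
  isSimpleModule_iff_quot_maximal.mpr ⟨maximalIdeal R, inferInstance, ⟨LinearEquiv.refl R _⟩⟩

theorem length_hom_residueField (f : ResidueField R →ₗ[R] E) (hfi : Function.Injective f)
    (hfe : IsEss f) : Module.length R (ResidueField R →ₗ[R] E) = 1 := by
  let ev : (ResidueField R →ₗ[R] E) →ₗ[R] E := LinearMap.applyₗ (1 : ResidueField R)
  have hev : ∀ φ, ev φ = φ 1 := fun φ => rfl
  have hevinj : Function.Injective ev := by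
    rw [← LinearMap.ker_eq_bot, LinearMap.ker_eq_bot']
    intro φ hφ
    apply LinearMap.ext
    intro x
    obtain ⟨r, rfl⟩ := residue_surjective x
    have h1 : residue R r = r • (1 : ResidueField R) := by
      rw [Algebra.smul_def, mul_one, ResidueField.algebraMap_eq]
    rw [h1, map_smul, ← hev, hφ, smul_zero, LinearMap.zero_apply]
  have hrange : LinearMap.range ev = LinearMap.range f := by
    apply le_antisymm
    · rintro _ ⟨φ, rfl⟩
      apply mem_range_of_maximalIdeal_smul_eq_zero f hfe
      intro a ha
      rw [hev, ← map_smul, smul_residueField_eq_zero ha, map_zero]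
    · rintro _ ⟨c, rfl⟩
      refine ⟨f ∘ₗ LinearMap.mulLeft R c, ?_⟩
      rw [hev, LinearMap.comp_apply, LinearMap.mulLeft_apply, mul_one]
  haveI : IsSimpleModule R (ResidueField R) := isSimpleModule_residueField
  rw [(LinearEquiv.ofInjective ev hevinj).length_eq, hrange,
    ← (LinearEquiv.ofInjective f hfi).length_eq]
  exact Module.length_eq_one R (ResidueField R)

theorem length_hom_of_isSimpleModule (f : ResidueField R →ₗ[R] E) (hfi : Function.Injective f)
    (hfe : IsEss f) (S : Type u) [AddCommGroup S] [Module R S] [hS : IsSimpleModule R S] :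
    Module.length R (S →ₗ[R] E) = 1 := by
  obtain ⟨I, hI, ⟨e⟩⟩ := isSimpleModule_iff_quot_maximal.mp hS
  have hIm : I = maximalIdeal R := eq_maximalIdeal hI
  subst hIm
  have e' : (S →ₗ[R] E) ≃ₗ[R] (ResidueField R →ₗ[R] E) :=
    LinearEquiv.arrowCongr e (LinearEquiv.refl R E)
  rw [e'.length_eq]
  exact length_hom_residueField f hfi hfe

theorem length_hom_eq_add [Module.Injective R E] {M : Type u} [AddCommGroup M] [Module R M]
    (N : Submodule R M) :
    Module.length R (M →ₗ[R] E) =
      Module.length R ((M ⧸ N) →ₗ[R] E) + Module.length R (N →ₗ[R] E) := by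
  apply Module.length_eq_add_of_exact (LinearMap.lcomp R E N.mkQ) (LinearMap.lcomp R E N.subtype)
  · intro φ ψ h
    exact Submodule.linearMap_qext _ h
  · intro ψ
    obtain ⟨φ, hφ⟩ := Module.Injective.extension_property R E N M N.subtype N.injective_subtype ψ
    exact ⟨φ, hφ⟩
  · intro φ
    constructor
    · intro h
      have hle : N ≤ LinearMap.ker φ := by
        intro n hn
        rw [LinearMap.mem_ker]
        exact LinearMap.congr_fun h ⟨n, hn⟩
      exact ⟨N.liftQ φ hle, N.liftQ_mkQ φ hle⟩
    · rintro ⟨ψ, rfl⟩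
      apply LinearMap.ext
      intro n
      show ψ (N.mkQ n) = 0
      rw [Submodule.mkQ_apply, (Submodule.Quotient.mk_eq_zero N).mpr n.2, map_zero]

/-- Matlis duality preserves length for modules of finite length. -/
theorem length_hom_eq_of_isFiniteLength (f : ResidueField R →ₗ[R] E)
    (hf : InjHull.IsInjectiveHull f) (M : Type u) [AddCommGroup M] [Module R M]
    (hM : IsFiniteLength R M) : Module.length R (M →ₗ[R] E) = Module.length R M := by
  haveI := hf.isInjective
  obtain ⟨hfi, hfe⟩ := (isEssentialInj_iff f).mp hf.toIsEssentialInj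
  induction hM with
  | of_subsingleton =>
    rw [Module.length_eq_zero, Module.length_eq_zero]
  | @of_simple_quotient M _ _ N _ hN ih =>
    rw [length_hom_eq_add N, length_hom_of_isSimpleModule f hfi hfe (M ⧸ N), ih,
      Module.length_eq_add_of_exact N.subtype N.mkQ N.injective_subtype N.mkQ_surjective
        (LinearMap.exact_subtype_mkQ N), Module.length_eq_one R (M ⧸ N), add_comm]

/-- The injective hull of the residue field separates points. -/
theorem exists_hom_apply_ne_zero (f : ResidueField R →ₗ[R] E) (hf : InjHull.IsInjectiveHull f)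
    {M : Type u} [AddCommGroup M] [Module R M] (y : M) (hy : y ≠ 0) :
    ∃ φ : M →ₗ[R] E, φ y ≠ 0 := by
  haveI := hf.isInjective
  have hfi : Function.Injective f := hf.toIsEssentialInj.injective
  let τ : R →ₗ[R] M := LinearMap.toSpanSingleton R M y
  let θ : R →ₗ[R] E := f ∘ₗ (Algebra.linearMap R (ResidueField R))
  have hker : LinearMap.ker τ ≤ LinearMap.ker θ := by
    intro r hr
    rw [LinearMap.mem_ker, LinearMap.toSpanSingleton_apply] at hr
    have hrm : r ∈ maximalIdeal R := by
      rw [mem_maximalIdeal, mem_nonunits_iff]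
      intro hu
      apply hy
      obtain ⟨u, rfl⟩ := hu
      have h1 : y = (↑u⁻¹ : R) • ((u : R) • y) := by rw [smul_smul, Units.inv_mul, one_smul]
      rw [h1, hr, smul_zero]
    rw [LinearMap.mem_ker, LinearMap.comp_apply, Algebra.linearMap_apply,
      ResidueField.algebraMap_eq, (residue_eq_zero_iff r).mpr hrm, map_zero]
  let ι : (R ⧸ LinearMap.ker τ) →ₗ[R] M := (LinearMap.ker τ).liftQ τ le_rfl
  have hι : Function.Injective ι := by
    rw [← LinearMap.ker_eq_bot]
    exact Submodule.ker_liftQ_eq_bot _ _ _ le_rfl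
  let θbar : (R ⧸ LinearMap.ker τ) →ₗ[R] E := (LinearMap.ker τ).liftQ θ hker
  obtain ⟨φ, hφ⟩ := Module.Injective.extension_property R E _ M ι hι θbar
  refine ⟨φ, ?_⟩
  have h1 : ι (Submodule.Quotient.mk 1) = y := by
    show τ 1 = y
    rw [LinearMap.toSpanSingleton_apply, one_smul]
  have h2 : φ y = f 1 := by
    rw [← h1]
    have h3 := LinearMap.congr_fun hφ (Submodule.Quotient.mk 1)
    rw [LinearMap.comp_apply] at h3
    rw [h3]
    show f (algebraMap R (ResidueField R) 1) = f 1
    rw [map_one]
  rw [h2]
  intro h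
  exact one_ne_zero (hfi (h.trans (map_zero f).symm))

/-- Matlis double dual is an isomorphism for modules of finite length. -/
theorem applyₗ_bijective_of_isFiniteLength (f : ResidueField R →ₗ[R] E)
    (hf : InjHull.IsInjectiveHull f) (M : Type u) [AddCommGroup M] [Module R M]
    (hM : IsFiniteLength R M) :
    Function.Bijective (LinearMap.applyₗ : M →ₗ[R] (M →ₗ[R] E) →ₗ[R] E) := by
  have hinj : Function.Injective (LinearMap.applyₗ : M →ₗ[R] (M →ₗ[R] E) →ₗ[R] E) := by
    rw [← LinearMap.ker_eq_bot, LinearMap.ker_eq_bot']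
    intro y hy
    by_contra hy0
    obtain ⟨φ, hφ⟩ := exists_hom_apply_ne_zero f hf y hy0
    exact hφ (LinearMap.congr_fun hy φ)
  refine ⟨hinj, ?_⟩
  have h1 : Module.length R (M →ₗ[R] E) = Module.length R M :=
    length_hom_eq_of_isFiniteLength f hf M hM
  have hM' : IsFiniteLength R (M →ₗ[R] E) := by
    rw [← Module.length_ne_top_iff, h1, Module.length_ne_top_iff]; exact hM
  have h2 : Module.length R ((M →ₗ[R] E) →ₗ[R] E) = Module.length R M := by
    rw [length_hom_eq_of_isFiniteLength f hf _ hM', h1]
  have hM'' : IsFiniteLength R ((M →ₗ[R] E) →ₗ[R] E) := by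
    rw [← Module.length_ne_top_iff, h2, Module.length_ne_top_iff]; exact hM
  obtain ⟨hN, hA⟩ := isFiniteLength_iff_isNoetherian_isArtinian.mp hM''
  rw [← LinearMap.range_eq_top]
  by_contra hne
  have h3 := Submodule.length_lt (R := R) hne
  rw [← (LinearEquiv.ofInjective _ hinj).length_eq, h2] at h3
  exact lt_irrefl _ h3

end Helper1
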