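import Mathlib
import Groth.Prelude.Def_Wider
import Groth.Agent.Lib.helper1.MatlisArt
import Groth.Agent.S0311

/-!
# Injective modules and flat base rings (helper1)
-/

universe u

namespace Helper1

open IsLocalRing TensorProduct

/-- Restriction of scalars along a flat ring map preserves injective modules. -/
theorem injective_restrictScalars_of_flat (R S : Type u) [CommRing R] [CommRing S] [Algebra R S]
    [Module.Flat R S] (E : Type u) [AddCommGroup E] [Module S E] [Module R E]
    [IsScalarTower R S E] [Module.Injective S E] : Module.Injective R E := by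
  apply Module.Baer.injective
  intro I g
  let j : S ⊗[R] I →ₗ[S] S :=
    (TensorProduct.AlgebraTensorModule.rid R S S).toLinearMap ∘ₗ
      (LinearMap.baseChange S (Submodule.subtype I))
  have hj : Function.Injective j := by
    apply (TensorProduct.AlgebraTensorModule.rid R S S).injective.comp
    exact Module.Flat.lTensor_preserves_injective_linearMap (M := S) (Submodule.subtype I)
      (Submodule.injective_subtype I)
  let G : S ⊗[R] I →ₗ[S] E := LinearMap.liftBaseChange S g
  obtain ⟨h, hh⟩ := Module.Injective.extension_property S E _ S j hj G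
  refine ⟨(h.restrictScalars R) ∘ₗ (Algebra.linearMap R S), fun x hx => ?_⟩
  have h1 := LinearMap.congr_fun hh ((1 : S) ⊗ₜ[R] (⟨x, hx⟩ : I))
  have h2 : j ((1 : S) ⊗ₜ[R] (⟨x, hx⟩ : I)) = algebraMap R S x := by
    show (TensorProduct.AlgebraTensorModule.rid R S S) ((1 : S) ⊗ₜ[R] x) = algebraMap R S x
    rw [TensorProduct.AlgebraTensorModule.rid_tmul, Algebra.algebraMap_eq_smul_one]
  have h3 : G ((1 : S) ⊗ₜ[R] (⟨x, hx⟩ : I)) = g ⟨x, hx⟩ := by
    show LinearMap.liftBaseChange S g ((1 : S) ⊗ₜ[R] (⟨x, hx⟩ : I)) = g ⟨x, hx⟩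
    rw [LinearMap.liftBaseChange_tmul, one_smul]
  rw [LinearMap.comp_apply, h2, h3] at h1
  exact h1

theorem injectiveHull_residueField_of_flat_local (R S : Type u) [CommRing R] [CommRing S]
    [IsLocalRing R] [IsLocalRing S] [IsNoetherianRing R] [IsNoetherianRing S] [Algebra R S]
    [IsLocalHom (algebraMap R S)] [Module.Flat R S]
    (hm : (maximalIdeal R).map (algebraMap R S) = maximalIdeal S)
    (hk : Function.Surjective (ResidueField.map (algebraMap R S)))
    (E : Type u) [AddCommGroup E] [Module S E] [Module R E] [IsScalarTower R S E]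
    (f : ResidueField S →ₗ[S] E) (hf : InjHull.IsInjectiveHull f) :
    ∃ g : ResidueField R →ₗ[R] E, InjHull.IsInjectiveHull g := by
  haveI := hf.isInjective
  obtain ⟨hfi, hfe⟩ := (isEssentialInj_iff f).mp hf.toIsEssentialInj
  haveI hRinj : Module.Injective R E := injective_restrictScalars_of_flat R S E
  have hmS : ∀ a ∈ maximalIdeal R, algebraMap R S a ∈ maximalIdeal S := fun a ha => by
    rw [← hm]; exact Ideal.mem_map_of_mem _ ha
  have key : ∀ r : R, r • f 1 = f (residue S (algebraMap R S r)) := by
    intro r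
    rw [← algebraMap_smul S r (f 1), ← map_smul, Algebra.smul_def, ResidueField.algebraMap_eq,
      mul_one]
  let g : ResidueField R →ₗ[R] E :=
    Submodule.liftQ (maximalIdeal R) (LinearMap.toSpanSingleton R E (f 1)) (by
      intro a ha
      rw [LinearMap.mem_ker, LinearMap.toSpanSingleton_apply, key,
        (residue_eq_zero_iff _).mpr (hmS a ha), map_zero])
  have hg_apply : ∀ r : R, g (residue R r) = f (residue S (algebraMap R S r)) := by
    intro r
    have h0 : g (residue R r) = r • f 1 := rfl
    exact h0.trans (key r)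
  have hginj : Function.Injective g := by
    rw [← LinearMap.ker_eq_bot]
    apply Submodule.ker_liftQ_eq_bot
    intro r hr
    rw [LinearMap.mem_ker, LinearMap.toSpanSingleton_apply, key] at hr
    have h1 : residue S (algebraMap R S r) = 0 := hfi (hr.trans (map_zero f).symm)
    rw [residue_eq_zero_iff] at h1
    by_contra hnot
    have hu : IsUnit r := by
      by_contra hnu
      exact hnot ((mem_maximalIdeal r).mpr hnu)
    exact (mem_maximalIdeal _).mp h1 (hu.map (algebraMap R S))
  have hpt : ∀ y : E, ∃ n : ℕ, ∀ s ∈ maximalIdeal S ^ n, s • y = 0 :=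
    Groth.Agent.S0311.result S E f hf
  have hgess : IsEss g := by
    intro y hy0
    have hex : ∃ N : ℕ, ∀ a ∈ maximalIdeal R ^ N, a • y = 0 := by
      obtain ⟨n, hn⟩ := hpt y
      refine ⟨n, fun a ha => ?_⟩
      rw [← algebraMap_smul S a y]
      apply hn
      rw [← hm, ← Ideal.map_pow]
      exact Ideal.mem_map_of_mem _ ha
    classical
    have hN0 : Nat.find hex ≠ 0 := by
      intro h0
      have h1 := Nat.find_spec hex
      rw [h0] at h1
      exact hy0 (by simpa using h1 1 (by simp))
    obtain ⟨k, hk'⟩ := Nat.exists_eq_add_one_of_ne_zero hN0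
    have hnotk : ¬ ∀ a ∈ maximalIdeal R ^ k, a • y = 0 := Nat.find_min hex (by omega)
    push Not at hnotk
    obtain ⟨a, ha, hay⟩ := hnotk
    have hsoc : ∀ b ∈ maximalIdeal R, b • (a • y) = 0 := by
      intro b hb
      rw [smul_smul]
      apply Nat.find_spec hex
      rw [hk', pow_succ']
      exact Ideal.mul_mem_mul hb ha
    have hsocS : ∀ s ∈ maximalIdeal S, s • (a • y) = 0 := by
      have hle : maximalIdeal S ≤ LinearMap.ker (LinearMap.toSpanSingleton S E (a • y)) := by
        rw [← hm, Ideal.map_le_iff_le_comap]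
        intro b hb
        rw [Ideal.mem_comap, LinearMap.mem_ker, LinearMap.toSpanSingleton_apply, algebraMap_smul]
        exact hsoc b hb
      intro s hs
      have h1 := hle hs
      rwa [LinearMap.mem_ker, LinearMap.toSpanSingleton_apply] at h1
    obtain ⟨c, hc⟩ := mem_range_of_maximalIdeal_smul_eq_zero f hfe (a • y) hsocS
    obtain ⟨c', rfl⟩ := hk c
    obtain ⟨r, rfl⟩ := residue_surjective c'
    refine ⟨a, hay, residue R r, ?_⟩
    rw [hg_apply, ← hc, ResidueField.map_residue]
  exact ⟨g, ⟨(isEssentialInj_iff g).mpr ⟨hginj, hgess⟩, hRinj⟩⟩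

end Helper1
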