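import Mathlib
import Groth.Agent.Lib.helper1.LocalCrit

/-!
# Flatness of localizations from flatness modulo powers (helper1)
-/

universe u

namespace Helper1

open scoped TensorProduct
open Function

section

variable {R : Type u} [CommRing R] {M : Type u} [AddCommGroup M] [Module R M]

theorem rTensor_restrictScalars_injective_of_flat_baseChange (B : Type u) [CommRing B]
    [Algebra R B] [Module.Flat B (B ⊗[R] M)] {F : Type u} [AddCommGroup F] [Module R F]
    [Module B F] [IsScalarTower R B F] (K : Submodule B F) :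
    Injective ((K.subtype.restrictScalars R).rTensor M) := by
  have hfl : Injective (K.subtype.rTensor (B ⊗[R] M)) :=
    Module.Flat.rTensor_preserves_injective_linearMap K.subtype Subtype.val_injective
  have hnat : ∀ z : K ⊗[B] (B ⊗[R] M),
      (TensorProduct.AlgebraTensorModule.cancelBaseChange R B B F M)
        ((K.subtype.rTensor (B ⊗[R] M)) z) =
      ((K.subtype.restrictScalars R).rTensor M)
        ((TensorProduct.AlgebraTensorModule.cancelBaseChange R B B K M) z) := by
    intro z
    induction z using TensorProduct.induction_on with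
    | zero => simp
    | tmul k w =>
      induction w using TensorProduct.induction_on with
      | zero => simp
      | tmul r m => rfl
      | add w w' hw hw' =>
        rw [TensorProduct.tmul_add, map_add, map_add, hw, hw', map_add, map_add]
    | add z z' hz hz' => rw [map_add, map_add, hz, hz', map_add, map_add]
  intro x y hxy
  obtain ⟨z, rfl⟩ :=
    (TensorProduct.AlgebraTensorModule.cancelBaseChange R B B K M).surjective x
  obtain ⟨z', rfl⟩ :=
    (TensorProduct.AlgebraTensorModule.cancelBaseChange R B B K M).surjective y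
  rw [← hnat, ← hnat] at hxy
  have h0 := hfl ((TensorProduct.AlgebraTensorModule.cancelBaseChange R B B F M).injective hxy)
  rw [h0]

/-- Artin–Rees part of the local criterion, without the separatedness conclusion. -/
theorem mem_iInf_pow_smul_of_rTensor_eq_zero [IsNoetherianRing R] (I : Ideal R)
    (hQ : ∀ (k : ℕ), 0 < k → ∀ (A' : Ideal (R ⧸ I ^ k)),
      Injective ((A'.subtype.restrictScalars R).rTensor M))
    (𝔞 : Ideal R) (x : 𝔞 ⊗[R] M) (hx : (𝔞.subtype.rTensor M) x = 0) :
    x ∈ (⨅ n : ℕ, I ^ n • (⊤ : Submodule R (𝔞 ⊗[R] M))) := by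
  rw [Submodule.mem_iInf]
  intro n
  obtain ⟨k, hk⟩ := Ideal.exists_pow_inf_eq_pow_smul I (𝔞 : Submodule R R)
  obtain ⟨N, hN⟩ : ∃ N : ℕ, N = n + 1 + k := ⟨_, rfl⟩
  let A' : Ideal (R ⧸ I ^ N) := Ideal.map (Ideal.Quotient.mk (I ^ N)) 𝔞
  let g : 𝔞 →ₗ[R] (R ⧸ I ^ N) := (I ^ N).mkQ ∘ₗ 𝔞.subtype
  let g' : 𝔞 →ₗ[R] A' :=
    { toFun := fun a => ⟨Ideal.Quotient.mk (I ^ N) (a : R), Ideal.mem_map_of_mem _ a.2⟩
      map_add' := fun a b => Subtype.ext (map_add (Ideal.Quotient.mk (I ^ N)) (a : R) (b : R))
      map_smul' := fun c a => Subtype.ext rfl }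
  have hg' : Surjective g' := by
    rintro ⟨y, hy⟩
    obtain ⟨a, ha, rfl⟩ := (Ideal.mem_map_iff_of_surjective (Ideal.Quotient.mk (I ^ N))
      Ideal.Quotient.mk_surjective).mp hy
    exact ⟨⟨a, ha⟩, rfl⟩
  have hc : (A'.subtype.restrictScalars R) ∘ₗ g' = g := LinearMap.ext fun a => rfl
  have h1 : ((A'.subtype.restrictScalars R).rTensor M) ((g'.rTensor M) x) = 0 := by
    rw [← LinearMap.rTensor_comp_apply, hc]
    show (((I ^ N).mkQ ∘ₗ 𝔞.subtype).rTensor M) x = 0
    rw [LinearMap.rTensor_comp_apply, hx, map_zero]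
  have h2 : (g'.rTensor M) x = 0 := by
    apply hQ N (by omega) A'
    rw [h1, map_zero]
  have hex : Exact ((LinearMap.ker g').subtype.rTensor M) (g'.rTensor M) :=
    rTensor_exact M (LinearMap.exact_subtype_ker_map g') hg'
  have hker : ∀ a : LinearMap.ker g', (a : 𝔞) ∈ (I ^ n • ⊤ : Submodule R 𝔞) := by
    intro a
    have ha0 : g (a : 𝔞) = 0 :=
      congrArg (fun z : A' => (z : R ⧸ I ^ N)) (LinearMap.mem_ker.mp a.2)
    have ha1 : ((a : 𝔞) : R) ∈ I ^ N := (Submodule.Quotient.mk_eq_zero _).mp ha0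
    have ha2 : ((a : 𝔞) : R) ∈
        I ^ N • (⊤ : Submodule R R) ⊓ (𝔞 : Submodule R R) := by
      refine ⟨?_, (a : 𝔞).2⟩
      have e1 : ((a : 𝔞) : R) = ((a : 𝔞) : R) • (1 : R) := by rw [smul_eq_mul, mul_one]
      rw [e1]
      exact Submodule.smul_mem_smul ha1 Submodule.mem_top
    have hNk : N - k = n + 1 := by omega
    rw [hk N (by omega), hNk] at ha2
    have ha3 : ((a : 𝔞) : R) ∈ I ^ n • (𝔞 : Submodule R R) :=
      Submodule.smul_mono (Ideal.pow_le_pow_right (Nat.le_succ n)) inf_le_right ha2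
    have hmap : (I ^ n • (⊤ : Submodule R 𝔞)).map 𝔞.subtype =
        I ^ n • (𝔞 : Submodule R R) := by
      rw [Submodule.map_smul'', Submodule.map_top, Submodule.range_subtype]
    rw [← hmap] at ha3
    obtain ⟨a', ha', hEq⟩ := ha3
    have e2 : a' = (a : 𝔞) := Subtype.ext hEq
    rw [← e2]
    exact ha'
  have hrange : ∀ y : (LinearMap.ker g') ⊗[R] M,
      ((LinearMap.ker g').subtype.rTensor M) y ∈
        (I ^ n • ⊤ : Submodule R (𝔞 ⊗[R] M)) := by
    intro y
    induction y using TensorProduct.induction_on with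
    | zero => rw [map_zero]; exact Submodule.zero_mem _
    | tmul a m =>
      rw [LinearMap.rTensor_tmul, Submodule.subtype_apply]
      refine Submodule.smul_induction_on
        (p := fun b => b ⊗ₜ[R] m ∈ (I ^ n • ⊤ : Submodule R (𝔞 ⊗[R] M))) (hker a) ?_ ?_
      · intro c hc b _
        rw [← TensorProduct.smul_tmul']
        exact Submodule.smul_mem_smul hc Submodule.mem_top
      · intro b b' hb hb'
        rw [TensorProduct.add_tmul]
        exact Submodule.add_mem _ hb hb'
    | add y y' hy hy' => rw [map_add]; exact Submodule.add_mem _ hy hy'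
  obtain ⟨y, hy⟩ := (hex x).mp h2
  rw [← hy]
  exact hrange y

end

theorem flat_localizedModule_of_flat_modulo_powers {R S M : Type u} [CommRing R] [CommRing S]
    [IsNoetherianRing R] [IsNoetherianRing S] [Algebra R S]
    [AddCommGroup M] [Module R M] [Module S M] [IsScalarTower R S M] [Module.Finite S M]
    (I : Ideal R)
    (h : ∀ n : ℕ, 0 < n → Module.Flat (R ⧸ I ^ n) ((R ⧸ I ^ n) ⊗[R] M))
    (q : Ideal S) [q.IsPrime] (hq : I.map (algebraMap R S) ≤ q) :
    Module.Flat R (LocalizedModule q.primeCompl M) := by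
  rw [Module.Flat.iff_lTensor_injective']
  intro 𝔞
  have hQ : ∀ (k : ℕ), 0 < k → ∀ (A' : Ideal (R ⧸ I ^ k)),
      Injective ((A'.subtype.restrictScalars R).rTensor M) := by
    intro k hk A'
    haveI := h k hk
    exact rTensor_restrictScalars_injective_of_flat_baseChange (R := R) (M := M) (R ⧸ I ^ k) A'
  haveI : Module.Finite S (M ⊗[R] 𝔞) :=
    Module.Finite.equiv (TensorProduct.AlgebraTensorModule.cancelBaseChange R S S M 𝔞)
  have hcomm : ∀ y : M ⊗[R] 𝔞, (𝔞.subtype.rTensor M) ((TensorProduct.comm R M 𝔞) y) =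
      (TensorProduct.comm R M R) ((𝔞.subtype.lTensor M) y) := by
    intro y
    induction y using TensorProduct.induction_on with
    | zero => simp
    | tmul m a => rfl
    | add y y' hy1 hy2 => rw [map_add, map_add, hy1, hy2, map_add, map_add]
  have hAR : ∀ y : M ⊗[R] 𝔞, (𝔞.subtype.lTensor M) y = 0 →
      ∃ u : q.primeCompl, u • y = 0 := by
    intro y hy
    have hx : (𝔞.subtype.rTensor M) ((TensorProduct.comm R M 𝔞) y) = 0 := by
      rw [hcomm, hy, map_zero]
    have hmem := mem_iInf_pow_smul_of_rTensor_eq_zero (M := M) I hQ 𝔞 _ hx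
    have hmem' : y ∈ (⨅ n : ℕ, (I.map (algebraMap R S)) ^ n •
        (⊤ : Submodule S (M ⊗[R] 𝔞))) := by
      rw [Submodule.mem_iInf] at hmem ⊢
      intro n
      have hn := hmem n
      have hall : ∀ w ∈ (I ^ n • ⊤ : Submodule R (𝔞 ⊗[R] M)),
          (TensorProduct.comm R M 𝔞).symm w ∈
            ((I.map (algebraMap R S)) ^ n • (⊤ : Submodule S (M ⊗[R] 𝔞))) := by
        intro w hw
        refine Submodule.smul_induction_on (p := fun w => (TensorProduct.comm R M 𝔞).symm w ∈
          ((I.map (algebraMap R S)) ^ n • (⊤ : Submodule S (M ⊗[R] 𝔞)))) hw ?_ ?_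
        · intro c hc w _
          rw [map_smul, ← algebraMap_smul S c]
          refine Submodule.smul_mem_smul ?_ Submodule.mem_top
          rw [← Ideal.map_pow]
          exact Ideal.mem_map_of_mem _ hc
        · intro w w' hw hw'
          rw [map_add]
          exact Submodule.add_mem _ hw hw'
      have h3 := hall _ hn
      rwa [LinearEquiv.symm_apply_apply] at h3
    obtain ⟨r, hr⟩ := (Ideal.mem_iInf_smul_pow_eq_bot_iff (I.map (algebraMap R S)) y).mp hmem'
    have hu : (1 - (r : S)) ∈ q.primeCompl := by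
      rw [Ideal.mem_primeCompl_iff]
      intro hmemq
      have h1 : (1 : S) ∈ q := by
        have h4 := q.add_mem hmemq (hq r.2)
        rwa [sub_add_cancel] at h4
      exact (Ideal.IsPrime.ne_top ‹q.IsPrime›) ((Ideal.eq_top_iff_one q).mpr h1)
    refine ⟨⟨1 - (r : S), hu⟩, ?_⟩
    rw [Submonoid.smul_def]
    show (1 - (r : S)) • y = 0
    rw [sub_smul, one_smul, hr, sub_self]
  have hloc : IsLocalizedModule q.primeCompl (TensorProduct.AlgebraTensorModule.rTensor R 𝔞
      (LocalizedModule.mkLinearMap q.primeCompl M)) := inferInstance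
  have hlocR : IsLocalizedModule q.primeCompl (TensorProduct.AlgebraTensorModule.rTensor R R
      (LocalizedModule.mkLinearMap q.primeCompl M)) := inferInstance
  have hnat : ∀ y : M ⊗[R] 𝔞,
      (𝔞.subtype.lTensor (LocalizedModule q.primeCompl M))
        ((TensorProduct.AlgebraTensorModule.rTensor R 𝔞
          (LocalizedModule.mkLinearMap q.primeCompl M)) y) =
      (TensorProduct.AlgebraTensorModule.rTensor R R
        (LocalizedModule.mkLinearMap q.primeCompl M)) ((𝔞.subtype.lTensor M) y) := by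
    intro y
    induction y using TensorProduct.induction_on with
    | zero => simp
    | tmul m a => rfl
    | add y y' hy hy' => rw [map_add, map_add, hy, hy', map_add, map_add]
  intro z₁ z₂ hz
  have hz0 : (𝔞.subtype.lTensor (LocalizedModule q.primeCompl M)) (z₁ - z₂) = 0 := by
    rw [map_sub, hz, sub_self]
  obtain ⟨⟨y, s⟩, hys⟩ := IsLocalizedModule.surj q.primeCompl
    (TensorProduct.AlgebraTensorModule.rTensor R 𝔞
      (LocalizedModule.mkLinearMap q.primeCompl M)) (z₁ - z₂)
  simp only [Submonoid.smul_def] at hys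
  have e1 : (𝔞.subtype.lTensor (LocalizedModule q.primeCompl M)) ((s : S) • (z₁ - z₂)) =
      (s : S) • (𝔞.subtype.lTensor (LocalizedModule q.primeCompl M)) (z₁ - z₂) :=
    map_smul (TensorProduct.AlgebraTensorModule.lTensor S (LocalizedModule q.primeCompl M)
      𝔞.subtype) (s : S) (z₁ - z₂)
  have hG : (TensorProduct.AlgebraTensorModule.rTensor R R
        (LocalizedModule.mkLinearMap q.primeCompl M)) ((𝔞.subtype.lTensor M) y) = 0 := by
    rw [← hnat, ← hys, e1, hz0, smul_zero]
  obtain ⟨t, ht⟩ := (IsLocalizedModule.eq_zero_iff q.primeCompl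
    (TensorProduct.AlgebraTensorModule.rTensor R R
        (LocalizedModule.mkLinearMap q.primeCompl M))).mp hG
  rw [Submonoid.smul_def] at ht
  have e2 : (𝔞.subtype.lTensor M) ((t : S) • y) = (t : S) • (𝔞.subtype.lTensor M) y :=
    map_smul (TensorProduct.AlgebraTensorModule.lTensor S M 𝔞.subtype) (t : S) y
  have ht' : (𝔞.subtype.lTensor M) ((t : S) • y) = 0 := by
    rw [e2, ht]
  obtain ⟨u, hu⟩ := hAR ((t : S) • y) ht'
  rw [Submonoid.smul_def] at hu
  have hfin : ((u : S) * (t : S) * (s : S)) • (z₁ - z₂) = 0 := by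
    rw [mul_smul, hys, ← map_smul, mul_smul, hu, map_zero]
  have hinj := IsLocalizedModule.smul_injective
    (TensorProduct.AlgebraTensorModule.rTensor R 𝔞
      (LocalizedModule.mkLinearMap q.primeCompl M)) (u * t * s)
  have key : (u * t * s) • (z₁ - z₂) =
      (u * t * s) • (0 : LocalizedModule q.primeCompl M ⊗[R] 𝔞) := by
    rw [smul_zero, Submonoid.smul_def, Submonoid.coe_mul, Submonoid.coe_mul]
    exact hfin
  exact sub_eq_zero.mp (hinj key)

end Helper1
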