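import Mathlib
import Groth.Prelude.Def_Wider
import Groth.Agent.Lib.helper1.MatlisArt
import Groth.Agent.Lib.helper1.ComplAct
import Groth.Agent.Lib.helper1.ComplNoeth
import Groth.Agent.S0311

/-!
# Matlis: `End(E) = R^`, and `E` is Artinian (helper1)
-/

universe u

namespace Helper1

open IsLocalRing AdicCompletion

variable {R : Type u} [CommRing R] [IsLocalRing R] [IsNoetherianRing R]
variable {E : Type u} [AddCommGroup E] [Module R E]

theorem isFiniteLength_quotient_maximalIdeal_pow (R : Type u) [CommRing R] [IsLocalRing R]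
    [IsNoetherianRing R] (n : ℕ) : IsFiniteLength R (R ⧸ maximalIdeal R ^ n) := by
  rw [isFiniteLength_iff_isNoetherian_isArtinian]
  refine ⟨inferInstance, ?_⟩
  rcases Nat.eq_zero_or_pos n with rfl | hn
  · haveI : Subsingleton (R ⧸ maximalIdeal R ^ 0) := by
      rw [pow_zero, Ideal.one_eq_top]
      exact Ideal.Quotient.subsingleton_iff.mpr rfl
    exact isArtinian_of_finite
  · haveI : IsArtinianRing (R ⧸ maximalIdeal R ^ n) :=
      IsLocalRing.quotient_artinian_of_mem_minimalPrimes_of_isLocalRing _ (by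
        refine ⟨⟨inferInstance, Ideal.pow_le_self hn.ne'⟩, fun q hq _ => ?_⟩
        haveI := hq.1
        exact (Ideal.IsPrime.pow_le_iff hn.ne').mp hq.2)
    exact isArtinian_of_surjective_algebraMap (R := R ⧸ maximalIdeal R ^ n)
      Ideal.Quotient.mk_surjective

theorem exists_smul_eq_on_torsion (f : ResidueField R →ₗ[R] E) (hf : InjHull.IsInjectiveHull f)
    (n : ℕ) (φ : E →ₗ[R] E) :
    ∃ r : R, ∀ e : E, (∀ a ∈ maximalIdeal R ^ n, a • e = 0) → φ e = r • e := by
  have hbij := applyₗ_bijective_of_isFiniteLength f hf (R ⧸ maximalIdeal R ^ n)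
    (isFiniteLength_quotient_maximalIdeal_pow R n)
  let β : ((R ⧸ maximalIdeal R ^ n) →ₗ[R] E) →ₗ[R] E :=
    LinearMap.applyₗ (Submodule.Quotient.mk 1 : R ⧸ maximalIdeal R ^ n)
  obtain ⟨x, hx⟩ := hbij.2 (φ ∘ₗ β)
  obtain ⟨r, rfl⟩ := Submodule.Quotient.mk_surjective _ x
  refine ⟨r, fun e he => ?_⟩
  let ψ : (R ⧸ maximalIdeal R ^ n) →ₗ[R] E :=
    Submodule.liftQ (maximalIdeal R ^ n) (LinearMap.toSpanSingleton R E e) (by
      intro a ha
      rw [LinearMap.mem_ker, LinearMap.toSpanSingleton_apply]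
      exact he a ha)
  have h1 := LinearMap.congr_fun hx ψ
  have h2 : ψ (Submodule.Quotient.mk r) = r • e := by
    rw [Submodule.liftQ_apply, LinearMap.toSpanSingleton_apply]
  have h3 : ψ (Submodule.Quotient.mk 1) = e := by
    rw [Submodule.liftQ_apply, LinearMap.toSpanSingleton_apply, one_smul]
  have h4 : ψ (Submodule.Quotient.mk r) = φ (ψ (Submodule.Quotient.mk 1)) := h1
  rw [h2, h3] at h4
  exact h4.symm

theorem mem_pow_of_smul_torsion_eq_zero (f : ResidueField R →ₗ[R] E)
    (hf : InjHull.IsInjectiveHull f) (n : ℕ) (r : R)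
    (h : ∀ e : E, (∀ a ∈ maximalIdeal R ^ n, a • e = 0) → r • e = 0) :
    r ∈ maximalIdeal R ^ n := by
  have hbij := applyₗ_bijective_of_isFiniteLength f hf (R ⧸ maximalIdeal R ^ n)
    (isFiniteLength_quotient_maximalIdeal_pow R n)
  have h0 : (LinearMap.applyₗ : (R ⧸ maximalIdeal R ^ n) →ₗ[R] _ →ₗ[R] E)
      (Submodule.Quotient.mk r) = 0 := by
    apply LinearMap.ext
    intro ψ
    show ψ (Submodule.Quotient.mk r) = 0
    have h1 : (Submodule.Quotient.mk r : R ⧸ maximalIdeal R ^ n) =
        r • Submodule.Quotient.mk 1 := by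
      rw [← Submodule.Quotient.mk_smul, smul_eq_mul, mul_one]
    rw [h1, map_smul]
    apply h
    intro a ha
    rw [← map_smul, ← Submodule.Quotient.mk_smul, smul_eq_mul, mul_one,
      (Submodule.Quotient.mk_eq_zero _).mpr ha, _root_.map_zero]
  have h2 := hbij.1 (h0.trans (_root_.map_zero _).symm)
  exact (Submodule.Quotient.mk_eq_zero _).mp h2

theorem hpt_of_hull (f : ResidueField R →ₗ[R] E) (hf : InjHull.IsInjectiveHull f) :
    ∀ e : E, ∃ n : ℕ, ∀ a ∈ maximalIdeal R ^ n, a • e = 0 :=
  Groth.Agent.S0311.result R E f hf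

/-- The action of the completion on the injective hull of the residue field. -/
noncomputable def matlisAct (f : ResidueField R →ₗ[R] E) (hf : InjHull.IsInjectiveHull f) :
    AdicCompletion (maximalIdeal R) R →ₐ[R] Module.End R E :=
  actAlgHom (maximalIdeal R) (hpt_of_hull f hf)

theorem matlisAct_apply_eq (f : ResidueField R →ₗ[R] E) (hf : InjHull.IsInjectiveHull f)
    (x : AdicCompletion (maximalIdeal R) R) (e : E) (n : ℕ)
    (hn : ∀ a ∈ maximalIdeal R ^ n, a • e = 0) (r : R)
    (hr : Ideal.Quotient.mk (maximalIdeal R ^ n) r = evalₐ (maximalIdeal R) n x) :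
    matlisAct f hf x e = r • e :=
  actAlgHom_apply_eq (maximalIdeal R) (hpt_of_hull f hf) x e n hn r hr

theorem matlisAct_injective (f : ResidueField R →ₗ[R] E) (hf : InjHull.IsInjectiveHull f) :
    Function.Injective (matlisAct f hf) := by
  rw [injective_iff_map_eq_zero]
  intro x hx
  apply AdicCompletion.ext_evalₐ
  intro n
  obtain ⟨r, hr⟩ := Ideal.Quotient.mk_surjective (evalₐ (maximalIdeal R) n x)
  rw [_root_.map_zero, ← hr, Ideal.Quotient.eq_zero_iff_mem]
  apply mem_pow_of_smul_torsion_eq_zero f hf n r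
  intro e he
  rw [← matlisAct_apply_eq f hf x e n he r hr, hx]
  rfl

theorem matlisAct_surjective (f : ResidueField R →ₗ[R] E) (hf : InjHull.IsInjectiveHull f) :
    Function.Surjective (matlisAct f hf) := by
  intro φ
  choose r hr using fun n => exists_smul_eq_on_torsion f hf n φ
  have hcauchy : ∀ n, r n ≡ r (n + 1) [SMOD (maximalIdeal R ^ n • ⊤ : Submodule R R)] := by
    intro n
    rw [SModEq.sub_mem, smul_eq_mul, Ideal.mul_top]
    apply mem_pow_of_smul_torsion_eq_zero f hf n
    intro e he
    have he' : ∀ a ∈ maximalIdeal R ^ (n + 1), a • e = 0 := fun a ha =>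
      he a (Ideal.pow_le_pow_right (Nat.le_succ n) ha)
    rw [sub_smul, ← hr n e he, ← hr (n + 1) e he', sub_self]
  refine ⟨AdicCompletion.mk _ _ (AdicCauchySequence.mk _ _ r hcauchy), ?_⟩
  apply LinearMap.ext
  intro e
  obtain ⟨n, hn⟩ := hpt_of_hull f hf e
  rw [matlisAct_apply_eq f hf _ e n hn (r n) (by rw [evalₐ_mk]; rfl)]
  exact (hr n e hn).symm

/-- Over a Noetherian local ring, the injective hull of the residue field is Artinian. -/
theorem isArtinian_of_hull (f : ResidueField R →ₗ[R] E) (hf : InjHull.IsInjectiveHull f) :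
    IsArtinian R E := by
  haveI : IsNoetherianRing (AdicCompletion (maximalIdeal R) R) :=
    isNoetherianRing_adicCompletion R _
  haveI : WellFoundedGT (Ideal (AdicCompletion (maximalIdeal R) R)) :=
    isNoetherian_iff'.mp inferInstance
  let perp : Submodule R E → Ideal (AdicCompletion (maximalIdeal R) R) := fun N =>
    { carrier := {x | ∀ e ∈ N, matlisAct f hf x e = 0}
      add_mem' := fun {x y} hx hy e he => by
        rw [map_add, LinearMap.add_apply, hx e he, hy e he, add_zero]
      zero_mem' := fun e he => by rw [_root_.map_zero, LinearMap.zero_apply]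
      smul_mem' := fun c x hx e he => by
        show (matlisAct f hf (c * x)) e = 0
        rw [map_mul]
        show matlisAct f hf c (matlisAct f hf x e) = 0
        rw [hx e he, _root_.map_zero] }
  have hanti : StrictAnti perp := by
    intro N' N hlt
    obtain ⟨hle, e, heN, heN'⟩ := SetLike.lt_iff_le_and_exists.mp hlt
    refine lt_of_le_of_ne (fun x hx e' he' => hx e' (hle he')) ?_
    intro heq
    have hne : (Submodule.Quotient.mk e : E ⧸ N') ≠ 0 := fun h =>
      heN' ((Submodule.Quotient.mk_eq_zero N').mp h)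
    obtain ⟨ψ, hψ⟩ := exists_hom_apply_ne_zero f hf _ hne
    obtain ⟨x, hx⟩ := matlisAct_surjective f hf (ψ ∘ₗ N'.mkQ)
    have hx' : x ∈ perp N' := by
      intro e' he'
      show matlisAct f hf x e' = 0
      rw [hx, LinearMap.comp_apply, Submodule.mkQ_apply,
        (Submodule.Quotient.mk_eq_zero N').mpr he', _root_.map_zero]
    rw [← heq] at hx'
    apply hψ
    have h1 : matlisAct f hf x e = 0 := hx' e heN
    rw [hx] at h1
    exact h1
  exact hanti.wellFoundedLT

end Helper1
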