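import Mathlib
import Groth.Prelude.Def_Wider
import Groth.Agent.Lib.helper1.MatlisEnd

/-!
# Matlis duality over a complete Noetherian local ring (helper1)
-/

universe u

namespace Helper1

open IsLocalRing AdicCompletion

variable {R : Type u} [CommRing R] [IsLocalRing R] [IsNoetherianRing R]
variable {E : Type u} [AddCommGroup E] [Module R E]

theorem applyₗ_injective_of_hull (f : ResidueField R →ₗ[R] E) (hf : InjHull.IsInjectiveHull f)
    (M : Type u) [AddCommGroup M] [Module R M] :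
    Function.Injective (LinearMap.applyₗ : M →ₗ[R] (M →ₗ[R] E) →ₗ[R] E) := by
  rw [← LinearMap.ker_eq_bot, LinearMap.ker_eq_bot']
  intro y hy
  by_contra hy0
  obtain ⟨φ, hφ⟩ := exists_hom_apply_ne_zero f hf y hy0
  exact hφ (LinearMap.congr_fun hy φ)

theorem isArtinian_hom_of_finite (f : ResidueField R →ₗ[R] E) (hf : InjHull.IsInjectiveHull f)
    (M : Type u) [AddCommGroup M] [Module R M] [Module.Finite R M] :
    IsArtinian R (M →ₗ[R] E) := by
  obtain ⟨n, π, hπ⟩ := Module.Finite.exists_fin' R M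
  haveI : IsArtinian R E := isArtinian_of_hull f hf
  haveI : IsArtinian R ((Fin n → R) →ₗ[R] E) :=
    isArtinian_of_linearEquiv (Module.piEquiv (Fin n) R E)
  have hinj : Function.Injective (LinearMap.lcomp R E π) := by
    intro ψ ψ' h
    apply LinearMap.ext
    intro m
    obtain ⟨v, rfl⟩ := hπ m
    exact LinearMap.congr_fun h v
  exact isArtinian_of_injective (LinearMap.lcomp R E π) hinj

variable [IsAdicComplete (maximalIdeal R) R]

/-- Over a complete local ring every endomorphism of `E` is multiplication by a scalar. -/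
theorem end_hull_eq_smul (f : ResidueField R →ₗ[R] E) (hf : InjHull.IsInjectiveHull f)
    (φ : E →ₗ[R] E) : ∃ x : R, ∀ e, φ e = x • e := by
  obtain ⟨y, hy⟩ := matlisAct_surjective f hf φ
  obtain ⟨x, rfl⟩ := (AdicCompletion.of_bijective (I := maximalIdeal R) (M := R)).2 y
  refine ⟨x, fun e => ?_⟩
  have h1 : matlisAct f hf (algebraMap R _ x) = algebraMap R (Module.End R E) x :=
    (matlisAct f hf).commutes x
  have h2 : (of (maximalIdeal R) R) x = algebraMap R (AdicCompletion (maximalIdeal R) R) x := rfl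
  rw [← hy, h2, h1, Module.algebraMap_end_apply]

theorem finite_end_hull (f : ResidueField R →ₗ[R] E) (hf : InjHull.IsInjectiveHull f) :
    Module.Finite R (Module.End R E) := by
  apply Module.Finite.of_surjective (Algebra.linearMap R (Module.End R E))
  intro φ
  obtain ⟨x, hx⟩ := end_hull_eq_smul f hf φ
  refine ⟨x, ?_⟩
  apply LinearMap.ext
  intro e
  rw [hx e, Algebra.linearMap_apply, Module.algebraMap_end_apply]

theorem applyₗ_surjective_pi_ring (f : ResidueField R →ₗ[R] E) (hf : InjHull.IsInjectiveHull f)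
    (n : ℕ) : Function.Surjective
      (LinearMap.applyₗ : (Fin n → R) →ₗ[R] ((Fin n → R) →ₗ[R] E) →ₗ[R] E) := by
  intro Λ
  let ψ_ : Fin n → E →ₗ[R] ((Fin n → R) →ₗ[R] E) := fun i =>
    (LinearMap.lcomp R E (LinearMap.proj i : (Fin n → R) →ₗ[R] R)) ∘ₗ (LinearMap.lsmul R E).flip
  have hψ_ : ∀ i e v, ψ_ i e v = v i • e := fun i e v => rfl
  choose x hx using fun i => end_hull_eq_smul f hf (Λ ∘ₗ ψ_ i)
  refine ⟨x, ?_⟩
  apply LinearMap.ext
  intro ψ
  have hψ : ψ = ∑ i, ψ_ i (ψ (fun j => if i = j then 1 else 0)) := by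
    apply LinearMap.ext
    intro v
    rw [LinearMap.sum_apply, LinearMap.pi_apply_eq_sum_univ ψ v]
    rfl
  show ψ x = Λ ψ
  calc ψ x = ∑ i, x i • ψ (fun j => if i = j then 1 else 0) :=
        LinearMap.pi_apply_eq_sum_univ ψ x
    _ = ∑ i, Λ (ψ_ i (ψ (fun j => if i = j then 1 else 0))) :=
        Finset.sum_congr rfl (fun i _ => (hx i _).symm)
    _ = Λ (∑ i, ψ_ i (ψ (fun j => if i = j then 1 else 0))) := (map_sum Λ _ _).symm
    _ = Λ ψ := (congrArg Λ hψ).symm

/-- Matlis duality for finite modules over a complete Noetherian local ring. -/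
theorem applyₗ_bijective_of_finite (f : ResidueField R →ₗ[R] E) (hf : InjHull.IsInjectiveHull f)
    (M : Type u) [AddCommGroup M] [Module R M] [Module.Finite R M] :
    Function.Bijective (LinearMap.applyₗ : M →ₗ[R] (M →ₗ[R] E) →ₗ[R] E) := by
  haveI := hf.isInjective
  refine ⟨applyₗ_injective_of_hull f hf M, ?_⟩
  obtain ⟨n, π, hπ⟩ := Module.Finite.exists_fin' R M
  intro Λ
  have hinj : Function.Injective (LinearMap.lcomp R E π) := by
    intro ψ ψ' h
    apply LinearMap.ext
    intro m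
    obtain ⟨v, rfl⟩ := hπ m
    exact LinearMap.congr_fun h v
  obtain ⟨Λ', hΛ'⟩ := Module.Injective.extension_property R E _ _ (LinearMap.lcomp R E π) hinj Λ
  obtain ⟨x, hx⟩ := applyₗ_surjective_pi_ring f hf n Λ'
  refine ⟨π x, ?_⟩
  apply LinearMap.ext
  intro ψ
  show ψ (π x) = Λ ψ
  have h1 : Λ' (LinearMap.lcomp R E π ψ) = Λ ψ := LinearMap.congr_fun hΛ' ψ
  have h2 : Λ' (LinearMap.lcomp R E π ψ) = (LinearMap.lcomp R E π ψ) x :=
    (LinearMap.congr_fun hx _).symm
  rw [← h1, h2]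
  rfl

theorem applyₗ_surjective_pi_hull (f : ResidueField R →ₗ[R] E) (hf : InjHull.IsInjectiveHull f)
    (n : ℕ) : Function.Surjective
      (LinearMap.applyₗ : (Fin n → E) →ₗ[R] ((Fin n → E) →ₗ[R] E) →ₗ[R] E) := by
  intro Ξ
  refine ⟨fun i => Ξ (LinearMap.proj i), ?_⟩
  apply LinearMap.ext
  intro ψ
  choose a ha using fun i =>
    end_hull_eq_smul f hf (ψ ∘ₗ LinearMap.single R (fun _ : Fin n => E) i)
  have h1 : ∀ v : Fin n → E, ψ v = ∑ i, a i • v i := by
    intro v
    conv_lhs => rw [← Finset.univ_sum_single v, map_sum]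
    exact Finset.sum_congr rfl (fun i _ => ha i (v i))
  have hψ : ψ = ∑ i, a i • (LinearMap.proj i : (Fin n → E) →ₗ[R] E) := by
    apply LinearMap.ext
    intro v
    rw [h1 v, LinearMap.sum_apply]
    rfl
  show ψ (fun i => Ξ (LinearMap.proj i)) = Ξ ψ
  rw [h1]
  conv_rhs => rw [hψ, map_sum]
  refine Finset.sum_congr rfl (fun i _ => ?_)
  rw [map_smul]

/-- Matlis duality for modules embedded in a finite power of `E`. -/
theorem matlis_duality_of_embedding (f : ResidueField R →ₗ[R] E) (hf : InjHull.IsInjectiveHull f)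
    (M : Type u) [AddCommGroup M] [Module R M] (n : ℕ) (g : M →ₗ[R] (Fin n → E))
    (hg : Function.Injective g) :
    Module.Finite R (M →ₗ[R] E) ∧
      Function.Bijective (LinearMap.applyₗ : M →ₗ[R] (M →ₗ[R] E) →ₗ[R] E) := by
  haveI := hf.isInjective
  have hsurj : Function.Surjective (LinearMap.lcomp R E g) := by
    intro χ
    obtain ⟨ψ, hψ⟩ := Module.Injective.extension_property R E M (Fin n → E) g hg χ
    exact ⟨ψ, hψ⟩
  haveI : Module.Finite R (Module.End R E) := finite_end_hull f hf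
  haveI : Module.Finite R ((Fin n → E) →ₗ[R] E) :=
    Module.Finite.equiv (LinearMap.lsum R (fun _ : Fin n => E) R)
  refine ⟨Module.Finite.of_surjective (LinearMap.lcomp R E g) hsurj,
    applyₗ_injective_of_hull f hf M, ?_⟩
  intro Λ
  obtain ⟨y, hy⟩ := applyₗ_surjective_pi_hull f hf n (Λ ∘ₗ LinearMap.lcomp R E g)
  have hy' : ∀ ψ : (Fin n → E) →ₗ[R] E, ψ y = Λ (ψ ∘ₗ g) := fun ψ => LinearMap.congr_fun hy ψ
  have hmem : y ∈ LinearMap.range g := by
    by_contra hnot
    have hne : (Submodule.Quotient.mk y : (Fin n → E) ⧸ LinearMap.range g) ≠ 0 := fun h =>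
      hnot ((Submodule.Quotient.mk_eq_zero _).mp h)
    obtain ⟨ψ, hψ⟩ := exists_hom_apply_ne_zero f hf _ hne
    apply hψ
    have h1 := hy' (ψ ∘ₗ (LinearMap.range g).mkQ)
    have h2 : (ψ ∘ₗ (LinearMap.range g).mkQ) ∘ₗ g = 0 := by
      apply LinearMap.ext
      intro m
      show ψ ((LinearMap.range g).mkQ (g m)) = 0
      rw [Submodule.mkQ_apply, (Submodule.Quotient.mk_eq_zero (LinearMap.range g)).mpr ⟨m, rfl⟩, _root_.map_zero]
    rw [h2, _root_.map_zero] at h1
    exact h1
  obtain ⟨m, rfl⟩ := hmem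
  refine ⟨m, ?_⟩
  apply LinearMap.ext
  intro χ
  obtain ⟨ψ, rfl⟩ := hsurj χ
  show (LinearMap.lcomp R E g ψ) m = Λ (LinearMap.lcomp R E g ψ)
  exact hy' ψ

end Helper1
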