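import Mathlib
import Groth.Agent.Lib.helper1.HensDirLim

/-!
# Minimal primes of a direct limit with faithfully flat transition maps (helper1)
-/

universe u

namespace Helper1

section General

variable {A B : Type*} [CommRing A] [CommRing B]

/-- Minimal primes contract to minimal primes along flat maps (going down). -/
theorem comap_mem_minimalPrimes_of_flat [Algebra A B] [Module.Flat A B] {q : Ideal B}
    (hq : q ∈ minimalPrimes B) : q.comap (algebraMap A B) ∈ minimalPrimes A := by
  haveI hqp : q.IsPrime := hq.1.1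
  haveI hp : (q.comap (algebraMap A B)).IsPrime := Ideal.comap_isPrime _ _
  refine ⟨⟨hp, bot_le⟩, ?_⟩
  rintro p' ⟨hp', -⟩ hle
  haveI := hp'
  haveI : q.LiesOver (q.comap (algebraMap A B)) := ⟨rfl⟩
  obtain ⟨P, hPq, hP, hPp⟩ := Ideal.exists_ideal_le_liesOver_of_le (p := p')
    (q := q.comap (algebraMap A B)) q hle
  have hqP : q ≤ P := hq.2 ⟨hP, bot_le⟩ hPq
  intro x hx
  have h1 : algebraMap A B x ∈ P := hqP (Ideal.mem_comap.mp hx)
  rw [hPp.over]
  exact Ideal.mem_comap.mpr h1

theorem comap_mem_minimalPrimes_of_flat' (φ : A →+* B) (hφ : φ.Flat) {q : Ideal B}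
    (hq : q ∈ minimalPrimes B) : q.comap φ ∈ minimalPrimes A := by
  letI := φ.toAlgebra
  haveI : Module.Flat A B := hφ
  exact comap_mem_minimalPrimes_of_flat (A := A) hq

theorem exists_minimalPrimes_comap_eq (φ : A →+* B) {p : Ideal A} (hp : p ∈ minimalPrimes A)
    (h : (p.map φ).comap φ = p) : ∃ q ∈ minimalPrimes B, q.comap φ = p := by
  haveI : p.IsPrime := hp.1.1
  obtain ⟨P, hP, hPp⟩ := (Ideal.comap_map_eq_self_iff_of_isPrime p).mp h
  obtain ⟨q, hq, hqP⟩ := Ideal.exists_minimalPrimes_le (I := ⊥) (J := P) bot_le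
  have hle : q.comap φ ≤ p := by rw [← hPp]; exact Ideal.comap_mono hqP
  refine ⟨q, hq, le_antisymm hle ?_⟩
  haveI : q.IsPrime := hq.1.1
  exact hp.2 ⟨Ideal.comap_isPrime φ q, bot_le⟩ hle

end General

section DL

variable {ι : Type u} [Preorder ι] [IsDirected ι (· ≤ ·)] [Nonempty ι]
  (G : ι → Type u) [∀ i, CommRing (G i)] (f : ∀ i j, i ≤ j → G i →+* G j)
  [DirectedSystem G fun i j h => f i j h]

theorem dl_of_flat (i₀ : ι) (hfl : ∀ j (h : i₀ ≤ j), (f i₀ j h).Flat) :
    (Ring.DirectLimit.of G (fun i j h => f i j h) i₀).Flat := by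
  letI := (Ring.DirectLimit.of G (fun i j h => f i j h) i₀).toAlgebra
  show Module.Flat (G i₀) (Ring.DirectLimit G fun i j h => f i j h)
  rw [Module.Flat.iff_forall_isTrivialRelation]
  intro l a x hx
  choose k y hy using fun i => Ring.DirectLimit.exists_of (x i)
  obtain ⟨M₀, hM₀⟩ := Finite.exists_le k
  obtain ⟨M, hM₀M, hi₀M⟩ := exists_ge_ge M₀ i₀
  have hM : ∀ i, k i ≤ M := fun i => (hM₀ i).trans hM₀M
  let y' : Fin l → G M := fun i => f (k i) M (hM i) (y i)
  have hy' : ∀ i, Ring.DirectLimit.of G (fun i j h => f i j h) M (y' i) = x i := fun i => by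
    rw [Ring.DirectLimit.of_f, hy]
  have hsm : ∀ (c : G i₀) (w : Ring.DirectLimit G fun i j h => f i j h),
      c • w = Ring.DirectLimit.of G (fun i j h => f i j h) i₀ c * w := fun c w => rfl
  have h0 : Ring.DirectLimit.of G (fun i j h => f i j h) M
      (∑ i, f i₀ M hi₀M (a i) * y' i) = 0 := by
    rw [map_sum, ← hx]
    refine Finset.sum_congr rfl fun i _ => ?_
    rw [map_mul, Ring.DirectLimit.of_f, hy', hsm]
  obtain ⟨j, hMj, hj⟩ := Ring.DirectLimit.of.zero_exact h0
  have hi₀j : i₀ ≤ j := hi₀M.trans hMj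
  letI algj := (f i₀ j hi₀j).toAlgebra
  haveI : Module.Flat (G i₀) (G j) := hfl j hi₀j
  have hsmj : ∀ (c : G i₀) (w : G j), c • w = f i₀ j hi₀j c * w := fun c w => rfl
  obtain ⟨m, c, z, hz1, hz2⟩ := Module.Flat.isTrivialRelation_of_sum_smul_eq_zero
    (R := G i₀) (M := G j) (f := a) (x := fun i => f M j hMj (y' i)) (by
      rw [← hj, map_sum]
      refine Finset.sum_congr rfl fun i _ => ?_
      rw [hsmj, map_mul, dl_tr_tr G f i₀ M j hi₀M hMj (a i)])
  refine ⟨m, c, fun t => Ring.DirectLimit.of G (fun i j h => f i j h) j (z t), fun i => ?_, hz2⟩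
  have hz1' : f M j hMj (y' i) = ∑ t, c i t • z t := hz1 i
  rw [← hy', ← Ring.DirectLimit.of_f hMj, hz1', map_sum]
  refine Finset.sum_congr rfl fun t _ => ?_
  rw [hsmj, map_mul, Ring.DirectLimit.of_f, hsm]

theorem dl_comap_map_eq_self (i₀ : ι) (p : Ideal (G i₀))
    (hcm : ∀ j (h : i₀ ≤ j), (p.map (f i₀ j h)).comap (f i₀ j h) = p) :
    (p.map (Ring.DirectLimit.of G (fun i j h => f i j h) i₀)).comap
      (Ring.DirectLimit.of G (fun i j h => f i j h) i₀) = p := by
  refine le_antisymm ?_ Ideal.le_comap_map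
  intro x hx
  rw [Ideal.mem_comap] at hx
  let I : ∀ j, Ideal (G j) := fun j => ⨆ (h : i₀ ≤ j), p.map (f i₀ j h)
  have hI : ∀ i j (h : i ≤ j), (I i).map (f i j h) ≤ I j := by
    intro i j h
    show (⨆ (h' : i₀ ≤ i), p.map (f i₀ i h')).map (f i j h) ≤ _
    rw [Ideal.map_iSup]
    refine iSup_le fun h' => ?_
    rw [Ideal.map_map]
    have hcomp : (f i j h).comp (f i₀ i h') = f i₀ j (h'.trans h) :=
      RingHom.ext fun x => dl_tr_tr G f i₀ i j h' h x
    rw [hcomp]
    exact le_iSup (fun h'' : i₀ ≤ j => p.map (f i₀ j h'')) (h'.trans h)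
  have hle : p.map (Ring.DirectLimit.of G (fun i j h => f i j h) i₀) ≤
      ⨆ i, (I i).map (Ring.DirectLimit.of G (fun i j h => f i j h) i) := by
    rw [Ideal.map_le_iff_le_comap]
    intro y hy
    rw [Ideal.mem_comap]
    refine Ideal.mem_iSup_of_mem i₀ ?_
    have h1 : f i₀ i₀ le_rfl y ∈ I i₀ :=
      (le_iSup (fun h'' : i₀ ≤ i₀ => p.map (f i₀ i₀ h'')) le_rfl) (Ideal.mem_map_of_mem _ hy)
    have h2 := Ideal.mem_map_of_mem (Ring.DirectLimit.of G (fun i j h => f i j h) i₀) h1
    rwa [Ring.DirectLimit.of_f] at h2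
  obtain ⟨k', hk', hmem⟩ := dl_exists_tr_mem G f I hI i₀ x (hle hx)
  have hIk : I k' = p.map (f i₀ k' hk') := iSup_pos hk'
  rw [hIk] at hmem
  rw [← hcm k' hk']
  exact Ideal.mem_comap.mpr hmem

theorem card_minimalPrimes_directLimit
    (hf : ∀ i j (h : i ≤ j), letI := (f i j h).toAlgebra
      Module.FaithfullyFlat (G i) (G j)) :
    (minimalPrimes (Ring.DirectLimit G fun i j h => f i j h)).encard =
      ⨆ i, (minimalPrimes (G i)).encard := by
  classical
  have hflat : ∀ i, (Ring.DirectLimit.of G (fun i j h => f i j h) i).Flat := fun i =>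
    dl_of_flat G f i (fun j h => (hf i j h).toFlat)
  have hcm : ∀ i (p : Ideal (G i)),
      (p.map (Ring.DirectLimit.of G (fun i j h => f i j h) i)).comap
        (Ring.DirectLimit.of G (fun i j h => f i j h) i) = p := fun i p =>
    dl_comap_map_eq_self G f i p (fun j h => by
      letI := (f i j h).toAlgebra
      haveI : Module.FaithfullyFlat (G i) (G j) := hf i j h
      exact Ideal.comap_map_eq_self_of_faithfullyFlat (A := G i) (B := G j) p)
  have hL1 : ∀ i, ∀ q ∈ minimalPrimes (Ring.DirectLimit G fun i j h => f i j h),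
      q.comap (Ring.DirectLimit.of G (fun i j h => f i j h) i) ∈ minimalPrimes (G i) :=
    fun i q hq => comap_mem_minimalPrimes_of_flat' _ (hflat i) hq
  apply le_antisymm
  · rw [← ENat.forall_natCast_le_iff_le]
    intro n hn
    obtain ⟨T, hTsub, hTn⟩ := Set.exists_subset_encard_eq hn
    have hTfin : T.Finite := Set.finite_of_encard_eq_coe hTn
    have hsep : ∀ q q' : Ideal (Ring.DirectLimit G fun i j h => f i j h), q ≠ q' →
        ∃ i, q.comap (Ring.DirectLimit.of G (fun i j h => f i j h) i) ≠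
          q'.comap (Ring.DirectLimit.of G (fun i j h => f i j h) i) := by
      intro q q' hne
      by_contra hcon
      push Not at hcon
      apply hne
      ext z
      obtain ⟨i, y, rfl⟩ := Ring.DirectLimit.exists_of z
      have h1 := hcon i
      rw [← Ideal.mem_comap, ← Ideal.mem_comap, h1]
    choose! g hg using hsep
    obtain ⟨i₀, hi₀⟩ := Finset.exists_le
      ((hTfin.toFinset ×ˢ hTfin.toFinset).image (fun pr => g pr.1 pr.2))
    have hinj : Set.InjOn
        (Ideal.comap (Ring.DirectLimit.of G (fun i j h => f i j h) i₀)) T := by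
      intro q hq q' hq' heq
      by_contra hne
      have hle : g q q' ≤ i₀ := hi₀ _ (Finset.mem_image.mpr ⟨(q, q'),
        Finset.mem_product.mpr ⟨hTfin.mem_toFinset.mpr hq, hTfin.mem_toFinset.mpr hq'⟩, rfl⟩)
      apply hg q q' hne
      have hcomp : ∀ r : Ideal (Ring.DirectLimit G fun i j h => f i j h),
          r.comap (Ring.DirectLimit.of G (fun i j h => f i j h) (g q q')) =
            (r.comap (Ring.DirectLimit.of G (fun i j h => f i j h) i₀)).comap
              (f (g q q') i₀ hle) := by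
        intro r
        rw [Ideal.comap_comap]
        congr 1
        exact RingHom.ext fun x => (Ring.DirectLimit.of_f hle x).symm
      rw [hcomp, hcomp]
      exact congrArg (Ideal.comap (f (g q q') i₀ hle)) heq
    calc (n : ℕ∞) = T.encard := hTn.symm
      _ = (Ideal.comap (Ring.DirectLimit.of G (fun i j h => f i j h) i₀) '' T).encard :=
          hinj.encard_image.symm
      _ ≤ (minimalPrimes (G i₀)).encard := Set.encard_le_encard (by
          rintro _ ⟨q, hq, rfl⟩
          exact hL1 i₀ q (hTsub hq))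
      _ ≤ ⨆ i, (minimalPrimes (G i)).encard :=
          le_iSup (fun i => (minimalPrimes (G i)).encard) i₀
  · refine iSup_le fun i => ?_
    refine le_trans (Set.encard_le_encard ?_) (Set.encard_image_le
      (Ideal.comap (Ring.DirectLimit.of G (fun i j h => f i j h) i)) _)
    intro p hp
    obtain ⟨q, hq, hqp⟩ := exists_minimalPrimes_comap_eq _ hp (hcm i p)
    exact ⟨q, hq, hqp⟩

end DL

end Helper1
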