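import Mathlib
import Groth.Prelude.Def_Models

/-!
# Helper lemmas on numerical types (helper1)
-/

open Finset

namespace Helper1.NumType

variable {n : ℕ} (T : Models.NumericalType n)

theorem row_eq (i : Fin n) :
    T.a i i * T.m i + ∑ k ∈ univ.erase i, T.a i k * T.m k = 0 := by
  have hrow := congrFun T.mulVec_m i
  simp only [Matrix.mulVec, dotProduct, Pi.zero_apply] at hrow
  rw [← Finset.add_sum_erase _ _ (Finset.mem_univ i)] at hrow
  exact hrow

theorem erase_sum_nonneg (i : Fin n) : 0 ≤ ∑ k ∈ univ.erase i, T.a i k * T.m k :=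
  Finset.sum_nonneg fun k hk =>
    mul_nonneg (T.offDiag_nonneg i k (Finset.ne_of_mem_erase hk).symm) (T.m_pos k).le

theorem diag_nonpos (i : Fin n) : T.a i i ≤ 0 := by
  have h1 := row_eq T i
  have h2 := erase_sum_nonneg T i
  have h3 : T.a i i * T.m i ≤ 0 := by linarith
  by_contra hpos
  rw [not_le] at hpos
  have := mul_pos hpos (T.m_pos i)
  linarith

theorem term_le (i j : Fin n) (hij : i ≠ j) :
    T.a j i * T.m i ≤ -(T.a j j * T.m j) := by
  have h1 := row_eq T j
  have h2 : T.a j i * T.m i ≤ ∑ k ∈ univ.erase j, T.a j k * T.m k := by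
    apply Finset.single_le_sum (f := fun k => T.a j k * T.m k)
    · intro k hk
      exact mul_nonneg (T.offDiag_nonneg j k (Finset.ne_of_mem_erase hk).symm) (T.m_pos k).le
    · exact Finset.mem_erase.mpr ⟨hij, Finset.mem_univ i⟩
  linarith

theorem diag_neg (hn : 1 < n) (i : Fin n) : T.a i i < 0 := by
  obtain ⟨i', hi', j, hj, hne⟩ := T.connected {i} (Finset.singleton_nonempty i) (by
    intro h
    have := congrArg Finset.card h
    simp at this; omega)
  rw [Finset.mem_singleton] at hi'; subst hi'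
  have hji : j ≠ i' := by rintro rfl; exact hj (Finset.mem_singleton_self _)
  have hpos : 0 < T.a i' j := lt_of_le_of_ne (T.offDiag_nonneg i' j hji.symm) (Ne.symm hne)
  have h1 := term_le T j i' hji
  have h2 : 0 < T.a i' j * T.m j := mul_pos hpos (T.m_pos j)
  have h3 : T.a i' i' * T.m i' < 0 := by linarith
  by_contra hcon
  rw [not_lt] at hcon
  have := mul_nonneg hcon (T.m_pos i').le
  linarith

theorem two_dvd_sum : (2 : ℤ) ∣ ∑ i, T.m i * T.a i i := by
  have key := (ZMod.intCast_zmod_eq_zero_iff_dvd (∑ i, T.m i * T.a i i) 2)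
  rw [← Nat.cast_ofNat (R := ℤ)]
  rw [← key]
  push_cast
  let F : Fin n × Fin n → ZMod 2 := fun p => (T.m p.1 : ZMod 2) * T.a p.1 p.2 * T.m p.2
  have hS : ∑ p ∈ univ ×ˢ univ, F p = 0 := by
    rw [Finset.sum_product]
    apply Finset.sum_eq_zero
    intro i _
    have := congrFun T.mulVec_m i
    simp only [Matrix.mulVec, dotProduct, Pi.zero_apply] at this
    have h2 := congrArg (Int.cast : ℤ → ZMod 2) this
    push_cast at h2
    simp only [F, mul_assoc]
    rw [← Finset.mul_sum, h2, mul_zero]
  rw [← Finset.sum_filter_add_sum_filter_not _ (fun p : Fin n × Fin n => p.1 = p.2)] at hS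
  have hoff : ∑ p ∈ (univ ×ˢ univ).filter (fun p : Fin n × Fin n => ¬ p.1 = p.2), F p = 0 := by
    apply Finset.sum_involution (fun p _ => Prod.swap p)
    · intro p _
      simp only [F, Prod.fst_swap, Prod.snd_swap]
      rw [T.symm.apply p.1 p.2]
      have : (T.m p.2 : ZMod 2) * T.a p.1 p.2 * T.m p.1 = (T.m p.1 : ZMod 2) * T.a p.1 p.2 * T.m p.2 := by ring
      rw [this]
      exact CharTwo.add_self_eq_zero _
    · intro p hp _ h
      rw [Finset.mem_filter] at hp
      apply hp.2
      have := congrArg Prod.fst h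
      simpa using this.symm
    · intro p hp
      rw [Finset.mem_filter] at hp ⊢
      refine ⟨by simp, ?_⟩
      simp only [Prod.fst_swap, Prod.snd_swap]
      exact fun h => hp.2 h.symm
    · intro p _
      simp
  rw [hoff, add_zero, Finset.sum_filter, Finset.sum_product] at hS
  simp only [Finset.sum_ite_eq, Finset.mem_univ, if_true] at hS
  rw [← hS]
  apply Finset.sum_congr rfl
  intro i _
  simp only [F]
  have hsq : (T.m i : ZMod 2) * T.m i = T.m i := by
    have := ZMod.pow_card (T.m i : ZMod 2)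
    rwa [pow_two] at this
  calc (T.m i : ZMod 2) * T.a i i = ((T.m i : ZMod 2) * T.m i) * T.a i i := by rw [hsq]
    _ = (T.m i : ZMod 2) * T.a i i * T.m i := by ring


/-- `2 * genus - 2 = ∑ m_i (2 w_i (g_i - 1) - a_ii)`. -/
theorem two_genus : 2 * T.genus - 2 = ∑ i, T.m i * (2 * T.w i * (T.g i - 1) - T.a i i) := by
  obtain ⟨k, hk⟩ := two_dvd_sum T
  have hdiv : (∑ i, T.m i * T.a i i) / 2 = k := by
    rw [hk]; exact Int.mul_ediv_cancel_left k two_ne_zero
  have hsum : ∑ i, T.m i * (2 * T.w i * (T.g i - 1) - T.a i i) =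
      2 * (∑ i, T.m i * T.w i * (T.g i - 1)) - ∑ i, T.m i * T.a i i := by
    rw [Finset.mul_sum, ← Finset.sum_sub_distrib]
    apply Finset.sum_congr rfl; intro i _; ring
  rw [hsum, hk, Models.NumericalType.genus, hdiv]
  ring

/-- For a minimal numerical type with more than one index, the local terms are nonnegative. -/
theorem term_nonneg (hmin : T.IsMinimal) (hn : 1 < n) (i : Fin n) :
    0 ≤ 2 * T.w i * (T.g i - 1) - T.a i i := by
  obtain ⟨c, hc⟩ := T.w_dvd i i
  have hneg := diag_neg T hn i
  have hw := T.w_pos i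
  have hg := T.g_nonneg i
  have hc1 : c ≤ -1 := by
    by_contra h
    rw [not_le] at h
    have : 0 ≤ c := by omega
    have := mul_nonneg hw.le this
    rw [← hc] at this
    omega
  rcases eq_or_lt_of_le hg with hg0 | hgpos
  · have hc2 : c ≠ -1 := by
      intro h
      apply hmin i
      refine ⟨hg0.symm, ?_⟩
      rw [hc, h]; ring
    have hc3 : c ≤ -2 := by omega
    rw [← hg0, hc]
    nlinarith
  · have h1 : 0 ≤ 2 * T.w i * (T.g i - 1) := by
      apply mul_nonneg (by linarith) (by linarith)
    linarith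

theorem one_le_genus (hmin : T.IsMinimal) (hn : 1 < n) : 1 ≤ T.genus := by
  have h := two_genus T
  have h2 : 0 ≤ ∑ i, T.m i * (2 * T.w i * (T.g i - 1) - T.a i i) :=
    Finset.sum_nonneg fun i _ => mul_nonneg (T.m_pos i).le (term_nonneg T hmin hn i)
  linarith

end Helper1.NumType
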