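import Mathlib

/-! Exponentials of power series over `ℚ` with zero constant term: `E f = exp ∘ f`,
additivity, and `E (Σ_{v ≥ 1} c^v t^v / v) * (1 - c t) = 1`. -/

namespace Helper1.PSExp
open PowerSeries

/-- exponential of a power series (used for zero constant coefficient) -/
noncomputable def E (f : PowerSeries ℚ) : PowerSeries ℚ := PowerSeries.subst f (PowerSeries.exp ℚ)

theorem hs {f : PowerSeries ℚ} (hf : PowerSeries.constantCoeff f = 0) : PowerSeries.HasSubst f :=
  PowerSeries.HasSubst.of_constantCoeff_zero' hf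

theorem deriv_E {f : PowerSeries ℚ} (hf : PowerSeries.constantCoeff f = 0) :
    PowerSeries.derivative ℚ (E f) = E f * PowerSeries.derivative ℚ f := by
  unfold E
  rw [PowerSeries.derivative_subst (hs hf), PowerSeries.derivative_exp]

theorem cc_E {f : PowerSeries ℚ} (hf : PowerSeries.constantCoeff f = 0) :
    PowerSeries.constantCoeff (E f) = 1 := by
  unfold E
  have := PowerSeries.constantCoeff_subst (hs hf) (PowerSeries.exp ℚ)
  rw [finsum_eq_single _ 0 (fun d hd => by
    rw [map_pow, show MvPowerSeries.constantCoeff f = 0 from hf, zero_pow hd, smul_zero])] at this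
  have h2 : MvPowerSeries.constantCoeff (PowerSeries.subst f (PowerSeries.exp ℚ)) = 1 := by
    simpa using this
  exact h2

theorem eq_one_of_deriv_zero {g : PowerSeries ℚ} (hd : PowerSeries.derivative ℚ g = 0)
    (hc : PowerSeries.constantCoeff g = 1) : g = 1 := by
  apply PowerSeries.derivative.ext
  · rw [hd, PowerSeries.derivative_one]
  · rw [hc, map_one]

theorem E_neg_mul {f : PowerSeries ℚ} (hf : PowerSeries.constantCoeff f = 0) :
    E (-f) * E f = 1 := by
  have hnf : PowerSeries.constantCoeff (-f) = 0 := by rw [map_neg, hf, neg_zero]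
  apply eq_one_of_deriv_zero
  · rw [Derivation.leibniz, deriv_E hf, deriv_E hnf, map_neg, smul_eq_mul, smul_eq_mul]
    ring
  · rw [map_mul, cc_E hf, cc_E hnf, one_mul]

theorem E_add {f g : PowerSeries ℚ} (hf : PowerSeries.constantCoeff f = 0)
    (hg : PowerSeries.constantCoeff g = 0) : E (f + g) = E f * E g := by
  have hfg : PowerSeries.constantCoeff (f + g) = 0 := by rw [map_add, hf, hg, add_zero]
  have hnf : PowerSeries.constantCoeff (-f) = 0 := by rw [map_neg, hf, neg_zero]
  have hng : PowerSeries.constantCoeff (-g) = 0 := by rw [map_neg, hg, neg_zero]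
  have hU : E (f + g) * (E (-f) * E (-g)) = 1 := by
    apply eq_one_of_deriv_zero
    · rw [Derivation.leibniz, Derivation.leibniz, deriv_E hfg, deriv_E hnf, deriv_E hng,
        map_add, map_neg, map_neg]
      simp only [smul_eq_mul]
      ring
    · rw [map_mul, map_mul, cc_E hfg, cc_E hnf, cc_E hng, one_mul, one_mul]
  calc E (f + g) = E (f + g) * (E (-f) * E f) * (E (-g) * E g) := by
        rw [E_neg_mul hf, E_neg_mul hg, mul_one, mul_one]
    _ = (E (f + g) * (E (-f) * E (-g))) * (E f * E g) := by ring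
    _ = E f * E g := by rw [hU, one_mul]

theorem E_zero : E 0 = 1 := by
  have h0 : PowerSeries.constantCoeff (0 : PowerSeries ℚ) = 0 := map_zero _
  apply eq_one_of_deriv_zero
  · rw [deriv_E h0, map_zero, mul_zero]
  · exact cc_E h0

theorem E_nsmul {f : PowerSeries ℚ} (hf : PowerSeries.constantCoeff f = 0) (n : ℕ) :
    E (n • f) = E f ^ n := by
  induction n with
  | zero => rw [zero_smul, pow_zero, E_zero]
  | succ n ih =>
    have hnf : PowerSeries.constantCoeff (n • f) = 0 := by rw [map_nsmul, hf, smul_zero]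
    rw [succ_nsmul, E_add hnf hf, ih, pow_succ]

theorem E_sum {ι : Type*} (s : Finset ι) (f : ι → PowerSeries ℚ)
    (hf : ∀ i, PowerSeries.constantCoeff (f i) = 0) :
    E (∑ i ∈ s, f i) = ∏ i ∈ s, E (f i) := by
  classical
  induction s using Finset.induction_on with
  | empty => rw [Finset.sum_empty, Finset.prod_empty, E_zero]
  | insert a s ha ih =>
    have hs' : PowerSeries.constantCoeff (∑ i ∈ s, f i) = 0 := by
      rw [map_sum]; exact Finset.sum_eq_zero fun i _ => hf i
    rw [Finset.sum_insert ha, Finset.prod_insert ha, E_add (hf a) hs', ih]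

/-- `-log(1 - c t) = Σ_{v ≥ 1} c^v t^v / v` -/
noncomputable def L (c : ℚ) : PowerSeries ℚ :=
  PowerSeries.mk fun v : ℕ => if v = 0 then 0 else c ^ v / (v : ℚ)

theorem cc_L (c : ℚ) : PowerSeries.constantCoeff (L c) = 0 := by
  rw [← PowerSeries.coeff_zero_eq_constantCoeff_apply, L, PowerSeries.coeff_mk, if_pos rfl]

theorem deriv_L (c : ℚ) :
    PowerSeries.derivative ℚ (L c) = PowerSeries.mk fun n : ℕ => c ^ (n + 1) := by
  ext n
  rw [PowerSeries.coeff_derivative, L, PowerSeries.coeff_mk, PowerSeries.coeff_mk,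
    if_neg (Nat.succ_ne_zero n)]
  have h : ((n : ℚ) + 1) ≠ 0 := by positivity
  push_cast
  field_simp

theorem deriv_L_mul (c : ℚ) :
    PowerSeries.derivative ℚ (L c) * (1 - PowerSeries.C c * PowerSeries.X) = PowerSeries.C c := by
  rw [deriv_L]
  ext n
  rw [mul_sub, mul_one, map_sub]
  cases n with
  | zero =>
    rw [PowerSeries.coeff_mk, ← mul_assoc, PowerSeries.coeff_zero_mul_X, sub_zero,
      PowerSeries.coeff_zero_C]
    simp
  | succ n =>
    rw [PowerSeries.coeff_mk, ← mul_assoc, PowerSeries.coeff_succ_mul_X, PowerSeries.coeff_mul_C,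
      PowerSeries.coeff_mk, PowerSeries.coeff_C, if_neg (Nat.succ_ne_zero n)]
    ring

theorem deriv_W (c : ℚ) :
    PowerSeries.derivative ℚ (1 - PowerSeries.C c * PowerSeries.X) = - PowerSeries.C c := by
  rw [map_sub, PowerSeries.derivative_one, zero_sub, Derivation.leibniz, PowerSeries.derivative_X,
    PowerSeries.derivative_C, smul_zero, add_zero, smul_eq_mul, mul_one]

theorem E_L (c : ℚ) : E (L c) * (1 - PowerSeries.C c * PowerSeries.X) = 1 := by
  apply eq_one_of_deriv_zero
  · rw [Derivation.leibniz, deriv_E (cc_L c), deriv_W, smul_eq_mul, smul_eq_mul]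
    linear_combination (E (L c)) * deriv_L_mul c
  · rw [map_mul, cc_E (cc_L c), one_mul, map_sub, map_one, map_mul, PowerSeries.constantCoeff_X,
      mul_zero, sub_zero]

theorem E_zsmul_L_mul (r : ℤ) (c : ℚ) :
    E ((r : ℚ) • L c) * (1 - PowerSeries.C c * PowerSeries.X) ^ r.toNat
      = (1 - PowerSeries.C c * PowerSeries.X) ^ (-r).toNat := by
  have hcL := cc_L c
  rcases le_or_gt 0 r with hr | hr
  · obtain ⟨n, rfl⟩ := Int.eq_ofNat_of_zero_le hr
    have h1 : ((n : ℤ) : ℚ) • L c = n • L c := by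
      rw [Int.cast_natCast, Nat.cast_smul_eq_nsmul]
    have h2 : (-(n : ℤ)).toNat = 0 := by simp
    rw [h1, E_nsmul hcL, Int.toNat_natCast, ← mul_pow, E_L, one_pow, h2, pow_zero]
  · obtain ⟨n, hn⟩ : ∃ n : ℕ, r = -(n : ℤ) := ⟨(-r).toNat, by omega⟩
    subst hn
    have h1 : ((-(n : ℤ) : ℤ) : ℚ) • L c = -(n • L c) := by
      rw [Int.cast_neg, Int.cast_natCast, neg_smul, Nat.cast_smul_eq_nsmul]
    have hnL : PowerSeries.constantCoeff (n • L c) = 0 := by rw [map_nsmul, hcL, smul_zero]
    have h2 : (-(n : ℤ)).toNat = 0 := by simp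
    have h3 : (-(-(n : ℤ))).toNat = n := by simp
    rw [h1, h2, h3, pow_zero, mul_one]
    calc E (-(n • L c))
        = E (-(n • L c)) * (E (L c) * (1 - PowerSeries.C c * PowerSeries.X)) ^ n := by
          rw [E_L, one_pow, mul_one]
      _ = (E (-(n • L c)) * E (n • L c)) * (1 - PowerSeries.C c * PowerSeries.X) ^ n := by
          rw [mul_pow, E_nsmul hcL]; ring
      _ = (1 - PowerSeries.C c * PowerSeries.X) ^ n := by rw [E_neg_mul hnL, one_mul]

theorem main {ι : Type*} (S : Finset ι) (r : ι → ℤ) (c : ι → ℚ) :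
    E (∑ i ∈ S, (r i : ℚ) • L (c i)) *
        ∏ i ∈ S, (1 - PowerSeries.C (c i) * PowerSeries.X) ^ (r i).toNat
      = ∏ i ∈ S, (1 - PowerSeries.C (c i) * PowerSeries.X) ^ (-(r i)).toNat := by
  rw [E_sum S _ (fun i => by rw [PowerSeries.smul_eq_C_mul, map_mul, cc_L, mul_zero]),
    ← Finset.prod_mul_distrib]
  exact Finset.prod_congr rfl fun i _ => E_zsmul_L_mul (r i) (c i)

theorem coeff_sum_L {ι : Type*} (S : Finset ι) (r : ι → ℤ) (c : ι → ℚ) (v : ℕ) :
    PowerSeries.coeff v (∑ i ∈ S, (r i : ℚ) • L (c i))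
      = if v = 0 then 0 else (∑ i ∈ S, (r i : ℚ) * (c i) ^ v) / (v : ℚ) := by
  rw [map_sum]
  split_ifs with hv
  · refine Finset.sum_eq_zero fun i _ => ?_
    rw [PowerSeries.coeff_smul, L, PowerSeries.coeff_mk, if_pos hv, smul_zero]
  · rw [Finset.sum_div]
    refine Finset.sum_congr rfl fun i _ => ?_
    rw [PowerSeries.coeff_smul, L, PowerSeries.coeff_mk, if_neg hv, smul_eq_mul, mul_div_assoc]

end Helper1.PSExp
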