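import Mathlib
import Groth.Agent.Lib.helper1.PSExp

/-! `E (Σ_{j ≥ 1} t^{ej}/j) * (1 - t^e) = 1` and the Euler-product congruence for
`exp (Σ_m (Σ_{e ∣ m} e a_e) t^m / m)`. -/

namespace Helper1.PSExp
open PowerSeries

/-- `-log(1 - t^e) = Σ_{j ≥ 1} t^{ej}/j` -/
noncomputable def Lp (e : ℕ) : PowerSeries ℚ :=
  PowerSeries.mk fun m : ℕ => if e ∣ m ∧ m ≠ 0 then (e : ℚ) / (m : ℚ) else 0

theorem cc_Lp (e : ℕ) : PowerSeries.constantCoeff (Lp e) = 0 := by
  rw [← PowerSeries.coeff_zero_eq_constantCoeff_apply, Lp, PowerSeries.coeff_mk, if_neg]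
  exact fun h => h.2 rfl

theorem deriv_Lp (e : ℕ) :
    PowerSeries.derivative ℚ (Lp e)
      = PowerSeries.mk fun m : ℕ => if e ∣ m + 1 then (e : ℚ) else 0 := by
  ext m
  rw [PowerSeries.coeff_derivative, Lp, PowerSeries.coeff_mk, PowerSeries.coeff_mk]
  have h : ((m : ℚ) + 1) ≠ 0 := by positivity
  by_cases hd : e ∣ m + 1
  · rw [if_pos ⟨hd, Nat.succ_ne_zero m⟩, if_pos hd]
    push_cast
    field_simp
  · rw [if_neg (fun h => hd h.1), if_neg hd, zero_mul]

theorem deriv_Lp_mul (e : ℕ) (he : 1 ≤ e) :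
    PowerSeries.derivative ℚ (Lp e) * (1 - PowerSeries.X ^ e)
      = PowerSeries.C (e : ℚ) * PowerSeries.X ^ (e - 1) := by
  rw [deriv_Lp]
  ext m
  rw [mul_sub, mul_one, map_sub, PowerSeries.coeff_mul_X_pow', PowerSeries.coeff_C_mul,
    PowerSeries.coeff_X_pow]
  simp only [PowerSeries.coeff_mk]
  by_cases h1 : e ≤ m
  · rw [if_pos h1]
    have hdvd : e ∣ m - e + 1 ↔ e ∣ m + 1 := by
      have h3 : m + 1 = (m - e + 1) + e := by omega
      rw [h3]
      exact Nat.dvd_add_iff_left (dvd_refl e)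
    have hne : m ≠ e - 1 := by omega
    rw [if_neg hne, mul_zero]
    by_cases h2 : e ∣ m + 1
    · rw [if_pos h2, if_pos (hdvd.mpr h2), sub_self]
    · rw [if_neg h2, if_neg (fun h => h2 (hdvd.mp h)), sub_zero]
  · rw [if_neg h1, sub_zero]
    by_cases h2 : m = e - 1
    · have h4 : e ∣ m + 1 := by rw [h2, Nat.sub_add_cancel he]
      rw [if_pos h4, if_pos h2, mul_one]
    · have h4 : ¬ e ∣ m + 1 := by
        intro hd
        have := Nat.le_of_dvd (Nat.succ_pos m) hd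
        omega
      rw [if_neg h4, if_neg h2, mul_zero]

theorem deriv_Wp (e : ℕ) :
    PowerSeries.derivative ℚ (1 - PowerSeries.X ^ e)
      = - (PowerSeries.C (e : ℚ) * PowerSeries.X ^ (e - 1)) := by
  rw [map_sub, PowerSeries.derivative_one, zero_sub, Derivation.leibniz_pow,
    PowerSeries.derivative_X, smul_eq_mul, mul_one, nsmul_eq_mul,
    ← map_natCast (PowerSeries.C : ℚ →+* PowerSeries ℚ)]

theorem E_Lp (e : ℕ) (he : 1 ≤ e) : E (Lp e) * (1 - PowerSeries.X ^ e) = 1 := by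
  apply eq_one_of_deriv_zero
  · rw [Derivation.leibniz, deriv_E (cc_Lp e), deriv_Wp, smul_eq_mul, smul_eq_mul]
    linear_combination (E (Lp e)) * deriv_Lp_mul e he
  · rw [map_mul, cc_E (cc_Lp e), one_mul, map_sub, map_one, map_pow, PowerSeries.constantCoeff_X,
      zero_pow (by omega), sub_zero]

theorem E_trunc {R : PowerSeries ℚ} {n : ℕ} (hR : ∀ m ≤ n, PowerSeries.coeff m R = 0) :
    ∀ m ≤ n, PowerSeries.coeff m (E R) = PowerSeries.coeff m (1 : PowerSeries ℚ) := by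
  intro m hm
  have hcc : PowerSeries.constantCoeff R = 0 := by
    rw [← PowerSeries.coeff_zero_eq_constantCoeff_apply]; exact hR 0 (Nat.zero_le n)
  unfold E
  rw [PowerSeries.coeff_subst' (hs hcc)]
  have h0 : PowerSeries.coeff 0 (PowerSeries.exp ℚ) = 1 := by
    rw [PowerSeries.coeff_zero_eq_constantCoeff_apply, PowerSeries.constantCoeff_exp]
  rw [finsum_eq_single _ 0 ?_]
  · rw [h0, pow_zero, one_smul]
  · intro d hd
    have h1 : PowerSeries.coeff m (R ^ d) = 0 := by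
      obtain ⟨d', rfl⟩ := Nat.exists_eq_succ_of_ne_zero hd
      rw [pow_succ', PowerSeries.coeff_mul]
      refine Finset.sum_eq_zero fun p hp => ?_
      have h2 : p.1 ≤ m := Finset.HasAntidiagonal.antidiagonal.fst_le hp
      rw [hR p.1 (le_trans h2 hm), zero_mul]
    rw [h1, smul_zero]

theorem coeff_sum_Lp (a : ℕ → ℕ) (n m : ℕ) (hm : m ≤ n) :
    PowerSeries.coeff m (∑ e ∈ Finset.Icc 1 n, a e • Lp e)
      = ((∑ e ∈ m.divisors, e * a e : ℕ) : ℚ) / (m : ℚ) := by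
  rw [map_sum]
  rcases Nat.eq_zero_or_pos m with rfl | hpos
  · rw [Nat.cast_zero, div_zero]
    refine Finset.sum_eq_zero fun e _ => ?_
    rw [map_nsmul, Lp, PowerSeries.coeff_mk, if_neg (fun h => h.2 rfl), smul_zero]
  · have hsub : m.divisors ⊆ Finset.Icc 1 n := by
      intro d hd
      rw [Finset.mem_Icc]
      exact ⟨Nat.pos_of_mem_divisors hd, le_trans (Nat.divisor_le hd) hm⟩
    have key : ∑ e ∈ m.divisors, PowerSeries.coeff m (a e • Lp e)
        = ∑ e ∈ Finset.Icc 1 n, PowerSeries.coeff m (a e • Lp e) := by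
      refine Finset.sum_subset hsub fun e _ hne => ?_
      rw [map_nsmul, Lp, PowerSeries.coeff_mk, if_neg, smul_zero]
      intro h
      exact hne (Nat.mem_divisors.mpr ⟨h.1, hpos.ne'⟩)
    rw [← key]
    push_cast
    rw [Finset.sum_div]
    refine Finset.sum_congr rfl fun e he => ?_
    rw [map_nsmul, Lp, PowerSeries.coeff_mk,
      if_pos ⟨Nat.dvd_of_mem_divisors he, hpos.ne'⟩, nsmul_eq_mul]
    ring

theorem zeta_key (a : ℕ → ℕ) (lz : PowerSeries ℚ)
    (hlz : ∀ m, PowerSeries.coeff m lz = ((∑ e ∈ m.divisors, e * a e : ℕ) : ℚ) / (m : ℚ))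
    (n : ℕ) :
    ∀ m ≤ n, PowerSeries.coeff m (E lz * ∏ r ∈ Finset.Icc 1 n, (1 - PowerSeries.X ^ r) ^ a r)
      = PowerSeries.coeff m (1 : PowerSeries ℚ) := by
  obtain ⟨S, hS⟩ : ∃ S : PowerSeries ℚ, S = ∑ e ∈ Finset.Icc 1 n, a e • Lp e := ⟨_, rfl⟩
  have hccS : PowerSeries.constantCoeff S = 0 := by
    rw [hS, map_sum]
    exact Finset.sum_eq_zero fun e _ => by rw [map_nsmul, cc_Lp, smul_zero]
  have hR : ∀ m ≤ n, PowerSeries.coeff m (lz - S) = 0 := by
    intro m hm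
    rw [map_sub, hlz, hS, coeff_sum_Lp a n m hm, sub_self]
  have hccR : PowerSeries.constantCoeff (lz - S) = 0 := by
    rw [← PowerSeries.coeff_zero_eq_constantCoeff_apply]; exact hR 0 (Nat.zero_le n)
  have hsplit : E lz = E (lz - S) * E S := by
    rw [← E_add hccR hccS, sub_add_cancel]
  have hES : E S * ∏ r ∈ Finset.Icc 1 n, (1 - PowerSeries.X ^ r) ^ a r = 1 := by
    rw [hS, E_sum _ _ (fun e => by rw [map_nsmul, cc_Lp, smul_zero]), ← Finset.prod_mul_distrib]
    refine Finset.prod_eq_one fun e he => ?_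
    rw [E_nsmul (cc_Lp e), ← mul_pow, E_Lp e (Finset.mem_Icc.mp he).1, one_pow]
  intro m hm
  rw [hsplit, mul_assoc, hES, mul_one]
  exact E_trunc hR m hm

theorem int_coeff (Z P : PowerSeries ℚ) (Q : PowerSeries ℤ)
    (hQ1 : PowerSeries.constantCoeff Q = 1)
    (hQ2 : PowerSeries.map (Int.castRingHom ℚ) Q = P) (n : ℕ)
    (h : ∀ m ≤ n, PowerSeries.coeff m (Z * P) = PowerSeries.coeff m (1 : PowerSeries ℚ)) :
    ∃ z : ℤ, PowerSeries.coeff n Z = (z : ℚ) := by
  have hu : IsUnit Q := by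
    rw [PowerSeries.isUnit_iff_constantCoeff, hQ1]; exact isUnit_one
  obtain ⟨Q', hQ'⟩ := hu.exists_right_inv
  have hW : P * PowerSeries.map (Int.castRingHom ℚ) Q' = 1 := by
    rw [← hQ2, ← map_mul, hQ', map_one]
  refine ⟨PowerSeries.coeff n Q', ?_⟩
  have h2 : PowerSeries.coeff n ((Z * P) * PowerSeries.map (Int.castRingHom ℚ) Q')
      = PowerSeries.coeff n (1 * PowerSeries.map (Int.castRingHom ℚ) Q') := by
    rw [PowerSeries.coeff_mul, PowerSeries.coeff_mul]
    refine Finset.sum_congr rfl fun p hp => ?_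
    rw [h p.1 (Finset.HasAntidiagonal.antidiagonal.fst_le hp)]
  calc PowerSeries.coeff n Z
      = PowerSeries.coeff n ((Z * P) * PowerSeries.map (Int.castRingHom ℚ) Q') := by
        rw [mul_assoc, hW, mul_one]
    _ = PowerSeries.coeff n (1 * PowerSeries.map (Int.castRingHom ℚ) Q') := h2
    _ = ((PowerSeries.coeff n Q' : ℤ) : ℚ) := by
        rw [one_mul, PowerSeries.coeff_map]; rfl

end Helper1.PSExp
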