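import Mathlib

set_option autoImplicit false
universe u v w
open scoped TensorProduct
open MvPolynomial

namespace Helper1.PolyLawRestrict

variable {A : Type u} [CommRing A] {M : Type v} [AddCommGroup M] [Module A M]
  {N : Type w} [AddCommGroup N] [Module A N]

/-- compatibility of a family of maps on polynomial rings -/
abbrev Compat (T : ∀ n : ℕ, MvPolynomial (Fin n) A ⊗[A] M → MvPolynomial (Fin n) A ⊗[A] N) : Prop :=
  ∀ (n m : ℕ) (φ : MvPolynomial (Fin n) A →ₐ[A] MvPolynomial (Fin m) A),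
    φ.toLinearMap.rTensor N ∘ T n = T m ∘ φ.toLinearMap.rTensor M

variable {T : ∀ n : ℕ, MvPolynomial (Fin n) A ⊗[A] M → MvPolynomial (Fin n) A ⊗[A] N}

theorem hT_apply (hT : Compat T) {n m : ℕ}
    (φ : MvPolynomial (Fin n) A →ₐ[A] MvPolynomial (Fin m) A) (x : MvPolynomial (Fin n) A ⊗[A] M) :
    φ.toLinearMap.rTensor N (T n x) = T m (φ.toLinearMap.rTensor M x) :=
  congrFun (hT n m φ) x

theorem w1 (hT : Compat T) {S : Type u} [CommSemiring S] [Algebra A S] {k : ℕ}
    (θ : MvPolynomial (Fin k) A →ₐ[A] S) (j : MvPolynomial (Fin k) A) (hj : θ j = 0) (m : M)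
    (P' : MvPolynomial (Fin k) A ⊗[A] M) :
    θ.toLinearMap.rTensor N (T k (P' + j ⊗ₜ[A] m)) = θ.toLinearMap.rTensor N (T k P') := by
  let ι : MvPolynomial (Fin k) A →ₐ[A] MvPolynomial (Fin (k+1)) A := rename Fin.succ
  let α : MvPolynomial (Fin (k+1)) A →ₐ[A] MvPolynomial (Fin k) A :=
    aeval (Fin.cons j X : Fin (k+1) → MvPolynomial (Fin k) A)
  let β : MvPolynomial (Fin (k+1)) A →ₐ[A] MvPolynomial (Fin k) A :=
    aeval (Fin.cons 0 X : Fin (k+1) → MvPolynomial (Fin k) A)
  have hαι : α.comp ι = AlgHom.id A _ := by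
    apply MvPolynomial.algHom_ext
    intro i
    simp [α, ι]
  have hβι : β.comp ι = AlgHom.id A _ := by
    apply MvPolynomial.algHom_ext
    intro i
    simp [β, ι]
  have hθ : θ.comp α = θ.comp β := by
    apply MvPolynomial.algHom_ext
    intro i
    induction i using Fin.cases with
    | zero => simp [α, β, hj]
    | succ i' => simp [α, β]
  set X0 : MvPolynomial (Fin (k+1)) A ⊗[A] M :=
    ι.toLinearMap.rTensor M P' + (X 0) ⊗ₜ[A] m with hX0
  have hα0 : α.toLinearMap.rTensor M X0 = P' + j ⊗ₜ[A] m := by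
    rw [hX0, map_add, ← LinearMap.rTensor_comp_apply, ← AlgHom.comp_toLinearMap, hαι,
      LinearMap.rTensor_tmul]
    simp [α]
  have hβ0 : β.toLinearMap.rTensor M X0 = P' := by
    rw [hX0, map_add, ← LinearMap.rTensor_comp_apply, ← AlgHom.comp_toLinearMap, hβι,
      LinearMap.rTensor_tmul]
    simp [β]
  calc θ.toLinearMap.rTensor N (T k (P' + j ⊗ₜ[A] m))
      = θ.toLinearMap.rTensor N (T k (α.toLinearMap.rTensor M X0)) := by rw [hα0]
    _ = θ.toLinearMap.rTensor N (α.toLinearMap.rTensor N (T (k+1) X0)) := by rw [hT_apply hT]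
    _ = (θ.comp α).toLinearMap.rTensor N (T (k+1) X0) := by
        rw [AlgHom.comp_toLinearMap, LinearMap.rTensor_comp_apply]
    _ = (θ.comp β).toLinearMap.rTensor N (T (k+1) X0) := by rw [hθ]
    _ = θ.toLinearMap.rTensor N (β.toLinearMap.rTensor N (T (k+1) X0)) := by
        rw [AlgHom.comp_toLinearMap, LinearMap.rTensor_comp_apply]
    _ = θ.toLinearMap.rTensor N (T k (β.toLinearMap.rTensor M X0)) := by rw [hT_apply hT]
    _ = θ.toLinearMap.rTensor N (T k P') := by rw [hβ0]

theorem w2 (hT : Compat T) {S : Type u} [CommSemiring S] [Algebra A S] {k : ℕ}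
    (θ : MvPolynomial (Fin k) A →ₐ[A] S) (w : ↥(LinearMap.ker θ.toLinearMap) ⊗[A] M) :
    ∀ P' : MvPolynomial (Fin k) A ⊗[A] M,
    θ.toLinearMap.rTensor N (T k (P' + (LinearMap.ker θ.toLinearMap).subtype.rTensor M w)) =
      θ.toLinearMap.rTensor N (T k P') := by
  induction w using TensorProduct.induction_on with
  | zero => intro P'; simp
  | tmul j m =>
    intro P'
    rw [LinearMap.rTensor_tmul]
    exact w1 hT θ j.1 (LinearMap.mem_ker.mp j.2) m P'
  | add a b ha hb =>
    intro P'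
    rw [map_add, ← add_assoc, hb, ha]

theorem w3 (hT : Compat T) {S : Type u} [CommSemiring S] [Algebra A S] {k : ℕ}
    (θ : MvPolynomial (Fin k) A →ₐ[A] S) (hθ : Function.Surjective θ)
    (P P' : MvPolynomial (Fin k) A ⊗[A] M)
    (h : θ.toLinearMap.rTensor M P = θ.toLinearMap.rTensor M P') :
    θ.toLinearMap.rTensor N (T k P) = θ.toLinearMap.rTensor N (T k P') := by
  letI : AddCommGroup S := Module.addCommMonoidToAddCommGroup A
  have hex := rTensor_exact M (LinearMap.exact_subtype_ker_map θ.toLinearMap) hθ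
  have h0 : θ.toLinearMap.rTensor M (P - P') = 0 := by rw [map_sub, h, sub_self]
  obtain ⟨w, hw⟩ := (hex (P - P')).mp h0
  have : P = P' + (LinearMap.ker θ.toLinearMap).subtype.rTensor M w := by
    rw [hw]; abel
  rw [this]
  exact w2 hT θ w P'

theorem w (hT : Compat T) {S : Type u} [CommSemiring S] [Algebra A S] {n n' : ℕ}
    (ψ : MvPolynomial (Fin n) A →ₐ[A] S) (ψ' : MvPolynomial (Fin n') A →ₐ[A] S)
    (p : MvPolynomial (Fin n) A ⊗[A] M) (p' : MvPolynomial (Fin n') A ⊗[A] M)
    (h : ψ.toLinearMap.rTensor M p = ψ'.toLinearMap.rTensor M p') :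
    ψ.toLinearMap.rTensor N (T n p) = ψ'.toLinearMap.rTensor N (T n' p') := by
  have uFG : Subalgebra.FG (R := A) ψ.range := by
    rw [← Algebra.map_top]
    exact Subalgebra.FG.map _ Algebra.FiniteType.out
  have u'FG : Subalgebra.FG (R := A) ψ'.range := by
    rw [← Algebra.map_top]
    exact Subalgebra.FG.map _ Algebra.FiniteType.out
  have huu' : LinearMap.rTensor M (Subalgebra.val ψ.range).toLinearMap
        (LinearMap.rTensor M ψ.rangeRestrict.toLinearMap p) =
      LinearMap.rTensor M (Subalgebra.val ψ'.range).toLinearMap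
        (LinearMap.rTensor M ψ'.rangeRestrict.toLinearMap p') := by
    simp only [← LinearMap.comp_apply, ← LinearMap.rTensor_comp, ← AlgHom.comp_toLinearMap,
      AlgHom.val_comp_rangeRestrict, h]
  obtain ⟨B, hAB, hA'B, ⟨t, hB⟩, hBeq⟩ :=
    TensorProduct.Algebra.eq_of_fg_of_subtype_eq' (R := A) uFG u'FG huu'
  have hθB : (PolynomialLaw.φ A t).range = B := (PolynomialLaw.range_φ A t).trans hB
  clear hB
  subst hθB
  set θ := PolynomialLaw.φ A t with hθdef
  have hlift : ∀ {r : ℕ} (χ : MvPolynomial (Fin r) A →ₐ[A] S), χ.range ≤ θ.range →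
      ∃ g : MvPolynomial (Fin r) A →ₐ[A] MvPolynomial (Fin t.card) A, θ.comp g = χ := by
    intro r χ hχ
    have hc : ∀ i : Fin r, ∃ c : MvPolynomial (Fin t.card) A, θ c = χ (X i) := by
      intro i
      have : χ (X i) ∈ θ.range := hχ ⟨X i, rfl⟩
      exact this
    choose c hc using hc
    refine ⟨aeval c, ?_⟩
    apply MvPolynomial.algHom_ext
    intro i
    simp [hc]
  obtain ⟨g, hg⟩ := hlift ψ hAB
  obtain ⟨g', hg'⟩ := hlift ψ' hA'B
  have hrr : θ.rangeRestrict.comp g = (Subalgebra.inclusion hAB).comp ψ.rangeRestrict := by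
    apply AlgHom.ext
    intro x
    apply Subtype.ext
    exact DFunLike.congr_fun hg x
  have hrr' : θ.rangeRestrict.comp g' = (Subalgebra.inclusion hA'B).comp ψ'.rangeRestrict := by
    apply AlgHom.ext
    intro x
    apply Subtype.ext
    exact DFunLike.congr_fun hg' x
  have hkey : θ.rangeRestrict.toLinearMap.rTensor M (g.toLinearMap.rTensor M p) =
      θ.rangeRestrict.toLinearMap.rTensor M (g'.toLinearMap.rTensor M p') := by
    rw [← LinearMap.rTensor_comp_apply, ← LinearMap.rTensor_comp_apply,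
      ← AlgHom.comp_toLinearMap, ← AlgHom.comp_toLinearMap, hrr, hrr',
      AlgHom.comp_toLinearMap, AlgHom.comp_toLinearMap,
      LinearMap.rTensor_comp_apply, LinearMap.rTensor_comp_apply]
    exact hBeq
  have h3 := w3 hT θ.rangeRestrict (AlgHom.rangeRestrict_surjective θ) _ _ hkey
  have h4 := congrArg (θ.range.val.toLinearMap.rTensor N) h3
  rw [← LinearMap.rTensor_comp_apply, ← LinearMap.rTensor_comp_apply,
    ← AlgHom.comp_toLinearMap, AlgHom.val_comp_rangeRestrict] at h4
  calc ψ.toLinearMap.rTensor N (T n p)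
      = (θ.comp g).toLinearMap.rTensor N (T n p) := by rw [hg]
    _ = θ.toLinearMap.rTensor N (g.toLinearMap.rTensor N (T n p)) := by
        rw [AlgHom.comp_toLinearMap, LinearMap.rTensor_comp_apply]
    _ = θ.toLinearMap.rTensor N (T _ (g.toLinearMap.rTensor M p)) := by rw [hT_apply hT]
    _ = θ.toLinearMap.rTensor N (T _ (g'.toLinearMap.rTensor M p')) := h4
    _ = θ.toLinearMap.rTensor N (g'.toLinearMap.rTensor N (T n' p')) := by rw [hT_apply hT]
    _ = (θ.comp g').toLinearMap.rTensor N (T n' p') := by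
        rw [AlgHom.comp_toLinearMap, LinearMap.rTensor_comp_apply]
    _ = ψ'.toLinearMap.rTensor N (T n' p') := by rw [hg']

theorem hch (hT : Compat T) (S : Type u) [CommSemiring S] [Algebra A S] (z : S ⊗[A] M) :
    ∃ y : S ⊗[A] N, ∀ (n : ℕ) (ψ : MvPolynomial (Fin n) A →ₐ[A] S)
      (p : MvPolynomial (Fin n) A ⊗[A] M),
      ψ.toLinearMap.rTensor M p = z → y = ψ.toLinearMap.rTensor N (T n p) := by
  obtain ⟨n₀, ψ₀, p₀, h₀⟩ := PolynomialLaw.exists_lift (R := A) z
  refine ⟨ψ₀.toLinearMap.rTensor N (T n₀ p₀), fun n ψ p hp => ?_⟩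
  exact w hT ψ₀ ψ p₀ p (h₀.trans hp.symm)

/-- value of the extended law -/
noncomputable def val (hT : Compat T) (S : Type u) [CommSemiring S] [Algebra A S]
    (z : S ⊗[A] M) : S ⊗[A] N :=
  Classical.choose (hch hT S z)

theorem val_spec (hT : Compat T) (S : Type u) [CommSemiring S] [Algebra A S] (z : S ⊗[A] M)
    (n : ℕ) (ψ : MvPolynomial (Fin n) A →ₐ[A] S) (p : MvPolynomial (Fin n) A ⊗[A] M)
    (hp : ψ.toLinearMap.rTensor M p = z) :
    val hT S z = ψ.toLinearMap.rTensor N (T n p) :=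
  Classical.choose_spec (hch hT S z) n ψ p hp

theorem val_mvPoly (hT : Compat T) (n : ℕ) (z : MvPolynomial (Fin n) A ⊗[A] M) :
    val hT (MvPolynomial (Fin n) A) z = T n z := by
  rw [val_spec hT _ z n (AlgHom.id A _) z (by simp)]
  simp

/-- the extended polynomial law -/
noncomputable def mkLaw (hT : Compat T) : M →ₚₗ[A] N where
  toFun' S _ _ z := val hT S z
  isCompat' := by
    intro S _ _ S' _ _ φ
    funext z
    obtain ⟨n, ψ, p, hp⟩ := PolynomialLaw.exists_lift (R := A) z
    show φ.toLinearMap.rTensor N (val hT S z) = val hT S' (φ.toLinearMap.rTensor M z)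
    rw [val_spec hT S z n ψ p hp, val_spec hT S' _ n (φ.comp ψ) p
      (by rw [AlgHom.comp_toLinearMap, LinearMap.rTensor_comp_apply, hp]),
      AlgHom.comp_toLinearMap, LinearMap.rTensor_comp_apply]

theorem mkLaw_toFun' (hT : Compat T) (n : ℕ) :
    (mkLaw hT).toFun' (MvPolynomial (Fin n) A) = T n := by
  funext z
  exact val_mvPoly hT n z

theorem law_ext (F G : M →ₚₗ[A] N)
    (hFG : ∀ n, F.toFun' (MvPolynomial (Fin n) A) = G.toFun' (MvPolynomial (Fin n) A)) :
    F = G := by
  ext S _ _ z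
  obtain ⟨n, ψ, p, hp⟩ := PolynomialLaw.exists_lift (R := A) z
  have e1 := PolynomialLaw.isCompat_apply' (f := F) ψ p
  have e2 := PolynomialLaw.isCompat_apply' (f := G) ψ p
  rw [hp] at e1 e2
  rw [← e1, ← e2, hFG n]

end Helper1.PolyLawRestrict
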