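import Mathlib
import Groth.Agent.S2057

/-! Rings in which every proper finitely generated ideal has a nonzero annihilator:
injective maps from finite free modules to projective modules split, and injective maps of
projective modules satisfy the equational criterion for universal injectivity. -/

universe u
namespace Helper1.ProjSplit

theorem exists_dual_one {R : Type u} [CommRing R]
    (hP : ∀ I : Ideal R, I.FG → I ≠ ⊤ → I.annihilator ≠ ⊥)
    {M : Type u} [AddCommGroup M] [Module R M] [Module.Projective R M] (v : M)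
    (hv : ∀ c : R, c • v = 0 → c = 0) : ∃ lam : M →ₗ[R] R, lam v = 1 := by
  classical
  obtain ⟨s, hs⟩ := Module.projective_def'.mp (inferInstance : Module.Projective R M)
  have hs' : ∀ x : M, Finsupp.linearCombination R id (s x) = x :=
    fun x => LinearMap.congr_fun hs x
  obtain ⟨w, hw⟩ : ∃ w : M →₀ R, w = s v := ⟨_, rfl⟩
  obtain ⟨I, hI⟩ : ∃ I : Ideal R,
      I = Submodule.span R ((fun m => w m) '' (w.support : Set M)) := ⟨_, rfl⟩
  have hIfg : I.FG := by
    rw [hI]; exact Submodule.fg_span ((w.support.finite_toSet).image _)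
  have hwI : ∀ m, w m ∈ I := by
    intro m
    by_cases hm : m ∈ w.support
    · rw [hI]; exact Submodule.subset_span ⟨m, hm, rfl⟩
    · rw [Finsupp.notMem_support_iff.mp hm]; exact I.zero_mem
  have hItop : I = ⊤ := by
    by_contra hne
    obtain ⟨c, hcI, hc0⟩ := Submodule.exists_mem_ne_zero_of_ne_bot (hP I hIfg hne)
    have hcw : c • w = 0 := by
      ext m
      rw [Finsupp.smul_apply, Finsupp.zero_apply]
      exact Submodule.mem_annihilator.mp hcI (w m) (hwI m)
    have hcv : c • v = 0 := by
      rw [← hs' (c • v), map_smul, ← hw, hcw, map_zero]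
    exact hc0 (hv c hcv)
  have h1 : (1 : R) ∈ Submodule.span R ((fun m => w m) '' (w.support : Set M)) := by
    rw [← hI, hItop]; exact Submodule.mem_top
  obtain ⟨l, hl, hl1⟩ := (Finsupp.mem_span_image_iff_linearCombination R).mp h1
  refine ⟨(Finsupp.linearCombination R (fun m => l m)) ∘ₗ s, ?_⟩
  rw [LinearMap.comp_apply, ← hw, Finsupp.linearCombination_apply]
  rw [Finsupp.linearCombination_apply] at hl1
  have hsub : l.support ⊆ w.support := by
    intro m hm
    exact Finset.mem_coe.mp ((Finsupp.mem_supported R l).mp hl (Finset.mem_coe.mpr hm))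
  rw [Finsupp.sum_of_support_subset l hsub (fun i a => a • w i) (fun i _ => zero_smul R (w i))] at hl1
  rw [← hl1, Finsupp.sum]
  refine Finset.sum_congr rfl fun m _ => ?_
  simp only [smul_eq_mul]
  exact mul_comm _ _

theorem exists_dual_family {R : Type u} [CommRing R]
    (hP : ∀ I : Ideal R, I.FG → I ≠ ⊤ → I.annihilator ≠ ⊥) :
    ∀ (n : ℕ) (M : Type u) [AddCommGroup M] [Module R M] [Module.Projective R M]
      (v : Fin n → M), (∀ c : Fin n → R, ∑ k, c k • v k = 0 → c = 0) →
      ∃ lam : Fin n → (M →ₗ[R] R), ∀ k l, lam k (v l) = if k = l then 1 else 0 := by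
  intro n
  induction n with
  | zero =>
    intro M _ _ _ v _
    exact ⟨fun k => k.elim0, fun k => k.elim0⟩
  | succ n ih =>
    intro M _ _ _ v hv
    have hv0 : ∀ c : R, c • v 0 = 0 → c = 0 := by
      intro c hc
      have h := hv (Pi.single 0 c) (by
        rw [Finset.sum_eq_single 0]
        · rw [Pi.single_eq_same]; exact hc
        · intro k _ hk; rw [Pi.single_eq_of_ne hk, zero_smul]
        · intro h; exact absurd (Finset.mem_univ _) h)
      have h' := congrFun h 0
      rwa [Pi.single_eq_same] at h'
    obtain ⟨lam0, hlam0⟩ := exists_dual_one hP (v 0) hv0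
    obtain ⟨p, hp⟩ : ∃ p : M →ₗ[R] ↥(LinearMap.ker lam0),
        ∀ x, (p x : M) = x - lam0 x • v 0 := by
      refine ⟨LinearMap.codRestrict (LinearMap.ker lam0)
        (LinearMap.id - (LinearMap.toSpanSingleton R M (v 0)) ∘ₗ lam0) ?_, fun x => ?_⟩
      · intro x
        rw [LinearMap.mem_ker, LinearMap.sub_apply, LinearMap.id_apply, LinearMap.comp_apply,
          LinearMap.toSpanSingleton_apply, map_sub, map_smul, hlam0, smul_eq_mul, mul_one,
          sub_self]
      · simp [LinearMap.toSpanSingleton_apply]
    have hproj : Module.Projective R ↥(LinearMap.ker lam0) :=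
      Module.Projective.of_split (LinearMap.ker lam0).subtype p (by
        apply LinearMap.ext
        intro x
        apply Subtype.ext
        rw [LinearMap.comp_apply, LinearMap.id_apply, Submodule.subtype_apply, hp,
          LinearMap.mem_ker.mp x.2, zero_smul, sub_zero])
    have hv' : ∀ c : Fin n → R, ∑ k, c k • p (v k.succ) = 0 → c = 0 := by
      intro c hc
      have h1 : ∑ k, c k • (p (v k.succ) : M) = 0 := by
        have h0 := congrArg Subtype.val hc
        simpa only [Submodule.coe_sum, Submodule.coe_smul, Submodule.coe_zero] using h0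
      simp only [hp, smul_sub, Finset.sum_sub_distrib, smul_smul] at h1
      have h2 := hv (Fin.cons (-(∑ k, c k * lam0 (v k.succ))) c) (by
        rw [Fin.sum_univ_succ]
        simp only [Fin.cons_zero, Fin.cons_succ]
        rw [neg_smul, Finset.sum_smul, neg_add_eq_sub]
        exact h1)
      funext k
      have h3 := congrFun h2 k.succ
      simpa only [Fin.cons_succ, Pi.zero_apply] using h3
    obtain ⟨lam', hlam'⟩ := ih ↥(LinearMap.ker lam0) (fun k => p (v k.succ)) hv'
    have hpv0 : p (v 0) = 0 := by
      apply Subtype.ext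
      rw [hp, hlam0, one_smul, sub_self, Submodule.coe_zero]
    refine ⟨Fin.cons (lam0 - ∑ k, lam0 (v k.succ) • (lam' k ∘ₗ p)) (fun k => lam' k ∘ₗ p), ?_⟩
    intro k l
    refine Fin.cases ?_ (fun k' => ?_) k <;> refine Fin.cases ?_ (fun l' => ?_) l
    · rw [Fin.cons_zero, if_pos rfl, LinearMap.sub_apply, LinearMap.sum_apply]
      simp only [LinearMap.smul_apply, LinearMap.comp_apply, hpv0, map_zero, smul_zero,
        Finset.sum_const_zero, sub_zero]
      exact hlam0
    · rw [Fin.cons_zero, if_neg (Fin.succ_ne_zero l').symm, LinearMap.sub_apply,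
        LinearMap.sum_apply]
      simp only [LinearMap.smul_apply, LinearMap.comp_apply, hlam', smul_eq_mul, mul_ite,
        mul_one, mul_zero, Finset.sum_ite_eq', Finset.mem_univ, if_true, sub_self]
    · rw [Fin.cons_succ, LinearMap.comp_apply, hpv0, map_zero, if_neg (Fin.succ_ne_zero k')]
    · rw [Fin.cons_succ, LinearMap.comp_apply, hlam']
      simp only [Fin.succ_inj]

theorem ec_of_injective {R : Type u} [CommRing R]
    (hP : ∀ I : Ideal R, I.FG → I ≠ ⊤ → I.annihilator ≠ ⊥)
    (N M : Type u) [AddCommGroup N] [Module R N] [Module.Projective R N] [AddCommGroup M]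
    [Module R M] [Module.Projective R M] (u : N →ₗ[R] M) (hu : Function.Injective u) :
    ∀ (n m : ℕ) (x : Fin n → N) (y : Fin m → M) (a : Fin n → Fin m → R),
      (∀ i, u (x i) = ∑ j, a i j • y j) → ∃ z : Fin m → N, ∀ i, x i = ∑ j, a i j • z j := by
  classical
  intro n m x y a hxy
  obtain ⟨s, hs⟩ := Module.projective_def'.mp (inferInstance : Module.Projective R N)
  have hs' : ∀ x : N, Finsupp.linearCombination R id (s x) = x :=
    fun x => LinearMap.congr_fun hs x
  obtain ⟨ut, hut⟩ : ∃ ut : (N →₀ R) →ₗ[R] M × (N →₀ R),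
      ∀ f, ut f = (u (Finsupp.linearCombination R id f),
        f - s (Finsupp.linearCombination R id f)) :=
    ⟨LinearMap.prod (u ∘ₗ Finsupp.linearCombination R id)
      (LinearMap.id - s ∘ₗ Finsupp.linearCombination R id), fun f => rfl⟩
  have hut_inj : Function.Injective ut := by
    rw [injective_iff_map_eq_zero]
    intro f hf
    rw [hut, Prod.mk_eq_zero] at hf
    have h1 : Finsupp.linearCombination R id f = 0 := hu (hf.1.trans (map_zero u).symm)
    have h2 := hf.2
    rwa [h1, map_zero, sub_zero] at h2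
  obtain ⟨S, hS⟩ : ∃ S : Finset N, ∀ i, (s (x i)).support ⊆ S :=
    ⟨Finset.univ.biUnion fun i => (s (x i)).support, fun i =>
      Finset.subset_biUnion_of_mem (fun i => (s (x i)).support) (Finset.mem_univ i)⟩
  obtain ⟨t, ⟨e⟩⟩ : ∃ t : ℕ, Nonempty (Fin t ≃ ↥S) := ⟨S.card, ⟨(S.equivFin).symm⟩⟩
  obtain ⟨ι, hι⟩ : ∃ ι : (Fin t → R) →ₗ[R] (N →₀ R),
      ∀ c, ι c = ∑ k, c k • Finsupp.single (e k : N) (1 : R) :=
    ⟨Fintype.linearCombination R (fun k => Finsupp.single (e k : N) (1 : R)), fun c => rfl⟩
  have hι_apply : ∀ (c : Fin t → R) (k : Fin t), ι c (e k : N) = c k := by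
    intro c k
    rw [hι, Finsupp.finsetSum_apply, Finset.sum_eq_single k]
    · rw [Finsupp.smul_apply, Finsupp.single_eq_same, smul_eq_mul, mul_one]
    · intro k' _ hk'
      rw [Finsupp.smul_apply, Finsupp.single_apply, if_neg, smul_zero]
      intro h
      exact hk' (e.injective (Subtype.ext h))
    · intro h; exact absurd (Finset.mem_univ _) h
  have hι_inj : Function.Injective ι := by
    rw [injective_iff_map_eq_zero]
    intro c hc
    funext k
    have h := hι_apply c k
    rw [hc, Finsupp.zero_apply] at h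
    exact h.symm
  have hdec : ∀ f : N →₀ R, f.support ⊆ S → f = ι (fun k => f (e k : N)) := by
    intro f hf
    rw [hι]
    calc f = f.sum Finsupp.single := (Finsupp.sum_single f).symm
      _ = ∑ b ∈ S, Finsupp.single b (f b) :=
          Finsupp.sum_of_support_subset f hf _ (fun b _ => Finsupp.single_zero b)
      _ = ∑ b : ↥S, Finsupp.single (b : N) (f b) :=
          (Finset.sum_coe_sort S (fun b => Finsupp.single b (f b))).symm
      _ = ∑ k, Finsupp.single (e k : N) (f (e k)) :=
          (Equiv.sum_comp e (fun b : ↥S => Finsupp.single (b : N) (f b))).symm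
      _ = ∑ k, f (e k : N) • Finsupp.single (e k : N) (1 : R) :=
          Finset.sum_congr rfl fun k _ => (Finsupp.smul_single_one _ _).symm
  have hv : ∀ c : Fin t → R,
      ∑ k, c k • ut (Finsupp.single (e k : N) 1) = 0 → c = 0 := by
    intro c hc
    have h1 : ut (ι c) = 0 := by
      rw [hι, map_sum, ← hc]
      exact Finset.sum_congr rfl fun k _ => map_smul _ _ _
    exact hι_inj ((hut_inj (h1.trans (map_zero ut).symm)).trans (map_zero ι).symm)
  obtain ⟨lam, hlam⟩ := exists_dual_family hP t (M × (N →₀ R))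
    (fun k => ut (Finsupp.single (e k : N) 1)) hv
  have hlamι : ∀ (c : Fin t → R) (l : Fin t), lam l (ut (ι c)) = c l := by
    intro c l
    rw [hι, map_sum, map_sum]
    simp only [map_smul, hlam, smul_eq_mul, mul_ite, mul_one, mul_zero]
    rw [Finset.sum_ite_eq, if_pos (Finset.mem_univ l)]
  obtain ⟨cx, hcx⟩ : ∃ cx : Fin n → Fin t → R, ∀ i, s (x i) = ι (cx i) :=
    ⟨fun i k => s (x i) (e k : N), fun i => hdec (s (x i)) (hS i)⟩
  have hutx : ∀ i, ut (s (x i)) = ∑ j, a i j • ((y j, 0) : M × (N →₀ R)) := by
    intro i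
    rw [hut, hs' (x i), sub_self, hxy i]
    apply Prod.ext
    · simp [Prod.fst_sum]
    · simp [Prod.snd_sum]
  refine ⟨fun j => Finsupp.linearCombination R id
    (ι (fun l => lam l ((y j, 0) : M × (N →₀ R)))), fun i => ?_⟩
  have h1 : cx i = fun l => ∑ j, a i j * lam l ((y j, 0) : M × (N →₀ R)) := by
    funext l
    rw [← hlamι (cx i) l, ← hcx i, hutx i, map_sum]
    exact Finset.sum_congr rfl fun j _ => by rw [map_smul, smul_eq_mul]
  calc x i = Finsupp.linearCombination R id (s (x i)) := (hs' (x i)).symm
    _ = Finsupp.linearCombination R id (ι (cx i)) := by rw [hcx i]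
    _ = Finsupp.linearCombination R id
          (ι (∑ j, a i j • fun l => lam l ((y j, 0) : M × (N →₀ R)))) := by
        congr 2
        rw [h1]
        funext l
        simp only [Finset.sum_apply, Pi.smul_apply, smul_eq_mul]
    _ = ∑ j, a i j • Finsupp.linearCombination R id
          (ι (fun l => lam l ((y j, 0) : M × (N →₀ R)))) := by
        rw [map_sum, map_sum]
        exact Finset.sum_congr rfl fun j _ => by rw [map_smul, map_smul]

end Helper1.ProjSplit
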