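import Mathlib
import Groth.Agent.S2057

/-! Pure covers: every module is a pure quotient of a direct sum of finitely presented modules. -/

universe u

namespace Helper1.PureCover
open TensorProduct

/-- index set: finitely presented quotients of `R^n` with a map to `M` -/
abbrev Idx (R M : Type u) [CommRing R] [AddCommGroup M] [Module R M] : Type u :=
  Σ n : ℕ, Σ K : {K : Submodule R (Fin n → R) // K.FG}, ((Fin n → R) ⧸ K.1 →ₗ[R] M)

abbrev Qf (R M : Type u) [CommRing R] [AddCommGroup M] [Module R M] (i : Idx R M) : Type u :=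
  (Fin i.1 → R) ⧸ i.2.1.1

theorem fp (R M : Type u) [CommRing R] [AddCommGroup M] [Module R M] (i : Idx R M) :
    Module.FinitePresentation R (Qf R M i) := by
  refine Module.finitePresentation_of_surjective i.2.1.1.mkQ i.2.1.1.mkQ_surjective ?_
  rw [Submodule.ker_mkQ]
  exact i.2.1.2

theorem key (R M : Type u) [CommRing R] [AddCommGroup M] [Module R M] :
    ∀ (m : ℕ) (rows : Set (Fin m → R)) (_ : rows.Finite) (v : Fin m → M)
      (_ : ∀ r ∈ rows, ∑ j, r j • v j = 0),
      ∃ (i : Idx R M) (e : Fin m → Qf R M i), (∀ j, i.2.2 (e j) = v j) ∧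
        ∀ r ∈ rows, ∑ j, r j • e j = 0 := by
  classical
  intro m rows hrows v hv
  have hle : Submodule.span R rows ≤ LinearMap.ker (Fintype.linearCombination R v) := by
    rw [Submodule.span_le]
    intro r hr
    rw [SetLike.mem_coe, LinearMap.mem_ker, Fintype.linearCombination_apply]
    exact hv r hr
  refine ⟨⟨m, ⟨Submodule.span R rows, Submodule.fg_span hrows⟩,
    (Submodule.span R rows).liftQ (Fintype.linearCombination R v) hle⟩,
    fun j => (Submodule.span R rows).mkQ (Pi.single j 1), ?_, ?_⟩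
  · intro j
    show (Submodule.span R rows).liftQ (Fintype.linearCombination R v) hle
      ((Submodule.span R rows).mkQ (Pi.single j 1)) = v j
    rw [Submodule.mkQ_apply, Submodule.liftQ_apply, Fintype.linearCombination_apply_single,
      one_smul]
  · intro r hr
    have hsum : ∑ j, r j • (Pi.single j (1 : R) : Fin m → R) = r := by
      funext j'
      simp [Finset.sum_apply, Pi.single_apply]
    calc ∑ j, r j • (Submodule.span R rows).mkQ (Pi.single j (1 : R))
        = (Submodule.span R rows).mkQ (∑ j, r j • (Pi.single j (1 : R) : Fin m → R)) := by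
          rw [map_sum]
          exact Finset.sum_congr rfl fun j _ => (map_smul _ _ _).symm
      _ = (Submodule.span R rows).mkQ r := by rw [hsum]
      _ = 0 := (Submodule.Quotient.mk_eq_zero _).mpr (Submodule.subset_span hr)

theorem aux (R : Type u) [CommRing R] (M : Type u) [AddCommGroup M] [Module R M]
    (ι : Type u) [DecidableEq ι] (Q : ι → Type u) [∀ i, AddCommGroup (Q i)] [∀ i, Module R (Q i)]
    (φ : ∀ i, Q i →ₗ[R] M)
    (hkey : ∀ (m : ℕ) (rows : Set (Fin m → R)) (_ : rows.Finite) (v : Fin m → M)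
      (_ : ∀ r ∈ rows, ∑ j, r j • v j = 0),
      ∃ (i : ι) (e : Fin m → Q i), (∀ j, φ i (e j) = v j) ∧
        ∀ r ∈ rows, ∑ j, r j • e j = 0) :
    ∃ g : (Π₀ i, Q i) →ₗ[R] M, (∀ i q, g (DFinsupp.lsingle (R := R) i q) = φ i q) ∧ Function.Surjective g ∧
        CAlgX.UniversallyInjective R (LinearMap.ker g).subtype := by
  classical
  obtain ⟨g, hg⟩ : ∃ g : (Π₀ i, Q i) →ₗ[R] M,
      ∀ (i : ι) (q : Q i), g (DFinsupp.lsingle (R := R) i q) = φ i q :=
    ⟨DFinsupp.lsum ℕ φ, fun i q => by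
      rw [DFinsupp.lsingle_apply, DFinsupp.lsum_single]⟩
  refine ⟨g, hg, ?_, ?_⟩
  · intro x
    obtain ⟨i, e, he, -⟩ := hkey 1 ∅ Set.finite_empty (fun _ => x)
      (fun r hr => absurd hr (Set.notMem_empty r))
    exact ⟨DFinsupp.lsingle (R := R) i (e 0), by rw [hg, he 0]⟩
  · refine (Groth.Agent.S2057.result (LinearMap.ker g).subtype
      (Submodule.injective_subtype _)).mpr ?_
    intro n m x y a hxy
    have hv : ∀ r ∈ Set.range (fun i : Fin n => a i), ∑ j, r j • g (y j) = 0 := by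
      rintro _ ⟨i, rfl⟩
      have h1 : g ((LinearMap.ker g).subtype (x i)) = 0 := LinearMap.mem_ker.mp (x i).2
      rw [hxy i, map_sum] at h1
      rw [← h1]
      exact Finset.sum_congr rfl fun j _ => (map_smul _ _ _).symm
    obtain ⟨i₀, e, he, hrel⟩ := hkey m _ (Set.finite_range _) (fun j => g (y j)) hv
    have hz : ∀ j, y j - DFinsupp.lsingle (R := R) i₀ (e j) ∈ LinearMap.ker g := by
      intro j
      rw [LinearMap.mem_ker, map_sub, hg, he j, sub_self]
    refine ⟨fun j => ⟨y j - DFinsupp.lsingle (R := R) i₀ (e j), hz j⟩, fun i => ?_⟩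
    apply Subtype.ext
    have h2 : ∑ j, a i j • DFinsupp.lsingle (R := R) i₀ (e j) = (0 : Π₀ i, Q i) := by
      calc ∑ j, a i j • DFinsupp.lsingle (R := R) i₀ (e j)
          = DFinsupp.lsingle (R := R) i₀ (∑ j, a i j • e j) := by
            rw [map_sum]
            exact Finset.sum_congr rfl fun j _ => (map_smul _ _ _).symm
        _ = 0 := by rw [hrel (a i) ⟨i, rfl⟩, map_zero]
    have h3 := hxy i
    rw [Submodule.subtype_apply] at h3
    rw [h3, Submodule.coe_sum]
    simp only [Submodule.coe_smul, smul_sub, Finset.sum_sub_distrib, h2, sub_zero]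

theorem summand_of_pp (R : Type u) [CommRing R] (M : Type u) [AddCommGroup M] [Module R M]
    (ι : Type u) [DecidableEq ι] (Q : ι → Type u) [∀ i, AddCommGroup (Q i)] [∀ i, Module R (Q i)]
    (φ : ∀ i, Q i →ₗ[R] M)
    (hkey : ∀ (m : ℕ) (rows : Set (Fin m → R)) (_ : rows.Finite) (v : Fin m → M)
      (_ : ∀ r ∈ rows, ∑ j, r j • v j = 0),
      ∃ (i : ι) (e : Fin m → Q i), (∀ j, φ i (e j) = v j) ∧
        ∀ r ∈ rows, ∑ j, r j • e j = 0)
    (hP : ∀ ⦃L N : Type u⦄ [AddCommGroup L] [Module R L] [AddCommGroup N] [Module R N]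
      (g : L →ₗ[R] N), Function.Surjective g →
      CAlgX.UniversallyInjective R (LinearMap.ker g).subtype →
      ∀ φ : M →ₗ[R] N, ∃ ψ : M →ₗ[R] L, g ∘ₗ ψ = φ) :
    ∃ (s : M →ₗ[R] (Π₀ i, Q i)) (r : (Π₀ i, Q i) →ₗ[R] M), r ∘ₗ s = LinearMap.id := by
  obtain ⟨g, -, hsurj, hui⟩ := aux R M ι Q φ hkey
  obtain ⟨ψ, hψ⟩ := hP g hsurj hui LinearMap.id
  exact ⟨ψ, g, hψ⟩

theorem fp_lift (R : Type u) [CommRing R] {Q L N : Type u} [AddCommGroup Q] [Module R Q]
    [AddCommGroup L] [Module R L] [AddCommGroup N] [Module R N] [Module.FinitePresentation R Q]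
    (g : L →ₗ[R] N) (hg : Function.Surjective g)
    (hui : CAlgX.UniversallyInjective R (LinearMap.ker g).subtype) (χ : Q →ₗ[R] N) :
    ∃ ψ : Q →ₗ[R] L, g ∘ₗ ψ = χ := by
  classical
  obtain ⟨n, K, e, hK⟩ := Module.FinitePresentation.exists_fin R Q
  obtain ⟨t, ρ, hρ⟩ := Submodule.fg_iff_exists_fin_generating_family.mp hK
  have hEC := (Groth.Agent.S2057.result (LinearMap.ker g).subtype
    (Submodule.injective_subtype _)).mp hui
  obtain ⟨χ', hχ'⟩ : ∃ χ' : ((Fin n → R) ⧸ K) →ₗ[R] N, χ' = χ ∘ₗ e.symm.toLinearMap :=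
    ⟨_, rfl⟩
  have hsum : ∀ b : Fin n → R, ∑ j, b j • (Pi.single j (1 : R) : Fin n → R) = b := by
    intro b
    funext j'
    simp [Finset.sum_apply, Pi.single_apply]
  choose l hl using fun j : Fin n => hg (χ' (K.mkQ (Pi.single j 1)))
  have hgl : ∀ c : Fin n → R, g (∑ j, c j • l j) = χ' (K.mkQ c) := by
    intro c
    calc g (∑ j, c j • l j) = ∑ j, c j • χ' (K.mkQ (Pi.single j 1)) := by
          rw [map_sum]
          exact Finset.sum_congr rfl fun j _ => by rw [map_smul, hl]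
      _ = χ' (K.mkQ (∑ j, c j • (Pi.single j (1 : R) : Fin n → R))) := by
          rw [map_sum, map_sum]
          exact Finset.sum_congr rfl fun j _ => by rw [map_smul, map_smul]
      _ = χ' (K.mkQ c) := by rw [hsum c]
  have hρK : ∀ k, ρ k ∈ K := fun k => by rw [← hρ]; exact Submodule.subset_span ⟨k, rfl⟩
  have hu : ∀ k, ∑ j, ρ k j • l j ∈ LinearMap.ker g := by
    intro k
    have h0 : K.mkQ (ρ k) = 0 := (Submodule.Quotient.mk_eq_zero K).mpr (hρK k)
    rw [LinearMap.mem_ker, hgl, h0, map_zero]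
  obtain ⟨z, hz⟩ := hEC t n (fun k => ⟨∑ j, ρ k j • l j, hu k⟩) l (fun k j => ρ k j)
    (fun k => rfl)
  have hz' : ∀ k, ∑ j, ρ k j • l j = ∑ j, ρ k j • (z j : L) := by
    intro k
    have h := congrArg Subtype.val (hz k)
    simpa only [Submodule.coe_sum, Submodule.coe_smul] using h
  obtain ⟨l', hl'⟩ : ∃ l' : Fin n → L, l' = fun j => l j - (z j : L) := ⟨_, rfl⟩
  have hgl' : ∀ c : Fin n → R, g (∑ j, c j • l' j) = χ' (K.mkQ c) := by
    intro c
    have h1 : ∑ j, c j • l' j
        = ∑ j, c j • l j - ((∑ j, c j • z j : ↥(LinearMap.ker g)) : L) := by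
      rw [hl', Submodule.coe_sum]
      simp only [smul_sub, Finset.sum_sub_distrib, Submodule.coe_smul]
    rw [h1, map_sub, hgl, LinearMap.mem_ker.mp (Submodule.coe_mem _), sub_zero]
  have hle : K ≤ LinearMap.ker (Fintype.linearCombination R l') := by
    rw [← hρ, Submodule.span_le]
    rintro _ ⟨k, rfl⟩
    rw [SetLike.mem_coe, LinearMap.mem_ker, Fintype.linearCombination_apply, hl']
    simp only [smul_sub, Finset.sum_sub_distrib]
    rw [hz' k, sub_self]
  refine ⟨(K.liftQ (Fintype.linearCombination R l') hle) ∘ₗ e.toLinearMap, ?_⟩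
  ext q
  rw [LinearMap.comp_apply, LinearMap.comp_apply, LinearEquiv.coe_coe]
  obtain ⟨c, hc⟩ := K.mkQ_surjective (e q)
  rw [← hc, Submodule.mkQ_apply, Submodule.liftQ_apply, Fintype.linearCombination_apply,
    hgl' c, hχ', hc, LinearMap.comp_apply, LinearEquiv.coe_coe, LinearEquiv.symm_apply_apply]

theorem pp_of_summand (R : Type u) [CommRing R] (P : Type u) [AddCommGroup P] [Module R P]
    (ι : Type u) (Q : ι → Type u) [iA : ∀ i, AddCommGroup (Q i)] [iM : ∀ i, Module R (Q i)]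
    (hfp : ∀ i, Module.FinitePresentation R (Q i))
    (s : P →ₗ[R] (Π₀ i, Q i)) (r : (Π₀ i, Q i) →ₗ[R] P) (hrs : r ∘ₗ s = LinearMap.id) :
    ∀ ⦃L N : Type u⦄ [AddCommGroup L] [Module R L] [AddCommGroup N] [Module R N]
      (g : L →ₗ[R] N), Function.Surjective g →
      CAlgX.UniversallyInjective R (LinearMap.ker g).subtype →
      ∀ φ : P →ₗ[R] N, ∃ ψ : P →ₗ[R] L, g ∘ₗ ψ = φ := by
  intro L N _ _ _ _ g hg hui φ
  classical
  have : ∀ i, Module.FinitePresentation R (Q i) := hfp
  choose ψi hψi using fun i => fp_lift R g hg hui (φ ∘ₗ r ∘ₗ DFinsupp.lsingle (R := R) i)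
  refine ⟨(DFinsupp.lsum ℕ ψi) ∘ₗ s, ?_⟩
  have h1 : g ∘ₗ (DFinsupp.lsum ℕ ψi) = φ ∘ₗ r := by
    apply DFinsupp.lhom_ext
    intro i x
    rw [LinearMap.comp_apply, DFinsupp.lsum_single, LinearMap.comp_apply]
    have h := LinearMap.congr_fun (hψi i) x
    rw [LinearMap.comp_apply, LinearMap.comp_apply, LinearMap.comp_apply,
      DFinsupp.lsingle_apply] at h
    exact h
  rw [← LinearMap.comp_assoc, h1, LinearMap.comp_assoc, hrs, LinearMap.comp_id]

end Helper1.PureCover
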