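import Mathlib

/-! Quasi-constructible sets (finite unions of locally closed sets), locally quasi-constructible
sets and the very-dense criterion. -/

namespace Helper1.QCons
variable {X : Type*} [TopologicalSpace X]

/-- finite union of locally closed sets -/
def QC (Z : Set X) : Prop :=
  ∃ T : Set (Set X), T.Finite ∧ (∀ t ∈ T, IsLocallyClosed t) ∧ Z = ⋃₀ T

/-- locally a finite union of locally closed sets -/
def LQC (Z : Set X) : Prop :=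
  ∀ x : X, ∃ U : Set X, IsOpen U ∧ x ∈ U ∧
    ∃ T : Set (Set X), T.Finite ∧ (∀ t ∈ T, IsLocallyClosed t) ∧ U ∩ Z = ⋃₀ T

theorem QC.empty : QC (∅ : Set X) :=
  ⟨∅, Set.finite_empty, fun t ht => absurd ht (Set.notMem_empty t), Set.sUnion_empty.symm⟩

theorem QC.of_lc {Z : Set X} (h : IsLocallyClosed Z) : QC Z :=
  ⟨{Z}, Set.finite_singleton Z, fun t ht => by rw [Set.mem_singleton_iff.mp ht]; exact h,
    (Set.sUnion_singleton Z).symm⟩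

theorem QC.union {A B : Set X} (hA : QC A) (hB : QC B) : QC (A ∪ B) := by
  obtain ⟨TA, hfA, hlA, rfl⟩ := hA
  obtain ⟨TB, hfB, hlB, rfl⟩ := hB
  refine ⟨TA ∪ TB, hfA.union hfB, ?_, (Set.sUnion_union TA TB).symm⟩
  intro t ht
  rcases ht with ht | ht
  · exact hlA t ht
  · exact hlB t ht

theorem QC.inter {A B : Set X} (hA : QC A) (hB : QC B) : QC (A ∩ B) := by
  obtain ⟨TA, hfA, hlA, rfl⟩ := hA
  obtain ⟨TB, hfB, hlB, rfl⟩ := hB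
  refine ⟨Set.image2 (fun a b => a ∩ b) TA TB, hfA.image2 _ hfB, ?_, ?_⟩
  · intro t ht
    obtain ⟨a, ha, b, hb, rfl⟩ := Set.mem_image2.mp ht
    exact (hlA a ha).inter (hlB b hb)
  · ext x
    constructor
    · rintro ⟨h1, h2⟩
      obtain ⟨a, ha, hxa⟩ := Set.mem_sUnion.mp h1
      obtain ⟨b, hb, hxb⟩ := Set.mem_sUnion.mp h2
      exact Set.mem_sUnion.mpr ⟨a ∩ b, Set.mem_image2.mpr ⟨a, ha, b, hb, rfl⟩, ⟨hxa, hxb⟩⟩
    · intro h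
      obtain ⟨t, ht, hxt⟩ := Set.mem_sUnion.mp h
      obtain ⟨a, ha, b, hb, rfl⟩ := Set.mem_image2.mp ht
      exact ⟨Set.mem_sUnion.mpr ⟨a, ha, hxt.1⟩, Set.mem_sUnion.mpr ⟨b, hb, hxt.2⟩⟩

theorem QC.compl_lc {a : Set X} (ha : IsLocallyClosed a) : QC aᶜ := by
  obtain ⟨U, C, hU, hC, rfl⟩ := ha
  rw [Set.compl_inter]
  exact QC.union (QC.of_lc hU.isClosed_compl.isLocallyClosed)
    (QC.of_lc hC.isOpen_compl.isLocallyClosed)

theorem QC.compl_sUnion {T : Set (Set X)} (hT : T.Finite) :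
    (∀ t ∈ T, IsLocallyClosed t) → QC (⋃₀ T)ᶜ := by
  induction T, hT using Set.Finite.induction_on with
  | empty =>
    intro _
    rw [Set.sUnion_empty, Set.compl_empty]
    exact QC.of_lc isOpen_univ.isLocallyClosed
  | @insert a s ha hs ih =>
    intro h
    rw [Set.sUnion_insert, Set.compl_union]
    exact QC.inter (QC.compl_lc (h a (Set.mem_insert a s)))
      (ih fun t ht => h t (Set.mem_insert_of_mem a ht))

theorem QC.compl {A : Set X} (hA : QC A) : QC Aᶜ := by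
  obtain ⟨T, hf, hl, rfl⟩ := hA
  exact QC.compl_sUnion hf hl

theorem QC.diff {A B : Set X} (hA : QC A) (hB : QC B) : QC (A \ B) := by
  rw [Set.sdiff_eq]
  exact hA.inter hB.compl

theorem QC.lqc {Z : Set X} (h : QC Z) : LQC Z := by
  intro x
  refine ⟨Set.univ, isOpen_univ, Set.mem_univ x, ?_⟩
  show QC (Set.univ ∩ Z)
  rw [Set.univ_inter]
  exact h

theorem LQC.open_inter {V Z : Set X} (hV : IsOpen V) (hZ : LQC Z) : LQC (V ∩ Z) := by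
  intro x
  obtain ⟨U, hU, hxU, hQ⟩ := hZ x
  refine ⟨U, hU, hxU, ?_⟩
  show QC (U ∩ (V ∩ Z))
  rw [Set.inter_left_comm]
  exact QC.inter (QC.of_lc hV.isLocallyClosed) hQ

theorem LQC.diff {Z Z' : Set X} (hZ : LQC Z) (hZ' : LQC Z') : LQC (Z \ Z') := by
  intro x
  obtain ⟨U, hU, hxU, hQ⟩ := hZ x
  obtain ⟨U', hU', hxU', hQ'⟩ := hZ' x
  refine ⟨U ∩ U', hU.inter hU', ⟨hxU, hxU'⟩, ?_⟩
  show QC ((U ∩ U') ∩ (Z \ Z'))
  have hrw : (U ∩ U') ∩ (Z \ Z') = ((U ∩ U') ∩ (U ∩ Z)) \ (U' ∩ Z') := by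
    ext y
    simp only [Set.mem_inter_iff, Set.mem_sdiff]
    tauto
  rw [hrw]
  exact QC.diff (QC.inter (QC.of_lc (hU.inter hU').isLocallyClosed) hQ) hQ'

theorem one_two {X₀ : Set X}
    (h1 : ∀ Z : Set X, IsLocallyClosed Z → Z.Nonempty → (Z ∩ X₀).Nonempty) :
    ∀ Z : Set X, LQC Z → Z.Nonempty → (Z ∩ X₀).Nonempty := by
  rintro Z hZ ⟨x, hx⟩
  obtain ⟨U, hU, hxU, T, hT, hl, hUZ⟩ := hZ x
  have hx' : x ∈ ⋃₀ T := by rw [← hUZ]; exact ⟨hxU, hx⟩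
  obtain ⟨t, ht, hxt⟩ := Set.mem_sUnion.mp hx'
  obtain ⟨y, hyt, hy0⟩ := h1 t (hl t ht) ⟨x, hxt⟩
  have hyUZ : y ∈ U ∩ Z := by rw [hUZ]; exact Set.mem_sUnion.mpr ⟨t, ht, hyt⟩
  exact ⟨y, hyUZ.2, hy0⟩

theorem two_three {X₀ : Set X}
    (h2 : ∀ Z : Set X, LQC Z → Z.Nonempty → (Z ∩ X₀).Nonempty) :
    ∀ Z : Set X, LQC Z → Z ⊆ closure (Z ∩ X₀) := by
  intro Z hZ x hx
  rw [mem_closure_iff]
  intro V hV hxV
  obtain ⟨y, hy, hy0⟩ := h2 (V ∩ Z) (hZ.open_inter hV) ⟨x, hxV, hx⟩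
  exact ⟨y, hy.1, hy.2, hy0⟩

theorem three_five {X₀ : Set X} (h3 : ∀ Z : Set X, LQC Z → Z ⊆ closure (Z ∩ X₀)) :
    ∀ Z Z' : Set X, LQC Z → LQC Z' → Z ∩ X₀ = Z' ∩ X₀ → Z = Z' := by
  have key : ∀ Z Z' : Set X, LQC Z → LQC Z' → Z ∩ X₀ = Z' ∩ X₀ → Z ⊆ Z' := by
    intro Z Z' hZ hZ' he x hx
    by_contra hx'
    have hsub := h3 (Z \ Z') (hZ.diff hZ') ⟨hx, hx'⟩
    have hempty : (Z \ Z') ∩ X₀ = ∅ := by
      ext y
      simp only [Set.mem_inter_iff, Set.mem_sdiff, Set.mem_empty_iff_false, iff_false]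
      rintro ⟨⟨hyZ, hyZ'⟩, hy0⟩
      have hy' : y ∈ Z' ∩ X₀ := by rw [← he]; exact ⟨hyZ, hy0⟩
      exact hyZ' hy'.1
    rw [hempty, closure_empty] at hsub
    exact absurd hsub (Set.notMem_empty x)
  intro Z Z' hZ hZ' he
  exact Set.Subset.antisymm (key Z Z' hZ hZ' he) (key Z' Z hZ' hZ he.symm)

theorem five_four {X₀ : Set X}
    (h5 : ∀ Z Z' : Set X, LQC Z → LQC Z' → Z ∩ X₀ = Z' ∩ X₀ → Z = Z') :
    ∀ Z Z' : Set X, QC Z → QC Z' → Z ∩ X₀ = Z' ∩ X₀ → Z = Z' :=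
  fun Z Z' hZ hZ' he => h5 Z Z' hZ.lqc hZ'.lqc he

theorem four_one {X₀ : Set X}
    (h4 : ∀ Z Z' : Set X, QC Z → QC Z' → Z ∩ X₀ = Z' ∩ X₀ → Z = Z') :
    ∀ Z : Set X, IsLocallyClosed Z → Z.Nonempty → (Z ∩ X₀).Nonempty := by
  intro Z hZ hne
  by_contra hcon
  have he : Z ∩ X₀ = ∅ ∩ X₀ := by
    rw [Set.empty_inter]; exact Set.not_nonempty_iff_eq_empty.mp hcon
  have h := h4 Z ∅ (QC.of_lc hZ) QC.empty he
  rw [h] at hne
  exact Set.not_nonempty_empty hne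

theorem lift_lc {X₀ : Set X} {t : Set ↥X₀} (ht : IsLocallyClosed t) :
    ∃ t' : Set X, IsLocallyClosed t' ∧ Subtype.val ⁻¹' t' = t := by
  obtain ⟨U, C, hU, hC, rfl⟩ := ht
  obtain ⟨U', hU', rfl⟩ := Topology.IsInducing.subtypeVal.isOpen_iff.mp hU
  obtain ⟨C', hC', rfl⟩ := Topology.IsInducing.subtypeVal.isClosed_iff.mp hC
  exact ⟨U' ∩ C', ⟨U', C', hU', hC', rfl⟩, Set.preimage_inter⟩

theorem lift_qc {X₀ : Set X} {T : Set (Set ↥X₀)} (hT : T.Finite) :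
    (∀ t ∈ T, IsLocallyClosed t) → ∃ Q : Set X, QC Q ∧ Subtype.val ⁻¹' Q = ⋃₀ T := by
  induction T, hT using Set.Finite.induction_on with
  | empty =>
    intro _
    exact ⟨∅, QC.empty, by rw [Set.preimage_empty, Set.sUnion_empty]⟩
  | @insert a s ha hs ih =>
    intro h
    obtain ⟨Q, hQ, hQe⟩ := ih fun t ht => h t (Set.mem_insert_of_mem a ht)
    obtain ⟨a', ha', hae⟩ := lift_lc (h a (Set.mem_insert a s))
    exact ⟨a' ∪ Q, QC.union (QC.of_lc ha') hQ, by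
      rw [Set.preimage_union, hae, hQe, Set.sUnion_insert]⟩

theorem extend {X₀ : Set X}
    (h1 : ∀ Z : Set X, IsLocallyClosed Z → Z.Nonempty → (Z ∩ X₀).Nonempty)
    (h4 : ∀ Z Z' : Set X, QC Z → QC Z' → Z ∩ X₀ = Z' ∩ X₀ → Z = Z')
    (Z₀ : Set ↥X₀) (hZ₀ : LQC Z₀) : ∃ Z : Set X, LQC Z ∧ Subtype.val ⁻¹' Z = Z₀ := by
  have hloc : ∀ x : ↥X₀, ∃ U Q : Set X, IsOpen U ∧ (x : X) ∈ U ∧ QC Q ∧ Q ⊆ U ∧
      Subtype.val ⁻¹' Q = (Subtype.val ⁻¹' U : Set ↥X₀) ∩ Z₀ := by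
    intro x
    obtain ⟨U₀, hU₀, hxU₀, T, hT, hl, hUZ⟩ := hZ₀ x
    obtain ⟨U, hU, rfl⟩ := Topology.IsInducing.subtypeVal.isOpen_iff.mp hU₀
    obtain ⟨Q, hQ, hQe⟩ := lift_qc hT hl
    refine ⟨U, U ∩ Q, hU, hxU₀, QC.inter (QC.of_lc hU.isLocallyClosed) hQ,
      Set.inter_subset_left, ?_⟩
    rw [Set.preimage_inter, hQe, ← hUZ, ← Set.inter_assoc, Set.inter_self]
  choose U Q hU hxU hQ hQU hQe using hloc
  have hmem : ∀ (x : ↥X₀) (w : X) (hw : w ∈ X₀),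
      w ∈ Q x ↔ (w ∈ U x ∧ (⟨w, hw⟩ : ↥X₀) ∈ Z₀) := by
    intro x w hw
    exact Set.ext_iff.mp (hQe x) ⟨w, hw⟩
  refine ⟨⋃ x, Q x, ?_, ?_⟩
  · have hcover : ∀ y : X, ∃ x : ↥X₀, y ∈ U x := by
      intro y
      by_contra hy
      have hcl : IsClosed (⋃ x, U x)ᶜ := (isOpen_iUnion hU).isClosed_compl
      have hyc : y ∈ (⋃ x, U x)ᶜ := by
        intro h
        obtain ⟨x, hx⟩ := Set.mem_iUnion.mp h
        exact hy ⟨x, hx⟩
      obtain ⟨z, hz, hz0⟩ := h1 _ hcl.isLocallyClosed ⟨y, hyc⟩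
      exact hz (Set.mem_iUnion.mpr ⟨⟨z, hz0⟩, hxU ⟨z, hz0⟩⟩)
    intro y
    obtain ⟨x, hyx⟩ := hcover y
    refine ⟨U x, hU x, hyx, ?_⟩
    show QC (U x ∩ ⋃ x', Q x')
    have heq : U x ∩ ⋃ x', Q x' = Q x := by
      apply Set.Subset.antisymm
      · rintro z ⟨hzU, hzQ⟩
        obtain ⟨x', hzx'⟩ := Set.mem_iUnion.mp hzQ
        have hcomp : Q x' ∩ U x = Q x ∩ U x' := by
          apply h4 _ _ ((hQ x').inter (QC.of_lc (hU x).isLocallyClosed))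
            ((hQ x).inter (QC.of_lc (hU x').isLocallyClosed))
          ext w
          constructor
          · rintro ⟨⟨hwQ, hwU⟩, hw0⟩
            obtain ⟨hwU', hwZ⟩ := (hmem x' w hw0).mp hwQ
            exact ⟨⟨(hmem x w hw0).mpr ⟨hwU, hwZ⟩, hwU'⟩, hw0⟩
          · rintro ⟨⟨hwQ, hwU'⟩, hw0⟩
            obtain ⟨hwU, hwZ⟩ := (hmem x w hw0).mp hwQ
            exact ⟨⟨(hmem x' w hw0).mpr ⟨hwU', hwZ⟩, hwU⟩, hw0⟩
        have hz' : z ∈ Q x' ∩ U x := ⟨hzx', hzU⟩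
        rw [hcomp] at hz'
        exact hz'.1
      · intro z hz
        exact ⟨hQU x hz, Set.mem_iUnion.mpr ⟨x, hz⟩⟩
    rw [heq]
    exact hQ x
  · ext ⟨w, hw⟩
    constructor
    · intro h
      have h' : w ∈ ⋃ x, Q x := h
      obtain ⟨x, hx⟩ := Set.mem_iUnion.mp h'
      exact ((hmem x w hw).mp hx).2
    · intro h
      have h' : w ∈ ⋃ x, Q x :=
        Set.mem_iUnion.mpr ⟨⟨w, hw⟩, (hmem ⟨w, hw⟩ w hw).mpr ⟨hxU ⟨w, hw⟩, h⟩⟩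
      exact h'

end Helper1.QCons
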