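import Mathlib

/-!
# Two lemmas on intersections of finitely generated ideals in local domains (helper1)
-/

universe u

namespace Helper1

theorem sInf_eq_bot_of_fg_ideals_covering (A : Type*) [CommRing A] [IsDomain A] [IsLocalRing A]
    (hA : ¬ IsField A)
    (𝒮 : Set (Ideal A)) (hfg : ∀ I ∈ 𝒮, I.FG) (hmul : ∀ I ∈ 𝒮, ∀ J ∈ 𝒮, I * J ∈ 𝒮)
    (hcov : ∀ (p : Ideal A), p.IsPrime → p ≠ ⊥ → ∃ I ∈ 𝒮, I ≤ p) :
    sInf 𝒮 = ⊥ := by
  classical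
  by_contra hcon
  obtain ⟨x, hx, hx0⟩ := Submodule.exists_mem_ne_zero_of_ne_bot hcon
  have hxI : ∀ I ∈ 𝒮, x ∈ I := fun I hI => (Ideal.mem_sInf.mp hx) hI
  have hm : IsLocalRing.maximalIdeal A ≠ ⊥ := fun h =>
    hA (IsLocalRing.isField_iff_maximalIdeal_eq.mpr h)
  obtain ⟨I₀, hI₀, hI₀m⟩ := hcov _ (IsLocalRing.maximalIdeal.isMaximal A).isPrime hm
  have hxm : x ∈ IsLocalRing.maximalIdeal A := hI₀m (hxI I₀ hI₀)
  have hxu : ¬ IsUnit x := (IsLocalRing.mem_maximalIdeal x).mp hxm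
  let F : Set (Ideal A) := {𝔞 | Ideal.span {x} ≤ 𝔞 ∧ ∀ I ∈ 𝒮, ¬ I ≤ 𝔞}
  have hF0 : Ideal.span {x} ∈ F := by
    refine ⟨le_rfl, fun I hI hle => ?_⟩
    have hII : x ∈ I * I := hxI _ (hmul I hI I hI)
    have h1 : I * I ≤ Ideal.span {x} * I := Ideal.mul_mono_left hle
    have h2 := h1 hII
    rw [Ideal.mem_span_singleton_mul] at h2
    obtain ⟨z, hz, hxz⟩ := h2
    have hz1 : z = 1 := by
      have h3 : x * z = x * 1 := by rw [hxz, mul_one]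
      exact mul_left_cancel₀ hx0 h3
    rw [hz1] at hz
    have h4 : (1 : A) ∈ Ideal.span {x} := hle hz
    rw [Ideal.mem_span_singleton] at h4
    exact hxu (isUnit_of_dvd_one h4)
  obtain ⟨𝔮, hx𝔮, hmax⟩ := zorn_le_nonempty₀ F (by
    intro c hcF hchain y hy
    refine ⟨sSup c, ⟨?_, ?_⟩, fun z hz => le_sSup hz⟩
    · exact (hcF hy).1.trans (le_sSup hy)
    · intro I hI hle
      have hcomp : IsCompactElement I := (Submodule.fg_iff_compact I).mp (hfg I hI)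
      rw [CompleteLattice.isCompactElement_iff_le_of_directed_sSup_le] at hcomp
      obtain ⟨𝔞, h𝔞, hI𝔞⟩ := hcomp c ⟨y, hy⟩ hchain.directedOn hle
      exact (hcF h𝔞).2 I hI hI𝔞) (Ideal.span {x}) hF0
  have h𝔮F : 𝔮 ∈ F := hmax.prop
  have hxq : x ∈ 𝔮 := hx𝔮 (Ideal.mem_span_singleton_self x)
  have key : ∀ a, a ∉ 𝔮 → ∃ I ∈ 𝒮, I ≤ 𝔮 ⊔ Ideal.span {a} := by
    intro a ha
    by_contra hcon'
    push Not at hcon'
    have hin : 𝔮 ⊔ Ideal.span {a} ∈ F := ⟨le_sup_of_le_left hx𝔮, hcon'⟩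
    have h5 := hmax.le_of_ge hin le_sup_left
    exact ha (h5 (Ideal.mem_sup_right (Ideal.mem_span_singleton_self a)))
  have hprime : 𝔮.IsPrime := by
    rw [Ideal.isPrime_iff]
    refine ⟨fun htop => h𝔮F.2 I₀ hI₀ (htop ▸ le_top), ?_⟩
    intro a b hab
    by_contra hcon'
    push Not at hcon'
    obtain ⟨ha, hb⟩ := hcon'
    obtain ⟨I₁, hI₁, hI₁le⟩ := key a ha
    obtain ⟨I₂, hI₂, hI₂le⟩ := key b hb
    refine h𝔮F.2 _ (hmul I₁ hI₁ I₂ hI₂) ?_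
    rw [Ideal.mul_le]
    intro r hr s hs
    obtain ⟨q₁, hq₁, t₁, ht₁, rfl⟩ := Submodule.mem_sup.mp (hI₁le hr)
    obtain ⟨q₂, hq₂, t₂, ht₂, rfl⟩ := Submodule.mem_sup.mp (hI₂le hs)
    obtain ⟨c₁, rfl⟩ := Ideal.mem_span_singleton'.mp ht₁
    obtain ⟨c₂, rfl⟩ := Ideal.mem_span_singleton'.mp ht₂
    have h6 : (q₁ + c₁ * a) * (q₂ + c₂ * b) =
        q₁ * (q₂ + c₂ * b) + (c₁ * a) * q₂ + (c₁ * c₂) * (a * b) := by ring
    rw [h6]
    exact 𝔮.add_mem (𝔮.add_mem (𝔮.mul_mem_right _ hq₁) (𝔮.mul_mem_left _ hq₂))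
      (𝔮.mul_mem_left _ hab)
  have hq0 : 𝔮 ≠ ⊥ := fun h => hx0 (by rw [h] at hxq; exact (Submodule.mem_bot A).mp hxq)
  obtain ⟨I, hI, hIle⟩ := hcov 𝔮 hprime hq0
  exact h𝔮F.2 I hI hIle

theorem le_of_le_pow_forall_of_maximal_off_zeroLocus (A : Type u) [CommRing A] [IsLocalRing A]
    (I J : Ideal A) (hJ : J.FG) (hJ1 : J ≠ ⊤)
    (hI : ∀ n : ℕ, 1 ≤ n → I ≤ J ^ n) (p : Ideal A) [hpp : p.IsPrime] (hp : ¬ J ≤ p)
    (hmax : ∀ (p' : Ideal A), p'.IsPrime → p ≤ p' → ¬ J ≤ p' → p' = p) : I ≤ p := by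
  haveI : Nontrivial (A ⧸ p) := Ideal.Quotient.nontrivial_iff.mpr hpp.ne_top
  haveI : IsLocalRing (A ⧸ p) :=
    IsLocalRing.of_surjective' (Ideal.Quotient.mk p) Ideal.Quotient.mk_surjective
  have hnf : ¬ IsField (A ⧸ p) := by
    intro hf
    have hpm : p.IsMaximal := Ideal.Quotient.maximal_of_isField p hf
    have hpeq : p = IsLocalRing.maximalIdeal A := IsLocalRing.eq_maximalIdeal hpm
    exact hp (hpeq ▸ IsLocalRing.le_maximalIdeal hJ1)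
  set Jb : Ideal (A ⧸ p) := J.map (Ideal.Quotient.mk p) with hJb
  have hJb0 : Jb ≠ ⊥ := by
    intro h
    rw [hJb, Ideal.map_eq_bot_iff_le_ker, Ideal.mk_ker] at h
    exact hp h
  have hbot := sInf_eq_bot_of_fg_ideals_covering (A ⧸ p) hnf {K | ∃ n : ℕ, 1 ≤ n ∧ K = Jb ^ n}
    (by
      rintro K ⟨n, -, rfl⟩
      exact (hJ.map _).pow)
    (by
      rintro K ⟨n, hn, rfl⟩ K' ⟨m, hm, rfl⟩
      exact ⟨n + m, by omega, (pow_add Jb n m).symm⟩)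
    (by
      intro P hP hP0
      refine ⟨Jb, ⟨1, le_rfl, (pow_one Jb).symm⟩, ?_⟩
      rw [hJb, Ideal.map_le_iff_le_comap]
      by_contra hcon
      have hcomap : (P.comap (Ideal.Quotient.mk p)).IsPrime := Ideal.comap_isPrime _ _
      have hle : p ≤ P.comap (Ideal.Quotient.mk p) := by
        intro y hy
        rw [Ideal.mem_comap, Ideal.Quotient.eq_zero_iff_mem.mpr hy]
        exact P.zero_mem
      have heq := hmax _ hcomap hle hcon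
      apply hP0
      rw [← Ideal.map_comap_of_surjective (Ideal.Quotient.mk p) Ideal.Quotient.mk_surjective P,
        heq, Ideal.map_quotient_self])
  have hIb : I.map (Ideal.Quotient.mk p) ≤ sInf {K | ∃ n : ℕ, 1 ≤ n ∧ K = Jb ^ n} := by
    refine le_sInf ?_
    rintro K ⟨n, hn, rfl⟩
    rw [hJb, ← Ideal.map_pow]
    exact Ideal.map_mono (hI n hn)
  rw [hbot, le_bot_iff, Ideal.map_eq_bot_iff_le_ker, Ideal.mk_ker] at hIb
  exact hIb

end Helper1
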