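import Mathlib
import Groth.Agent.Lib.helper1.Hensel

/-!
# Rig-closed points: complete Noetherian domains whose nonzero primes all contain one element
(helper1)
-/

namespace Helper1.RigClosed

theorem isAdicComplete_of_le_of_pow_le {R : Type*} [CommRing R] (J K : Ideal R)
    [IsAdicComplete J R] (hJK : J ≤ K) (c : ℕ) (hc : K ^ c ≤ J) (hK : IsHausdorff K R) :
    IsAdicComplete K R := by
  haveI := hK
  haveI : IsPrecomplete K R := by
    refine ⟨fun f hf => ?_⟩
    have hc' : K ^ (c + 1) ≤ J := (Ideal.pow_le_pow_right (Nat.le_succ c)).trans hc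
    have hg : ∀ {m n : ℕ}, m ≤ n →
        f ((c + 1) * m) ≡ f ((c + 1) * n) [SMOD (J ^ m • ⊤ : Submodule R R)] := by
      intro m n hmn
      have h1 := hf (Nat.mul_le_mul_left (c + 1) hmn)
      refine SModEq.mono ?_ h1
      rw [pow_mul]
      exact Submodule.smul_mono_left (Ideal.pow_right_mono hc' m)
    obtain ⟨L, hL⟩ := IsPrecomplete.prec (inferInstance : IsPrecomplete J R)
      (f := fun k => f ((c + 1) * k)) hg
    refine ⟨L, fun n => ?_⟩
    have h1 : f n ≡ f ((c + 1) * n) [SMOD (K ^ n • ⊤ : Submodule R R)] :=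
      hf (Nat.le_mul_of_pos_left n (Nat.succ_pos c))
    have h2 : f ((c + 1) * n) ≡ L [SMOD (K ^ n • ⊤ : Submodule R R)] :=
      SModEq.mono (Submodule.smul_mono_left (Ideal.pow_right_mono hJK n)) (hL n)
    exact h1.trans h2
  exact { }

theorem nonzero_prime_props {D : Type*} [CommRing D] [IsDomain D] [IsNoetherianRing D] (x : D)
    (hx0 : x ≠ 0) (hxP : ∀ P : Ideal D, P.IsPrime → P ≠ ⊥ → x ∈ P) :
    ∀ P : Ideal D, P.IsPrime → P ≠ ⊥ →
      P ∈ (Ideal.span {x}).minimalPrimes ∧ P.IsMaximal := by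
  classical
  have hfin : (Ideal.span {x}).minimalPrimes.Finite :=
    Ideal.finite_minimalPrimes_of_isNoetherianRing D _
  have hA : ∀ (y : D) (P' : Ideal D), P' ∈ (Ideal.span {y}).minimalPrimes → P' ≠ ⊥ →
      P' ∈ (Ideal.span {x}).minimalPrimes := by
    intro y P' hP' hP'0
    haveI hP'p : P'.IsPrime := hP'.1.1
    have hxP' : Ideal.span {x} ≤ P' := by
      rw [Ideal.span_le, Set.singleton_subset_iff]
      exact hxP P' hP'p hP'0
    obtain ⟨p, hp, hpP'⟩ := Ideal.exists_minimalPrimes_le hxP'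
    haveI hpp : p.IsPrime := hp.1.1
    have hp0 : p ≠ ⊥ := by
      intro h0
      have : x ∈ p := hp.1.2 (Ideal.subset_span rfl)
      rw [h0] at this
      exact hx0 ((Submodule.mem_bot D).mp this)
    have hht : P'.height ≤ 1 :=
      Ideal.height_le_one_of_isPrincipal_of_mem_minimalPrimes (Ideal.span {y}) P' hP'
    by_cases hpe : p = P'
    · rw [← hpe]
      exact hp
    · exfalso
      have hlt : p < P' := lt_of_le_of_ne hpP' hpe
      have h1 : p.height < P'.height := Ideal.height_strict_mono_of_isPrime hlt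
      have h2 : p.height = 0 := ENat.lt_one_iff_eq_zero.mp (lt_of_lt_of_le h1 hht)
      rw [Ideal.height_eq_zero_iff, IsDomain.minimalPrimes_eq_singleton_bot] at h2
      exact hp0 h2
  have hB : ∀ P : Ideal D, P.IsPrime → P ≠ ⊥ → P ∈ (Ideal.span {x}).minimalPrimes := by
    intro P hP hP0
    haveI := hP
    have hxPP : Ideal.span {x} ≤ P := by
      rw [Ideal.span_le, Set.singleton_subset_iff]
      exact hxP P hP hP0
    obtain ⟨p₀, hp₀, hp₀P⟩ := Ideal.exists_minimalPrimes_le hxPP
    have hcover : (P : Set D) ⊆ ⋃ i ∈ (hfin.toFinset : Set (Ideal D)), (i : Set D) := by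
      intro y hy
      by_cases hy0 : y = 0
      · rw [hy0]
        exact Set.mem_biUnion (Finset.mem_coe.mpr (hfin.mem_toFinset.mpr hp₀)) p₀.zero_mem
      · have hyP : Ideal.span {y} ≤ P := by
          rw [Ideal.span_le, Set.singleton_subset_iff]
          exact hy
        obtain ⟨P', hP', hP'P⟩ := Ideal.exists_minimalPrimes_le hyP
        have hyP' : y ∈ P' := hP'.1.2 (Ideal.subset_span rfl)
        have hP'0 : P' ≠ ⊥ := by
          intro h0
          rw [h0] at hyP'
          exact hy0 ((Submodule.mem_bot D).mp hyP')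
        exact Set.mem_biUnion
          (Finset.mem_coe.mpr (hfin.mem_toFinset.mpr (hA y P' hP' hP'0))) hyP'
    obtain ⟨p, hpmem, hPp⟩ := (Ideal.subset_union_prime (f := fun i : Ideal D => i) ⊥ ⊥
      (fun i hi _ _ => (hfin.mem_toFinset.mp hi).1.1)).mp hcover
    have hp : p ∈ (Ideal.span {x}).minimalPrimes := hfin.mem_toFinset.mp hpmem
    have h1 : p ≤ p₀ := hp.2 hp₀.1 (hp₀P.trans hPp)
    have h2 : P = p := le_antisymm hPp (h1.trans hp₀P)
    rw [h2]
    exact hp
  intro P hP hP0
  refine ⟨hB P hP hP0, ?_⟩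
  obtain ⟨m, hm, hPm⟩ := Ideal.exists_le_maximal P hP.ne_top
  have hm0 : m ≠ ⊥ := fun h0 => hP0 (le_bot_iff.mp (h0 ▸ hPm))
  have hmB := hB m hm.isPrime hm0
  have hPB := hB P hP hP0
  have h1 : m ≤ P := hmB.2 hPB.1 hPm
  rw [le_antisymm hPm h1]
  exact hm

open Polynomial in
theorem isLocalRing_of_henselian {D : Type*} [CommRing D] [IsDomain D] (K : Ideal D)
    [HenselianRing D K] (S : Set (Ideal D)) (hfin : S.Finite)
    (hSmax : ∀ p ∈ S, p.IsMaximal) (hall : ∀ m : Ideal D, m.IsMaximal → m ∈ S)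
    (hK : sInf S ≤ K) : IsLocalRing D := by
  classical
  apply IsLocalRing.of_unique_max_ideal
  obtain ⟨m₁, hm₁⟩ := Ideal.exists_maximal D
  refine ⟨m₁, hm₁, fun m₂ hm₂ => ?_⟩
  by_contra hne
  haveI : Finite S := hfin.to_subtype
  have hcop : Pairwise (Function.onFun IsCoprime fun i : S => (i : Ideal D)) := by
    intro i j hij
    show IsCoprime (i : Ideal D) (j : Ideal D)
    rw [Ideal.isCoprime_iff_sup_eq]
    exact Ideal.IsMaximal.coprime_of_ne (hSmax i i.2) (hSmax j j.2)
      (fun h => hij (Subtype.ext h))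
  obtain ⟨e, he⟩ := Ideal.exists_forall_sub_mem_ideal hcop
    (fun i : S => if (i : Ideal D) = m₁ then 1 else 0)
  have he1 : e - 1 ∈ m₁ := by
    have := he ⟨m₁, hall m₁ hm₁⟩
    simpa using this
  have he2 : e ∈ m₂ := by
    have := he ⟨m₂, hall m₂ hm₂⟩
    simpa [hne] using this
  have heS : e * (e - 1) ∈ sInf S := by
    rw [Ideal.mem_sInf]
    intro p hp
    by_cases hpm : p = m₁
    · rw [hpm]
      exact Ideal.mul_mem_left _ _ he1
    · have := he ⟨p, hp⟩
      have hep : e ∈ p := by simpa [hpm] using this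
      exact Ideal.mul_mem_right _ _ hep
  have hjac : ∀ m : Ideal D, m.IsMaximal → K ≤ m := fun m hm =>
    (HenselianRing.jac (R := D) (I := K)).trans (sInf_le ⟨bot_le, hm⟩)
  have hfm : (X ^ 2 - X : D[X]).Monic := by
    apply Polynomial.monic_X_pow_sub
    rw [Polynomial.degree_X]
    norm_num
  have hfe : (X ^ 2 - X : D[X]).eval e ∈ K := by
    have : (X ^ 2 - X : D[X]).eval e = e * (e - 1) := by
      simp only [eval_sub, eval_pow, eval_X]
      ring
    rw [this]
    exact hK heS
  have hfd : IsUnit (Ideal.Quotient.mk K ((X ^ 2 - X : D[X]).derivative.eval e)) := by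
    have h1 : (X ^ 2 - X : D[X]).derivative.eval e = 2 * e - 1 := by
      rw [derivative_sub, derivative_X_sq, derivative_X, eval_sub, eval_mul, eval_C, eval_X,
        eval_one]
    rw [h1]
    have h2 : (2 * e - 1) * (2 * e - 1) - 1 = 4 * (e * (e - 1)) := by ring
    have h3 : Ideal.Quotient.mk K ((2 * e - 1) * (2 * e - 1)) = 1 := by
      rw [← map_one (Ideal.Quotient.mk K), Ideal.Quotient.eq, h2]
      exact Ideal.mul_mem_left _ _ (hK heS)
    rw [map_mul] at h3
    exact IsUnit.of_mul_eq_one _ h3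
  obtain ⟨a, ha, haK⟩ := HenselianRing.is_henselian (X ^ 2 - X : D[X]) hfm e hfe hfd
  have ha' : a * (a - 1) = 0 := by
    have h0 : (X ^ 2 - X : D[X]).eval a = 0 := ha
    have h4 : (X ^ 2 - X : D[X]).eval a = a * (a - 1) := by
      simp only [eval_sub, eval_pow, eval_X]
      ring
    rw [← h4]
    exact h0
  rcases mul_eq_zero.mp ha' with h0 | h1
  · rw [h0, zero_sub] at haK
    have hem : e ∈ m₁ := by
      have := hjac m₁ hm₁ haK
      rwa [neg_mem_iff] at this
    apply hm₁.ne_top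
    rw [Ideal.eq_top_iff_one]
    have h5 : (1 : D) = e - (e - 1) := by ring
    rw [h5]
    exact sub_mem hem he1
  · have ha1 : a = 1 := sub_eq_zero.mp h1
    rw [ha1] at haK
    have hem : (1 : D) - e ∈ m₂ := hjac m₂ hm₂ haK
    apply hm₂.ne_top
    rw [Ideal.eq_top_iff_one]
    have h5 : (1 : D) = (1 - e) + e := by ring
    rw [h5]
    exact add_mem hem he2

end Helper1.RigClosed
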