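import Mathlib
import Groth.Agent.Lib.helper1.FactorLift

/-!
# Strictly henselian local rings: auxiliary lemmas (helper1)
-/

universe u

namespace Helper1

open IsLocalRing

/-- A module-finite local algebra over a local ring has local structure map. -/
theorem isLocalHom_algebraMap_of_finite (R : Type*) [CommRing R] [IsLocalRing R] (A : Type*)
    [CommRing A] [IsLocalRing A] [Algebra R A] [Module.Finite R A] :
    IsLocalHom (algebraMap R A) := by
  refine ⟨fun x hx => ?_⟩
  by_contra hnu
  have hxm : x ∈ maximalIdeal R := (mem_maximalIdeal _).mpr hnu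
  have h1 : algebraMap R A x ∈ Ideal.jacobson (⊥ : Ideal A) :=
    map_maximalIdeal_le_jacobson R A (Ideal.mem_map_of_mem _ hxm)
  rw [IsLocalRing.jacobson_eq_maximalIdeal ⊥ bot_ne_top] at h1
  exact (mem_maximalIdeal _).mp h1 hx

/-- A module-finite, formally unramified local algebra over a local ring with separably closed
residue field is a quotient of the base. -/
theorem surjective_algebraMap_of_unramified_local (R : Type*) [CommRing R] [IsLocalRing R]
    [IsSepClosed (ResidueField R)] (A : Type*) [CommRing A] [IsLocalRing A] [Algebra R A]
    [Module.Finite R A] [Algebra.FormallyUnramified R A] :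
    Function.Surjective (algebraMap R A) := by
  haveI := isLocalHom_algebraMap_of_finite R A
  have hmax : (maximalIdeal R).map (algebraMap R A) = maximalIdeal A :=
    Algebra.FormallyUnramified.map_maximalIdeal
  have hres : Function.Surjective (algebraMap (ResidueField R) (ResidueField A)) :=
    IsSepClosed.algebraMap_surjective (ResidueField R) (ResidueField A)
  have hle : (⊤ : Submodule R A) ≤ Submodule.span R {1} := by
    apply Submodule.le_of_le_smul_of_le_jacobson_bot (I := maximalIdeal R) Module.Finite.fg_top
      (by rw [IsLocalRing.jacobson_eq_maximalIdeal ⊥ bot_ne_top])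
    intro y _
    obtain ⟨c, hc⟩ := hres (residue A y)
    obtain ⟨r, rfl⟩ := residue_surjective c
    have h1 : residue A (y - algebraMap R A r) = 0 := by
      rw [map_sub, ← hc, sub_eq_zero]
      rfl
    have h2 : y - algebraMap R A r ∈ (maximalIdeal R) • (⊤ : Submodule R A) := by
      rw [Ideal.smul_top_eq_map, hmax]
      exact (residue_eq_zero_iff _).mp h1
    have h3 : y = r • (1 : A) + (y - algebraMap R A r) := by
      rw [Algebra.smul_def, mul_one]
      ring
    rw [h3]
    exact Submodule.add_mem_sup (Submodule.smul_mem _ _ (Submodule.mem_span_singleton_self 1)) h2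
  intro y
  obtain ⟨r, hr⟩ := Submodule.mem_span_singleton.mp (hle (Submodule.mem_top : y ∈ ⊤))
  exact ⟨r, by rw [← hr, Algebra.smul_def, mul_one]⟩

end Helper1
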