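import Mathlib.AlgebraicGeometry.Morphisms.UniversallyClosed
import Mathlib.AlgebraicGeometry.Morphisms.UniversallyInjective
import Mathlib.AlgebraicGeometry.Morphisms.UniversallyOpen
import Mathlib.AlgebraicGeometry.Morphisms.QuasiSeparated
import Mathlib.AlgebraicGeometry.Morphisms.Separated
import Mathlib.AlgebraicGeometry.Morphisms.ClosedImmersion
import Mathlib.AlgebraicGeometry.PullbackCarrier

/-! Helper lemmas (helper1): properties of morphisms and surjective closed immersions. -/

set_option autoImplicit false

namespace Helper1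

open CategoryTheory CategoryTheory.Limits AlgebraicGeometry MorphismProperty

universe u

theorem quasiCompact_of_comp_surjective {X Y Z : Scheme.{u}} (f : X ⟶ Y) (g : Y ⟶ Z)
    [QuasiCompact (f ≫ g)] [Surjective f] : QuasiCompact g := by
  constructor
  intro U hU hUc
  have h1 : IsCompact ((f ≫ g) ⁻¹' U) := QuasiCompact.isCompact_preimage U hU hUc
  have h2 : (g ⁻¹' U : Set Y) = f '' ((f ≫ g) ⁻¹' U) := by
    have : ((f ≫ g) ⁻¹' U : Set X) = f ⁻¹' (g ⁻¹' U) := by
      ext a
      simp only [Set.mem_preimage, Scheme.Hom.comp_apply]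
    rw [this, Set.image_preimage_eq _ f.surjective]
  rw [h2]
  exact h1.image f.continuous

theorem universallyOpen_of_comp_surjective {X Y Z : Scheme.{u}} (f : X ⟶ Y) (g : Y ⟶ Z)
    [UniversallyOpen (f ≫ g)] [Surjective f] : UniversallyOpen g := by
  constructor
  intro X' Y' i₁ i₂ f' H
  have := UniversallyOpen.universally_isOpenMap _ _ _
    ((IsPullback.of_hasPullback i₁ f).paste_horiz H)
  have hs : Function.Surjective (pullback.fst i₁ f) :=
    (MorphismProperty.pullback_fst (P := @Surjective) _ _ ‹_›).1
  intro U hU
  have h3 : (f' '' U : Set Y') = (pullback.fst i₁ f ≫ f') '' ((pullback.fst i₁ f) ⁻¹' U) := by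
    have : ((pullback.fst i₁ f ≫ f' : _ ⟶ Y') : _ → Y') = f' ∘ (pullback.fst i₁ f) := by
      ext a; simp
    rw [this, Set.image_comp, Set.image_preimage_eq _ hs]
  rw [h3]
  exact this _ (hU.preimage (Scheme.Hom.continuous _))

theorem universallyInjective_of_comp_surjective {X Y Z : Scheme.{u}} (f : X ⟶ Y) (g : Y ⟶ Z)
    [UniversallyInjective (f ≫ g)] [Surjective f] : UniversallyInjective g := by
  constructor
  intro X' Y' i₁ i₂ f' H
  have := UniversallyInjective.universally_injective _ _ _
    ((IsPullback.of_hasPullback i₁ f).paste_horiz H)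
  have hs : Function.Surjective (pullback.fst i₁ f) :=
    (MorphismProperty.pullback_fst (P := @Surjective) _ _ ‹_›).1
  intro a b hab
  obtain ⟨a', rfl⟩ := hs a
  obtain ⟨b', rfl⟩ := hs b
  have : a' = b' := this (by simpa using hab)
  rw [this]

/-- A surjective closed immersion is universally open. -/
theorem universallyOpen_of_isClosedImmersion_surjective {X Y : Scheme.{u}} (f : X ⟶ Y)
    [IsClosedImmersion f] [Surjective f] : UniversallyOpen f := by
  constructor
  intro X' Y' i₁ i₂ f' H
  have h1 : IsClosedImmersion f' := MorphismProperty.of_isPullback H.flip inferInstance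
  have h2 : Surjective f' := MorphismProperty.of_isPullback H.flip inferInstance
  have : IsHomeomorph f' := by
    rw [isHomeomorph_iff_isEmbedding_surjective]
    exact ⟨f'.isClosedEmbedding.isEmbedding, f'.surjective⟩
  exact this.isOpenMap

theorem quasiSeparated_of_comp_thickening {X Y Z : Scheme.{u}} (f : X ⟶ Y) (g : Y ⟶ Z)
    [QuasiSeparated (f ≫ g)] [IsClosedImmersion f] [Surjective f] : QuasiSeparated g := by
  rw [quasiSeparated_iff]
  have h1 : QuasiCompact (pullback.diagonal (f ≫ g)) := inferInstance
  have h2 : QuasiCompact (pullback.map (f ≫ g) (f ≫ g) g g f f (𝟙 Z) (by simp) (by simp)) :=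
    MorphismProperty.pullbackMap (P := @QuasiCompact) (inferInstance : QuasiCompact f)
      (inferInstance : QuasiCompact f) rfl rfl
  have h3 : QuasiCompact (f ≫ pullback.diagonal g) := by
    rw [pullback.comp_diagonal]
    infer_instance
  exact quasiCompact_of_comp_surjective f _

end Helper1
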