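import Groth.Prelude.Def_Flat
import Groth.Agent.Lib.helper1.Thickening
import Mathlib.AlgebraicGeometry.Morphisms.FlatDescent

/-! Helper lemmas (helper1): universal homeomorphisms. -/

set_option autoImplicit false

namespace Helper1

open CategoryTheory CategoryTheory.Limits AlgebraicGeometry MorphismProperty

universe u

theorem isUnivHomeo_eq :
    FlatMor.IsUnivHomeo.{u} = (@UniversallyInjective ⊓ @Surjective ⊓ @UniversallyOpen :
      MorphismProperty Scheme.{u}) := by
  ext X Y f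
  constructor
  · intro h
    refine ⟨⟨⟨?_⟩, ?_⟩, ⟨?_⟩⟩
    · intro X' Y' i₁ i₂ f' H
      exact (h i₁ i₂ f' H).injective
    · exact ⟨(h (𝟙 X) (𝟙 Y) f IsPullback.of_id_snd).surjective⟩
    · intro X' Y' i₁ i₂ f' H
      exact (h i₁ i₂ f' H).isOpenMap
  · rintro ⟨⟨h1, h2⟩, h3⟩ X' Y' i₁ i₂ f' H
    have h2' : Surjective f' := MorphismProperty.of_isPullback H.flip h2
    exact ⟨f'.continuous, h3.1 i₁ i₂ f' H, h1.1 i₁ i₂ f' H, f'.surjective⟩

theorem descendsAlong_isUnivHomeo :
    MorphismProperty.DescendsAlong (FlatMor.IsUnivHomeo.{u})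
      (@Surjective ⊓ @Flat ⊓ @QuasiCompact : MorphismProperty Scheme.{u}) := by
  rw [isUnivHomeo_eq]
  infer_instance

end Helper1
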