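import Mathlib
import Groth.Prelude.Def_Pi1

/-!
# Descent along universally injective ring maps (helper1)
-/

universe u

namespace Helper1

open scoped TensorProduct

theorem univInjective_eq_zero (R S : Type u) [CommRing R] [CommRing S] [Algebra R S]
    (h : Pi1.UnivInjective R S) (P : Type u) [AddCommGroup P] [Module R P]
    (hP : ∀ z : S ⊗[R] P, z = 0) : ∀ p : P, p = 0 := by
  intro p
  have hinj := h P
  have h1 : (LinearMap.lTensor P (Algebra.linearMap R S)) (p ⊗ₜ[R] (1 : R)) =
      (LinearMap.lTensor P (Algebra.linearMap R S)) 0 := by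
    rw [map_zero]
    have h2 := hP ((TensorProduct.comm R S P).symm
      (LinearMap.lTensor P (Algebra.linearMap R S) (p ⊗ₜ[R] (1 : R))))
    have h2' := congrArg (TensorProduct.comm R S P) h2
    rw [LinearEquiv.apply_symm_apply, map_zero] at h2'
    exact h2'
  have h3 := hinj h1
  have h4 := congrArg (TensorProduct.rid R P) h3
  rw [TensorProduct.rid_tmul, one_smul, map_zero] at h4
  exact h4

theorem finite_of_univInjective (R S : Type u) [CommRing R] [CommRing S] [Algebra R S]
    (h : Pi1.UnivInjective R S) (M : Type u) [AddCommGroup M] [Module R M]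
    [Module.Finite S (S ⊗[R] M)] : Module.Finite R M := by
  obtain ⟨t, ht⟩ := (Module.Finite.fg_top : (⊤ : Submodule S (S ⊗[R] M)).FG)
  obtain ⟨M', hM'fin, hM't⟩ := TensorProduct.exists_finite_submodule_right_of_setFinite
    (t : Set (S ⊗[R] M)) t.finite_toSet
  have hzero : ∀ y ∈ (t : Set (S ⊗[R] M)), (M'.mkQ.baseChange S) y = 0 := by
    intro y hy
    obtain ⟨w, rfl⟩ := hM't hy
    show (M'.mkQ.lTensor S) ((M'.subtype.lTensor S) w) = 0
    rw [← LinearMap.lTensor_comp_apply]
    have h0 : M'.mkQ ∘ₗ M'.subtype = 0 := by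
      apply LinearMap.ext
      intro m
      show M'.mkQ (m : M) = 0
      rw [Submodule.mkQ_apply, (Submodule.Quotient.mk_eq_zero M').mpr m.2]
    rw [h0, LinearMap.lTensor_zero, LinearMap.zero_apply]
  have hker : (⊤ : Submodule S (S ⊗[R] M)) ≤ LinearMap.ker (M'.mkQ.baseChange S) := by
    rw [← ht, Submodule.span_le]
    intro y hy
    exact hzero y hy
  have hsurj : Function.Surjective (M'.mkQ.baseChange S) :=
    LinearMap.lTensor_surjective S (Submodule.mkQ_surjective M')
  have hP : ∀ z : S ⊗[R] (M ⧸ M'), z = 0 := by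
    intro z
    obtain ⟨w, rfl⟩ := hsurj z
    exact hker Submodule.mem_top
  have hall := univInjective_eq_zero R S h (M ⧸ M') hP
  have htop : M' = ⊤ := by
    rw [eq_top_iff]
    intro m _
    exact (Submodule.Quotient.mk_eq_zero M').mp (hall (Submodule.Quotient.mk m))
  have hfg : (⊤ : Submodule R M).FG := by
    rw [← htop]
    exact Module.Finite.iff_fg.mp hM'fin
  exact ⟨hfg⟩

theorem univInjective_tmul_eq_zero (R S : Type u) [CommRing R] [CommRing S] [Algebra R S]
    (h : Pi1.UnivInjective R S) (P : Type u) [AddCommGroup P] [Module R P] (p : P)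
    (hp : (1 : S) ⊗ₜ[R] p = 0) : p = 0 := by
  have hinj := h P
  have h1 : (LinearMap.lTensor P (Algebra.linearMap R S)) (p ⊗ₜ[R] (1 : R)) =
      (LinearMap.lTensor P (Algebra.linearMap R S)) 0 := by
    rw [map_zero, LinearMap.lTensor_tmul, Algebra.linearMap_apply, map_one]
    have h2 := congrArg (TensorProduct.comm R S P) hp
    rw [TensorProduct.comm_tmul, map_zero] at h2
    exact h2
  have h3 := hinj h1
  have h4 := congrArg (TensorProduct.rid R P) h3
  rw [TensorProduct.rid_tmul, one_smul, map_zero] at h4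
  exact h4

theorem finitePresentation_of_univInjective (R S : Type u) [CommRing R] [CommRing S]
    [Algebra R S] (h : Pi1.UnivInjective R S) (M : Type u) [AddCommGroup M] [Module R M]
    [Module.FinitePresentation S (S ⊗[R] M)] : Module.FinitePresentation R M := by
  classical
  haveI : Module.Finite R M := finite_of_univInjective R S h M
  obtain ⟨n, π, hπ⟩ := Module.Finite.exists_fin' R M
  have hπS : Function.Surjective (π.baseChange S) := LinearMap.lTensor_surjective S hπ
  have hKS : (LinearMap.ker (π.baseChange S)).FG :=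
    Module.FinitePresentation.fg_ker (π.baseChange S) hπS
  obtain ⟨t, ht⟩ := hKS
  have hex : Function.Exact ((LinearMap.ker π).subtype.lTensor S) (π.lTensor S) :=
    lTensor_exact S (LinearMap.exact_subtype_ker_map π) hπ
  have hpre : ∀ y ∈ t, ∃ w : S ⊗[R] (LinearMap.ker π),
      ((LinearMap.ker π).subtype.lTensor S) w = y := by
    intro y hy
    have hy' : y ∈ LinearMap.ker (π.baseChange S) := by
      rw [← ht]; exact Submodule.subset_span hy
    exact (hex y).mp (LinearMap.mem_ker.mp hy')
  choose! w hw using hpre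
  obtain ⟨K'', hK''fin, hK''t⟩ := TensorProduct.exists_finite_submodule_right_of_setFinite
    ((t.image w : Finset (S ⊗[R] (LinearMap.ker π))) : Set (S ⊗[R] (LinearMap.ker π)))
    (Finset.finite_toSet _)
  let K' : Submodule R (Fin n → R) := K''.map (LinearMap.ker π).subtype
  have hK'le : K' ≤ LinearMap.ker π := by
    rintro _ ⟨k, _, rfl⟩
    exact k.2
  have hK'fg : K'.FG := (Module.Finite.iff_fg.mp hK''fin).map _
  have hcomp : K'.subtype ∘ₗ ((LinearMap.ker π).subtype.submoduleMap K'') =
      (LinearMap.ker π).subtype ∘ₗ K''.subtype := by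
    apply LinearMap.ext
    intro x
    rfl
  have hH : ∀ y ∈ t, y ∈ LinearMap.range (K'.subtype.lTensor S) := by
    intro y hy
    obtain ⟨v, hv⟩ := hK''t (Finset.mem_coe.mpr (Finset.mem_image_of_mem w hy))
    refine ⟨((LinearMap.ker π).subtype.submoduleMap K'').lTensor S v, ?_⟩
    rw [← LinearMap.lTensor_comp_apply, hcomp, LinearMap.lTensor_comp_apply, hv, hw y hy]
  have hρq : (K'.liftQ π hK'le) ∘ₗ K'.mkQ = π := K'.liftQ_mkQ π hK'le
  have hq0 : K'.mkQ ∘ₗ K'.subtype = 0 := by
    apply LinearMap.ext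
    intro m
    show K'.mkQ (m : Fin n → R) = 0
    rw [Submodule.mkQ_apply, (Submodule.Quotient.mk_eq_zero K').mpr m.2]
  have hkerle : LinearMap.ker (π.baseChange S) ≤ LinearMap.ker (K'.mkQ.baseChange S) := by
    rw [← ht, Submodule.span_le]
    intro y hy
    obtain ⟨v, rfl⟩ := hH y hy
    show (K'.mkQ.lTensor S) ((K'.subtype.lTensor S) v) = 0
    rw [← LinearMap.lTensor_comp_apply, hq0, LinearMap.lTensor_zero, LinearMap.zero_apply]
  have hρinj : Function.Injective (K'.liftQ π hK'le) := by
    rw [← LinearMap.ker_eq_bot, LinearMap.ker_eq_bot']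
    intro m' hm'
    apply univInjective_tmul_eq_zero R S h
    obtain ⟨x, rfl⟩ := Submodule.mkQ_surjective K' m'
    have hπx : π x = 0 := by
      have h0 := LinearMap.congr_fun hρq x
      rw [LinearMap.comp_apply, hm'] at h0
      exact h0.symm
    have h1 : (1 : S) ⊗ₜ[R] x ∈ LinearMap.ker (π.baseChange S) := by
      rw [LinearMap.mem_ker, LinearMap.baseChange_tmul, hπx, TensorProduct.tmul_zero]
    have h2 := hkerle h1
    rw [LinearMap.mem_ker, LinearMap.baseChange_tmul] at h2
    exact h2
  have hKeq : LinearMap.ker π = K' := by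
    apply le_antisymm _ hK'le
    intro k hk
    have h1 : (K'.liftQ π hK'le) (K'.mkQ k) = 0 := by
      rw [← LinearMap.comp_apply, hρq]
      exact hk
    have h2 := hρinj (h1.trans (map_zero _).symm)
    exact (Submodule.Quotient.mk_eq_zero K').mp h2
  exact Module.finitePresentation_of_free_of_surjective π hπ (by rw [hKeq]; exact hK'fg)

theorem finiteType_of_univInjective (R S : Type u) [CommRing R] [CommRing S] [Algebra R S]
    (h : Pi1.UnivInjective R S) (A : Type u) [CommRing A] [Algebra R A]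
    [Algebra.FiniteType S (S ⊗[R] A)] : Algebra.FiniteType R A := by
  classical
  obtain ⟨t, ht⟩ := (Algebra.FiniteType.out : (⊤ : Subalgebra S (S ⊗[R] A)).FG)
  choose F hF using fun y : S ⊗[R] A => TensorProduct.exists_finset y
  let G : Finset A := t.biUnion (fun y => (F y).image Prod.snd)
  let A' : Subalgebra R A := Algebra.adjoin R (G : Set A)
  let φ : S ⊗[R] A' →ₐ[S] S ⊗[R] A := Algebra.TensorProduct.map (AlgHom.id S S) A'.val
  have hφtmul : ∀ (s : S) (a : A'), φ (s ⊗ₜ[R] a) = s ⊗ₜ[R] (a : A) := fun s a => by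
    simp [φ]
  have hφt : ∀ y ∈ t, y ∈ φ.range := by
    intro y hy
    rw [hF y]
    refine Subalgebra.sum_mem _ (fun i hi => ?_)
    have hiA' : i.2 ∈ A' := Algebra.subset_adjoin (Finset.mem_coe.mpr
      (Finset.mem_biUnion.mpr ⟨y, hy, Finset.mem_image_of_mem _ hi⟩))
    exact (AlgHom.mem_range φ).mpr ⟨i.1 ⊗ₜ[R] ⟨i.2, hiA'⟩, hφtmul _ _⟩
  have hφtop : φ.range = ⊤ := by
    rw [eq_top_iff, ← ht]
    exact Algebra.adjoin_le hφt
  have hP : ∀ z : S ⊗[R] (A ⧸ Subalgebra.toSubmodule A'), z = 0 := by
    intro z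
    obtain ⟨w, rfl⟩ := LinearMap.lTensor_surjective S
      (Submodule.mkQ_surjective (Subalgebra.toSubmodule A')) z
    have hw : w ∈ φ.range := by rw [hφtop]; trivial
    obtain ⟨v, rfl⟩ := (AlgHom.mem_range φ).mp hw
    clear hw
    induction v using TensorProduct.induction_on with
    | zero => rw [map_zero, map_zero]
    | tmul s a =>
      rw [hφtmul, LinearMap.lTensor_tmul, Submodule.mkQ_apply,
        (Submodule.Quotient.mk_eq_zero _).mpr a.2, TensorProduct.tmul_zero]
    | add x y hx hy => rw [map_add, map_add, hx, hy, add_zero]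
  have hall := univInjective_eq_zero R S h _ hP
  have htop : A' = ⊤ := by
    rw [eq_top_iff]
    intro a _
    exact (Submodule.Quotient.mk_eq_zero (Subalgebra.toSubmodule A')).mp
      (hall (Submodule.Quotient.mk a))
  exact ⟨by rw [← htop]; exact Subalgebra.fg_adjoin_finset G⟩

theorem algFinitePresentation_of_univInjective (R S : Type u) [CommRing R] [CommRing S]
    [Algebra R S] (h : Pi1.UnivInjective R S) (A : Type u) [CommRing A] [Algebra R A]
    [Algebra.FinitePresentation S (S ⊗[R] A)] : Algebra.FinitePresentation R A := by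
  classical
  haveI : Algebra.FiniteType R A := finiteType_of_univInjective R S h A
  obtain ⟨n, π, hπ⟩ := Algebra.FiniteType.iff_quotient_mvPolynomial''.mp
    (inferInstance : Algebra.FiniteType R A)
  let πS : S ⊗[R] MvPolynomial (Fin n) R →ₐ[S] S ⊗[R] A :=
    Algebra.TensorProduct.map (AlgHom.id S S) π
  have hπStmul : ∀ (s : S) (p : MvPolynomial (Fin n) R), πS (s ⊗ₜ[R] p) = s ⊗ₜ[R] π p :=
    fun s p => by simp [πS]
  have hπSfun : ∀ x, πS x = (π.toLinearMap.lTensor S) x := by
    intro x
    induction x using TensorProduct.induction_on with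
    | zero => rw [map_zero, map_zero]
    | tmul s p => rw [hπStmul, LinearMap.lTensor_tmul]; rfl
    | add x y hx hy => rw [map_add, map_add, hx, hy]
  have hs : Function.Surjective (π.toLinearMap.lTensor S) :=
    LinearMap.lTensor_surjective S hπ
  have hπSsurj : Function.Surjective πS := by
    intro y
    obtain ⟨x, hx⟩ := hs y
    exact ⟨x, (hπSfun x).trans hx⟩
  obtain ⟨t, ht⟩ := Algebra.FinitePresentation.ker_fG_of_surjective πS hπSsurj
  have hex : Function.Exact ((LinearMap.ker π.toLinearMap).subtype.lTensor S)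
      (π.toLinearMap.lTensor S) :=
    lTensor_exact S (LinearMap.exact_subtype_ker_map π.toLinearMap) hπ
  have hpre : ∀ y ∈ t, ∃ w : S ⊗[R] (LinearMap.ker π.toLinearMap),
      ((LinearMap.ker π.toLinearMap).subtype.lTensor S) w = y := by
    intro y hy
    have hy' : y ∈ RingHom.ker πS.toRingHom := by
      rw [← ht]; exact Ideal.subset_span hy
    have hy'' : πS y = 0 := hy'
    exact (hex y).mp ((hπSfun y).symm.trans hy'')
  choose! w hw using hpre
  choose F hF using fun z : S ⊗[R] (LinearMap.ker π.toLinearMap) =>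
    TensorProduct.exists_finset z
  let G : Finset (MvPolynomial (Fin n) R) :=
    t.biUnion (fun y => (F (w y)).image (fun i => (i.2 : MvPolynomial (Fin n) R)))
  let I' : Ideal (MvPolynomial (Fin n) R) := Ideal.span (G : Set (MvPolynomial (Fin n) R))
  have hI'le : ∀ p ∈ I', π p = 0 := by
    have hle : I' ≤ RingHom.ker π := by
      apply Ideal.span_le.mpr
      intro p hp
      obtain ⟨y, hy, hp'⟩ := Finset.mem_biUnion.mp (Finset.mem_coe.mp hp)
      obtain ⟨i, hi, rfl⟩ := Finset.mem_image.mp hp'
      exact (RingHom.mem_ker).mpr (LinearMap.mem_ker.mp i.2.2)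
    intro p hp
    exact (RingHom.mem_ker).mp (hle hp)
  let q : MvPolynomial (Fin n) R →ₐ[R] (MvPolynomial (Fin n) R ⧸ I') :=
    Ideal.Quotient.mkₐ R I'
  let qS : S ⊗[R] MvPolynomial (Fin n) R →ₐ[S] S ⊗[R] (MvPolynomial (Fin n) R ⧸ I') :=
    Algebra.TensorProduct.map (AlgHom.id S S) q
  have hqStmul : ∀ (s : S) (p : MvPolynomial (Fin n) R), qS (s ⊗ₜ[R] p) = s ⊗ₜ[R] q p :=
    fun s p => by simp [qS]
  have hqSt : ∀ y ∈ t, qS y = 0 := by
    intro y hy
    have e := hF (w y)
    rw [← hw y hy, e, map_sum, map_sum]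
    apply Finset.sum_eq_zero
    intro i hi
    rw [LinearMap.lTensor_tmul, Submodule.subtype_apply, hqStmul]
    have hq0 : q (i.2 : MvPolynomial (Fin n) R) = 0 := by
      apply Ideal.Quotient.eq_zero_iff_mem.mpr
      apply Ideal.subset_span
      exact Finset.mem_coe.mpr (Finset.mem_biUnion.mpr ⟨y, hy, Finset.mem_image_of_mem _ hi⟩)
    rw [hq0, TensorProduct.tmul_zero]
  have hkerle : RingHom.ker πS.toRingHom ≤ RingHom.ker qS.toRingHom := by
    rw [← ht, Ideal.span_le]
    intro y hy
    exact hqSt y hy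
  let ρ : (MvPolynomial (Fin n) R ⧸ I') →ₐ[R] A := Ideal.Quotient.liftₐ I' π hI'le
  have hρq : ∀ p, ρ (q p) = π p := fun p => rfl
  have hρsurj : Function.Surjective ρ := by
    intro a
    obtain ⟨p, rfl⟩ := hπ a
    exact ⟨q p, hρq p⟩
  have hρinj : Function.Injective ρ := by
    rw [injective_iff_map_eq_zero]
    intro m' hm'
    obtain ⟨p, rfl⟩ := Ideal.Quotient.mkₐ_surjective R I' m'
    apply univInjective_tmul_eq_zero R S h
    have hπp : π p = 0 := by rw [← hρq p]; exact hm'
    have h1 : (1 : S) ⊗ₜ[R] p ∈ RingHom.ker πS.toRingHom := by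
      show πS ((1 : S) ⊗ₜ[R] p) = 0
      rw [hπStmul, hπp, TensorProduct.tmul_zero]
    have h2 : qS ((1 : S) ⊗ₜ[R] p) = 0 := hkerle h1
    rw [hqStmul] at h2
    exact h2
  have hI'fg : I'.FG := ⟨G, rfl⟩
  haveI : Algebra.FinitePresentation R (MvPolynomial (Fin n) R ⧸ I') :=
    Algebra.FinitePresentation.quotient hI'fg
  exact Algebra.FinitePresentation.equiv (AlgEquiv.ofBijective ρ ⟨hρinj, hρsurj⟩)

end Helper1
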