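import Mathlib
import Groth.Agent.S1996

universe u

namespace Helper1

open TensorProduct

/-- A weakly étale algebra is formally unramified. -/
theorem formallyUnramified_of_weaklyEtale (R S : Type*) [CommRing R] [CommRing S] [Algebra R S]
    [Algebra.WeaklyEtale R S] : Algebra.FormallyUnramified R S := by
  have hflat := Algebra.WeaklyEtale.flat_lmul' R S
  set f : S ⊗[R] S →+* S := (Algebra.TensorProduct.lmul' R (S := S)).toRingHom with hf
  algebraize [f]
  have hsurj : Function.Surjective (Algebra.ofId (S ⊗[R] S) S) := by
    intro x
    exact ⟨1 ⊗ₜ x, by change Algebra.TensorProduct.lmul' R (1 ⊗ₜ[R] x) = x; simp⟩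
  have hker : RingHom.ker (Algebra.ofId (S ⊗[R] S) S) = KaehlerDifferential.ideal R S := rfl
  have hpure : (KaehlerDifferential.ideal R S).Pure := by
    rw [← hker]
    exact Module.Flat.of_linearEquiv
      (Ideal.quotientKerAlgEquivOfSurjective hsurj).toLinearEquiv
  have hidem := Ideal.isIdempotentElem_of_pure (KaehlerDifferential.ideal R S)
  rw [Algebra.formallyUnramified_iff, KaehlerDifferential, Ideal.cotangent_subsingleton_iff]
  exact hidem

end Helper1
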