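import Mathlib
import Groth.Agent.Lib.helper1.WeaklyEtale

universe u

namespace Helper1

open AlgebraicGeometry CategoryTheory Limits MorphismProperty

set_option backward.isDefEq.respectTransparency.types false in
/-- A weakly étale morphism of schemes is formally unramified. -/
theorem scheme_formallyUnramified_of_weaklyEtale {X Y : Scheme.{u}} (f : X ⟶ Y)
    [AlgebraicGeometry.WeaklyEtale f] : AlgebraicGeometry.FormallyUnramified f := by
  wlog hY : ∃ R, Y = Spec R
  · rw [IsZariskiLocalAtTarget.iff_of_openCover (P := @AlgebraicGeometry.FormallyUnramified)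
      Y.affineCover]
    intro i
    exact this (pullback.snd _ _) ⟨_, rfl⟩
  obtain ⟨R, rfl⟩ := hY
  wlog hX : ∃ S, X = Spec S generalizing X
  · rw [IsZariskiLocalAtSource.iff_of_openCover (P := @AlgebraicGeometry.FormallyUnramified)
      X.affineCover]
    intro i
    exact this (_ ≫ _) ⟨_, rfl⟩
  obtain ⟨S, rfl⟩ := hX
  obtain ⟨φ, rfl : Spec.map φ = f⟩ := Spec.homEquiv.symm.surjective f
  rw [HasRingHomProperty.Spec_iff (P := @AlgebraicGeometry.FormallyUnramified)]
  algebraize [φ.hom]
  have hflat : Module.Flat R S := by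
    have h1 : AlgebraicGeometry.Flat (Spec.map φ) := inferInstance
    rw [HasRingHomProperty.Spec_iff (P := @AlgebraicGeometry.Flat)] at h1
    exact h1
  have hdiag : AlgebraicGeometry.Flat (pullback.diagonal (Spec.map φ)) := inferInstance
  rw [show φ = CommRingCat.ofHom (algebraMap R S) from rfl, diagonal_SpecMap R S,
    cancel_right_of_respectsIso (P := @AlgebraicGeometry.Flat),
    HasRingHomProperty.Spec_iff (P := @AlgebraicGeometry.Flat)] at hdiag
  have : Algebra.WeaklyEtale R S := ⟨hflat, hdiag⟩
  exact Helper1.formallyUnramified_of_weaklyEtale R S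

end Helper1
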